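import Cfsg.Agent.Lib.H51.BauMain

/-!
The action of `D0` on the blocks, `p = 3`.
-/

set_option autoImplicit false
set_option linter.unusedSectionVars false
set_option linter.unusedVariables false

namespace H51.Bau

open Subgroup Cfsg H51.FF H51.OG H52.PRes H52.PCore H53.PU
open scoped commutatorElement MatrixGroups

universe u

attribute [local instance] three_prime

variable {G : Type u} [Group G] [Finite G]

theorem exists_ex {T : Sylow 3 G} {E : Subgroup G} (hG : centralizer (pCore 3 G : Set G) ≤ pCore 3 G)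
    (hE : IsBaumannBlock 3 (T : Subgroup G) E) :
    pCoreOf 3 E = omegaOneCenter 3 (pCoreOf 3 E) ∨ ⁅pCore 3 G, E⁆ ≤ Wf E ∨
      ∃ (F : Type) (_ : Field F) (_ : Fintype F), Ex T E F := by
  rcases hE.2.2.2.2 with ⟨F, i1, i2, n, hF, hiso, h1, h2 | h2⟩ | ⟨-, m, -, -, h2⟩
  · exact Or.inl h2
  · obtain ⟨-, h3, h4, h5, h6, h7, h8⟩ := h2
    by_cases hN : ⁅pCore 3 G, E⁆ ≤ Wf E
    · exact Or.inr (Or.inl hN)
    · exact Or.inr (Or.inr ⟨F, i1, i2,
        { hG := hG
          hE := hE
          hF := ⟨n, hF⟩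
          hZ := by
            rw [hF, ← h7, h6]
            rfl
          iso := hiso
          a1 := h1
          a2 := h3
          qq := h4
          zz := h6
          bq := fun b hb hbW => by
            have := h8 b hb hbW
            rw [h6] at this
            exact this
          hN := hN }⟩)
  · exact Or.inl h2

/-- elements centralizing `V` and `N / U` act trivially on `Q V / V` -/
theorem fix {T : Sylow 3 G} {E : Subgroup G} (hG : centralizer (pCore 3 G : Set G) ≤ pCore 3 G)
    (hE : IsBaumannBlock 3 (T : Subgroup G) E) (hQ : pCoreOf 3 E ≤ pCore 3 G) :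
    ∀ d ∈ D0 G, ∀ q ∈ pCoreOf 3 E, d * q * d⁻¹ * q⁻¹ ∈ Vn G := by
  intro d hd q hq
  have key : pCoreOf 3 E ≤ ⁅Wf E, E⁆ → d * q * d⁻¹ * q⁻¹ ∈ Vn G := by
    intro h
    have h1 : q ∈ Vn G := block_le hG hE (h hq)
    have : d * q * d⁻¹ * q⁻¹ = 1 := by
      rw [(mem_D0.1 hd).1 q h1]; group
    rw [this]; exact one_mem _
  rcases exists_ex hG hE with h | h | ⟨F, i1, i2, ex⟩
  · apply key
    have h2 := hE.2.2.1
    conv_lhs => rw [← h2]
    rw [show Wf E = pCoreOf 3 E from h.symm]
  · apply key
    have h2 := hE.2.2.1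
    have h3 : pCoreOf 3 E ≤ Wf E := by
      conv_lhs => rw [← h2]
      exact (Subgroup.commutator_mono hQ le_rfl).trans h
    conv_lhs => rw [← h2]
    exact Subgroup.commutator_mono h3 le_rfl
  · exact ex.fixD0 lemM ex.quad_main d hd q hq

end H51.Bau
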