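import Cfsg.Agent.Lib.H51.BauIrr
import Cfsg.Agent.Lib.H13.FF1

/-!
Blocks relative to the Baumann subgroup: first properties.
-/

set_option autoImplicit false
set_option linter.unusedSectionVars false
set_option linter.unusedVariables false

namespace H51.Bau

open Subgroup Cfsg H51.FF H51.OG H52.PRes H52.PCore H53.PU
open scoped commutatorElement MatrixGroups

section sec

variable {G : Type*} [Group G]

/-- the section `U / U₀` is irreducible under `E` -/
def SecIrr (E U U₀ : Subgroup G) : Prop :=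
  ∀ N : Subgroup G, N ≤ U → E ≤ normalizer (N : Set G) → ¬ N ≤ U₀ → ∀ u ∈ U, ∃ n ∈ N, ∃ z ∈ U₀, u = n * z

theorem sl_irr {E U U₀ : Subgroup G} {F : Type*} [Field F] [Fintype F]
    (h : ActsAsSL2OnSection F (commutator (Matrix.SpecialLinearGroup (Fin 2) F)) E U U₀) : SecIrr E U U₀ := by
  classical
  intro N hN hEN hne u hu
  obtain ⟨hEU, hU₀, ρ, ψ, hρ, hψ, hker, hact⟩ := h
  obtain ⟨n₀, hn₀, hn₀'⟩ := Set.not_subset.1 hne
  by_cases hu0 : u ∈ U₀
  · exact ⟨1, one_mem _, u, hu0, by rw [one_mul]⟩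
  have hv : Multiplicative.toAdd (ψ ⟨n₀, hN hn₀⟩) ≠ 0 := by
    intro h
    apply hn₀'
    exact (hker ⟨n₀, hN hn₀⟩).1 (Multiplicative.toAdd.injective h)
  have hw : Multiplicative.toAdd (ψ ⟨u, hu⟩) ≠ 0 := by
    intro h
    apply hu0
    exact (hker ⟨u, hu⟩).1 (Multiplicative.toAdd.injective h)
  obtain ⟨r, hr, hrv⟩ := exists_comm hv hw
  rw [← hρ] at hr
  obtain ⟨e, rfl⟩ := hr
  obtain ⟨w, hw1, hw2⟩ := hact e ⟨n₀, hN hn₀⟩
  rw [hrv] at hw2
  have hwN : (w : G) ∈ N := by
    rw [hw1]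
    exact (mem_normalizer_iff.1 (hEN e.2) n₀).1 hn₀
  refine ⟨w, hwN, (w : G)⁻¹ * u, ?_, by group⟩
  have h1 : ψ (w⁻¹ * ⟨u, hu⟩) = 1 := by
    rw [map_mul, map_inv, inv_mul_eq_one]
    exact Multiplicative.toAdd.injective hw2
  exact (hker _).1 h1

theorem perm_irr {E U U₀ : Subgroup G} {m : ℕ}
    (h : ActsAsOddPermModuleOnSection (2 * m + 1) (alternatingGroup (Fin (2 * m + 1))) E U U₀) : SecIrr E U U₀ := by
  classical
  intro N hN hEN hne u hu
  obtain ⟨hEU, hU₀, ρ, ψ, hρ, hsum, hψ, hker, hact⟩ := h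
  obtain ⟨n₀, hn₀, hn₀'⟩ := Set.not_subset.1 hne
  let M : AddSubgroup (Fin (2 * m + 1) → ZMod 2) :=
    { carrier := {v | ∃ n : U, (n : G) ∈ N ∧ Multiplicative.toAdd (ψ n) = v}
      zero_mem' := ⟨1, one_mem _, by rw [map_one]; rfl⟩
      add_mem' := by
        rintro _ _ ⟨a, ha, rfl⟩ ⟨b, hb, rfl⟩
        exact ⟨a * b, mul_mem ha hb, by rw [map_mul]; rfl⟩
      neg_mem' := by
        rintro _ ⟨a, ha, rfl⟩
        exact ⟨a⁻¹, inv_mem ha, by rw [map_inv]; rfl⟩ }
  have hM : ∀ σ ∈ alternatingGroup (Fin (2 * m + 1)), ∀ v ∈ M, (fun i => v (σ⁻¹ i)) ∈ M := by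
    rintro σ hσ _ ⟨n, hn, rfl⟩
    rw [← hρ] at hσ
    obtain ⟨e, rfl⟩ := hσ
    obtain ⟨w, hw1, hw2⟩ := hact e n
    refine ⟨w, ?_, funext hw2⟩
    rw [hw1]
    exact (mem_normalizer_iff.1 (hEN e.2) n).1 hn
  have hv : Multiplicative.toAdd (ψ ⟨n₀, hN hn₀⟩) ≠ 0 := by
    intro h
    apply hn₀'
    exact (hker ⟨n₀, hN hn₀⟩).1 (Multiplicative.toAdd.injective h)
  obtain ⟨w, hwN, hw⟩ := even_irr ⟨m, rfl⟩ M hM (v := Multiplicative.toAdd (ψ ⟨n₀, hN hn₀⟩)) ⟨⟨n₀, hN hn₀⟩, hn₀, rfl⟩ hv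
    (hsum _) (w := Multiplicative.toAdd (ψ ⟨u, hu⟩)) (hsum _)
  refine ⟨w, hwN, (w : G)⁻¹ * u, ?_, by group⟩
  have h1 : ψ (w⁻¹ * ⟨u, hu⟩) = 1 := by
    rw [map_mul, map_inv, inv_mul_eq_one]
    exact Multiplicative.toAdd.injective hw
  exact (hker _).1 h1

/-- the commutator of an irreducible section is in every invariant noncentral subgroup -/
theorem SecIrr.comm_le {E U : Subgroup G} (h : SecIrr E U (U ⊓ centralizer (E : Set G))) {N : Subgroup G} (hN : N ≤ U)
    (hEN : E ≤ normalizer (N : Set G)) (hne : ¬ N ≤ centralizer (E : Set G)) : ⁅U, E⁆ ≤ N := by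
  rw [Subgroup.commutator_le]
  intro u hu e he
  obtain ⟨n, hn, z, hz, rfl⟩ := h N hN hEN (fun h1 => hne (h1.trans inf_le_right)) u hu
  have hz' : e * z = z * e := mem_centralizer_iff.1 (Subgroup.mem_inf.1 hz).2 e he
  have e1 : ⁅n * z, e⁆ = n * (e * n⁻¹ * e⁻¹) := by
    rw [commutatorElement_def]
    have : n * z * e * (n * z)⁻¹ * e⁻¹ = n * (z * e) * z⁻¹ * n⁻¹ * e⁻¹ := by group
    rw [this, ← hz']
    group
  rw [e1]
  exact mul_mem hn ((mem_normalizer_iff.1 (hEN he) _).1 (inv_mem hn))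

end sec

section block

variable {G : Type*} [Group G] [Finite G] {p : ℕ} [hp : Fact p.Prime]

/-- the irreducibility data of a block -/
theorem block_irr {T E : Subgroup G} (hE : IsBaumannBlock p T E) :
    SecIrr E (omegaOneCenter p (pCoreOf p E)) (omegaOneCenter p (pCoreOf p E) ⊓ centralizer (E : Set G)) ∧
    (pCoreOf p E = omegaOneCenter p (pCoreOf p E) ∨
      (SecIrr E (pCoreOf p E) (omegaOneCenter p (pCoreOf p E)) ∧ ⁅pCoreOf p E, pCoreOf p E⁆ ≠ ⊥)) := by
  obtain ⟨-, -, -, -, h | h⟩ := hE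
  · obtain ⟨F, i1, i2, n, hF, -, h1, h2⟩ := h
    refine ⟨sl_irr h1, ?_⟩
    rcases h2 with h2 | ⟨h3, h4, h5, -, h6, h7, -⟩
    · exact Or.inl h2
    · right
      refine ⟨sl_irr h4, ?_⟩
      rw [h5, ← h6]
      intro h8
      rw [h8, Subgroup.card_bot] at h7
      have hn : n ≠ 0 := by
        rintro rfl
        have := Fintype.one_lt_card (α := F)
        rw [hF, pow_zero] at this
        omega
      have := Nat.one_lt_pow hn (show 1 < 3 by norm_num)
      omega
  · obtain ⟨-, m, -, h1, h2⟩ := h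
    exact ⟨perm_irr h1, Or.inl h2⟩

variable {T : Sylow p G} {E : Subgroup G}

theorem core_nz (hE : IsBaumannBlock p (T : Subgroup G) E) : pCore p G ≤ normalizer (E : Set G) :=
  nz_of T hE.1 hE.2.1 isPGroup_pCore (by rw [Subgroup.normalizer_eq_top]; exact le_top)
    (by rw [Subgroup.normalizer_eq_top]; exact le_top)

theorem omega_le (hG : centralizer (pCore p G : Set G) ≤ pCore p G) (T : Sylow p G) :
    omegaOneCenter p (T : Subgroup G) ≤ omegaOneCenter p (pCore p G) := by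
  have h1 : omegaOneCenter p (T : Subgroup G) ≤ centralizer (pCore p G : Set G) :=
    H13.Omega.omegaZ_le_centralizer_pCore T
  apply H13.Omega.le_omegaOne (le_inf (h1.trans hG) h1)
  exact (H13.Omega.isElementaryAbelian_omegaZ (p := p) (T : Subgroup G)).2

/-- the main facts -/
theorem block_main (hG : centralizer (pCore p G : Set G) ≤ pCore p G) (hE : IsBaumannBlock p (T : Subgroup G) E) :
    ⁅omegaOneCenter p (pCore p G), E⁆ = ⁅omegaOneCenter p (pCoreOf p E), E⁆ ∧
    ⁅omegaOneCenter p (pCoreOf p E), E⁆ ≠ ⊥ ∧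
    ⁅⁅omegaOneCenter p (pCoreOf p E), E⁆, E⁆ = ⁅omegaOneCenter p (pCoreOf p E), E⁆ := by
  set V := omegaOneCenter p (pCore p G) with hV
  set Q := pCoreOf p E with hQ
  set W := omegaOneCenter p Q with hW
  have hVO : V ≤ pCore p G := H13.Omega.omegaZ_le _
  have hVe : IsElementaryAbelian p V := H13.Omega.isElementaryAbelian_omegaZ _
  have hVp : IsPGroup p V := isPGroup_pCore.to_le hVO
  have hVn : E ≤ normalizer (V : Set G) := by
    intro g _
    rw [mem_nz_iff]
    show cg g (omegaOne p _) = _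
    rw [omegaOne_cg, cg_inf, map_centralizer]
    have : cg g (pCore p G) = pCore p G := by
      rw [← mem_nz_iff, Subgroup.normalizer_eq_top]; exact Subgroup.mem_top g
    rw [this]
    rfl
  set N := ⁅V, E⁆ with hN
  have hNV : N ≤ V := le_normalizer_iff_commutator_le_left.1 hVn
  have hNE : N ≤ E := by
    have := (hVO.trans (core_nz hE))
    exact le_normalizer_iff_commutator_le_right.1 this
  have hEN : E ≤ normalizer (N : Set G) := normalizer_commutator_ge_right _ _
  have hN2 : ⁅N, E⁆ = N := by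
    apply le_antisymm (le_normalizer_iff_commutator_le_left.1 hEN)
    exact H52.Cop.commutator_le_of_resOf_eq hVp hVn hE.1
  have hN0 : N ≠ ⊥ := by
    intro h
    apply hE.2.2.2.1
    rw [Subgroup.commutator_comm, eq_bot_iff, ← h]
    exact Subgroup.commutator_mono (omega_le hG T) le_rfl
  have hNQ : N ≤ Q := le_pCoreOf hNE hEN (hVp.to_le hNV)
  have hNc : ¬ N ≤ centralizer (E : Set G) := by
    intro h
    apply hN0
    rw [← hN2, Subgroup.commutator_eq_bot_iff_le_centralizer]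
    exact h
  have hWn : E ≤ normalizer (W : Set G) := by
    intro g hg
    rw [mem_nz_iff]
    show cg g (omegaOne p _) = _
    rw [omegaOne_cg, cg_inf, map_centralizer]
    have : cg g Q = Q := by
      rw [← mem_nz_iff]; exact le_normalizer_pCoreOf E hg
    rw [this]
    rfl
  have hWp : IsPGroup p W := (isPGroup_pCoreOf E).to_le (H13.Omega.omegaZ_le _)
  obtain ⟨h1, h2⟩ := block_irr hE
  have hNW : N ≤ W := by
    rcases h2 with h2 | ⟨h2, h3⟩
    · rw [hW, ← h2]; exact hNQ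
    · by_contra hcon
      apply h3
      rw [Subgroup.commutator_eq_bot_iff_le_centralizer]
      intro x hx
      obtain ⟨n, hn, z, hz, rfl⟩ := h2 N hNQ hEN hcon x hx
      rw [mem_centralizer_iff]
      intro y hy
      obtain ⟨n', hn', z', hz', rfl⟩ := h2 N hNQ hEN hcon y hy
      have c1 : ∀ a ∈ Q, ∀ b ∈ W, a * b = b * a := fun a ha b hb =>
        mem_centralizer_iff.1 (H13.Omega.omegaZ_le_centralizer (p := p) Q hb) a ha
      have c2 : n' * n = n * n' := by
        have := hVe.1.is_comm.comm (⟨n', hNV hn'⟩ : V) ⟨n, hNV hn⟩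
        exact congrArg Subtype.val this
      have hWQ : W ≤ Q := H13.Omega.omegaZ_le _
      have c3 := c1 n (hNQ hn) z' hz'
      have c4 := c1 n' (hNQ hn') z hz
      have c5 := c1 z' (hWQ hz') z hz
      calc n' * z' * (n * z) = n' * (z' * n) * z := by group
        _ = (n' * n) * (z' * z) := by rw [← c3]; group
        _ = n * (n' * z) * z' := by rw [c2, c5]; group
        _ = n * z * (n' * z') := by rw [c4]; group
  have hWN : ⁅W, E⁆ ≤ N := h1.comm_le hNW hEN hNc
  have hNW2 : N ≤ ⁅W, E⁆ := by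
    conv_lhs => rw [← hN2]
    exact Subgroup.commutator_mono hNW le_rfl
  have heq : N = ⁅W, E⁆ := le_antisymm hNW2 hWN
  exact ⟨heq, heq ▸ hN0, heq ▸ hN2⟩

theorem block_le (hG : centralizer (pCore p G : Set G) ≤ pCore p G) (hE : IsBaumannBlock p (T : Subgroup G) E) :
    ⁅omegaOneCenter p (pCoreOf p E), E⁆ ≤ omegaOneCenter p (pCore p G) := by
  rw [← (block_main hG hE).1]
  have hVn : E ≤ normalizer (omegaOneCenter p (pCore p G) : Set G) := by
    intro g _
    rw [mem_nz_iff]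
    show cg g (omegaOne p _) = _
    rw [omegaOne_cg, cg_inf, map_centralizer]
    have : cg g (pCore p G) = pCore p G := by
      rw [← mem_nz_iff, Subgroup.normalizer_eq_top]; exact Subgroup.mem_top g
    rw [this]
    rfl
  exact le_normalizer_iff_commutator_le_left.1 hVn

theorem block_res (hE : IsBaumannBlock p (T : Subgroup G) E) : pResidualOf p (E ⊔ pCore p G) = E := by
  apply le_antisymm
  · apply resOf_le_of_pMod
    intro x hx
    obtain ⟨e, he, o, ho, rfl⟩ := (H13.Norm.mem_sup_of_le_normalizer' (core_nz hE)).1 hx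
    obtain ⟨k, hk⟩ := isPGroup_pCore (G := G) (p := p) ⟨o, ho⟩
    have hk' : o ^ p ^ k = 1 := congrArg Subtype.val hk
    refine ⟨k, ?_⟩
    have key : ∀ n : ℕ, ∃ e' ∈ E, (e * o) ^ n = e' * o ^ n := by
      intro n
      induction n with
      | zero => exact ⟨1, one_mem _, by simp⟩
      | succ n ih =>
        obtain ⟨e', he', h⟩ := ih
        refine ⟨e' * (o ^ n * e * (o ^ n)⁻¹), mul_mem he' ((mem_normalizer_iff.1 (pow_mem (core_nz hE ho) n) e).1 he), ?_⟩
        rw [pow_succ, h, pow_succ]; group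
    obtain ⟨e', he', h⟩ := key (p ^ k)
    rw [h, hk', mul_one]; exact he'
  · conv_lhs => rw [← hE.1]
    exact resOf_mono le_sup_left

theorem block_thompson (hG : centralizer (pCore p G : Set G) ≤ pCore p G) (hE : IsBaumannBlock p (T : Subgroup G) E) :
    ⁅⁅omegaOneCenter p (pCoreOf p E), E⁆, thompsonSubgroupOf p (T : Subgroup G)⁆ ≠ ⊥ := by
  obtain ⟨h1, h2, h3⟩ := block_main hG hE
  set W := ⁅omegaOneCenter p (pCoreOf p E), E⁆ with hW
  intro hcon
  rw [Subgroup.commutator_eq_bot_iff_le_centralizer] at hcon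
  have hWV := block_le hG hE
  have hVe : IsElementaryAbelian p (omegaOneCenter p (pCore p G)) := H13.Omega.isElementaryAbelian_omegaZ _
  have hWT : W ≤ (T : Subgroup G) := (hWV.trans (H13.Omega.omegaZ_le _)).trans (H13.Cores.pCore_le_sylow T)
  have hWJ : W ≤ thompsonSubgroupOf p (T : Subgroup G) := by
    intro x hx
    have h4 : (⟨x, hWT hx⟩ : (T : Subgroup G)) ∈ thompsonSubgroup p (T : Subgroup G) := by
      apply H13.Thompson.mem_thompson_of_centralizes
      · rw [mem_centralizer_iff]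
        intro y hy
        apply Subtype.ext
        exact mem_centralizer_iff.1 (hcon hx) y ⟨y, hy, rfl⟩
      · exact Subtype.ext (hVe.2 x (hWV hx))
    exact ⟨_, h4, rfl⟩
  have hWZ : W ≤ omegaOne p (centerThompsonOf p (T : Subgroup G)) :=
    H13.Omega.le_omegaOne (le_inf hWJ hcon) (fun x hx => hVe.2 x (hWV hx))
  have hB : ⁅W, baumannSubgroupOf p (T : Subgroup G)⁆ = ⊥ := by
    rw [Subgroup.commutator_eq_bot_iff_le_centralizer]
    exact hWZ.trans (le_centralizer_iff.1 (bau_le_centralizer _))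
  have h5 : ⁅⁅E, baumannSubgroupOf p (T : Subgroup G)⁆, W⁆ = ⊥ := by
    apply H13.FF1.three_sub
    · rw [h3]; exact hB
    · rw [hB, Subgroup.commutator_bot_left]
  rw [hE.2.1, Subgroup.commutator_comm, h3] at h5
  exact h2 h5

end block

end H51.Bau
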