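import Cfsg.Agent.Lib.H53.PU2

/-!
The conjugation action of a subgroup `P ≤ N(V)` on an abelian subgroup `V`, as a module.
-/

set_option autoImplicit false

namespace H51.NAct

open Subgroup H53.PU

variable {G : Type*} [Group G]

/-- commutativity as an additive group -/
@[reducible] def addV (V : Subgroup G) (hV : ∀ a ∈ V, ∀ b ∈ V, a * b = b * a) : AddCommGroup (Additive V) :=
  { (inferInstance : AddGroup (Additive V)) with
    add_comm := by
      intro x y
      apply Additive.toMul.injective
      apply Subtype.ext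
      exact hV _ x.toMul.2 _ y.toMul.2 }

theorem conj_mem_of {V P : Subgroup G} (hPV : P ≤ normalizer (V : Set G)) {g v : G} (hg : g ∈ P) (hv : v ∈ V) :
    g * v * g⁻¹ ∈ V := (Subgroup.mem_normalizer_iff.1 (hPV hg) v).1 hv

/-- the conjugation action -/
@[reducible] def actV (V P : Subgroup G) (hV : ∀ a ∈ V, ∀ b ∈ V, a * b = b * a)
    (hPV : P ≤ normalizer (V : Set G)) : letI := addV V hV
    DistribMulAction P (Additive V) :=
  letI := addV V hV
  { smul := fun g x => Additive.ofMul ⟨g * x.toMul * (g : G)⁻¹, conj_mem_of hPV g.2 x.toMul.2⟩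
    one_smul := by
      intro x
      apply Additive.toMul.injective
      apply Subtype.ext
      show ((1 : P) : G) * x.toMul * ((1 : P) : G)⁻¹ = x.toMul
      rw [OneMemClass.coe_one, one_mul, inv_one, mul_one]
    mul_smul := by
      intro a b x
      apply Additive.toMul.injective
      apply Subtype.ext
      show ((a * b : P) : G) * x.toMul * ((a * b : P) : G)⁻¹ = (a : G) * ((b : G) * x.toMul * (b : G)⁻¹) * (a : G)⁻¹
      rw [Subgroup.coe_mul]; group
    smul_zero := by
      intro a
      apply Additive.toMul.injective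
      apply Subtype.ext
      show (a : G) * 1 * (a : G)⁻¹ = 1
      group
    smul_add := by
      intro a x y
      apply Additive.toMul.injective
      apply Subtype.ext
      show (a : G) * ((x.toMul : G) * (y.toMul : G)) * (a : G)⁻¹ = ((a : G) * x.toMul * (a : G)⁻¹) * ((a : G) * y.toMul * (a : G)⁻¹)
      group }

section

variable (V P : Subgroup G) (hV : ∀ a ∈ V, ∀ b ∈ V, a * b = b * a) (hPV : P ≤ normalizer (V : Set G))

theorem smul_coe (g : P) (v : V) :
    letI := addV V hV
    letI := actV V P hV hPV
    (((g • (Additive.ofMul v : Additive V)).toMul : V) : G) = g * v * (g : G)⁻¹ := rfl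

theorem smul_iff (g : P) (v w : V) :
    letI := addV V hV
    letI := actV V P hV hPV
    g • (Additive.ofMul v : Additive V) = Additive.ofMul w ↔ (g : G) * v * (g : G)⁻¹ = w := by
  letI := addV V hV
  letI := actV V P hV hPV
  constructor
  · intro h
    rw [← smul_coe V P hV hPV, h]; rfl
  · intro h
    apply Additive.toMul.injective
    exact Subtype.ext h

theorem smul_eq_self_iff (g : P) (v : V) :
    letI := addV V hV
    letI := actV V P hV hPV
    g • (Additive.ofMul v : Additive V) = Additive.ofMul v ↔ (g : G) * v = v * g := by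
  letI := addV V hV
  letI := actV V P hV hPV
  rw [smul_iff, mul_inv_eq_iff_eq_mul]

theorem mem_fx_iff (B : Subgroup P) (v : V) :
    letI := addV V hV
    letI := actV V P hV hPV
    (Additive.ofMul v : Additive V) ∈ fx (Additive V) B ↔ (v : G) ∈ centralizer ((B.map P.subtype : Subgroup G) : Set G) := by
  letI := addV V hV
  letI := actV V P hV hPV
  rw [mem_centralizer_iff]
  constructor
  · rintro h _ ⟨b, hb, rfl⟩
    exact (smul_eq_self_iff V P hV hPV b v).1 (h b hb)
  · intro h b hb
    exact (smul_eq_self_iff V P hV hPV b v).2 (h _ ⟨b, hb, rfl⟩)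

theorem card_fx (B : Subgroup P) :
    letI := addV V hV
    letI := actV V P hV hPV
    Nat.card (fx (Additive V) B) = Nat.card ↥(V ⊓ centralizer ((B.map P.subtype : Subgroup G) : Set G)) := by
  letI := addV V hV
  letI := actV V P hV hPV
  refine Nat.card_congr ⟨fun x => ⟨((x : Additive V).toMul : V), (x : Additive V).toMul.2, ?_⟩,
    fun y => ⟨Additive.ofMul ⟨y, y.2.1⟩, ?_⟩, ?_, ?_⟩
  · exact (mem_fx_iff V P hV hPV B (x : Additive V).toMul).1 x.2
  · exact (mem_fx_iff V P hV hPV B ⟨y, y.2.1⟩).2 y.2.2
  · intro x; rfl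
  · intro y; rfl

theorem fix_all_iff (g : P) :
    letI := addV V hV
    letI := actV V P hV hPV
    (∀ v : Additive V, g • v = v) ↔ (g : G) ∈ centralizer (V : Set G) := by
  letI := addV V hV
  letI := actV V P hV hPV
  rw [mem_centralizer_iff]
  constructor
  · intro h v hv
    exact ((smul_eq_self_iff V P hV hPV g ⟨v, hv⟩).1 (h _)).symm
  · intro h v
    obtain ⟨v, rfl⟩ := Additive.ofMul.surjective v
    exact (smul_eq_self_iff V P hV hPV g v).2 (h v v.2).symm

end

end H51.NAct
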