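import Cfsg.Agent.Lib.H51.BauExH
import Cfsg.Agent.Lib.H52.QD4
import Cfsg.Agent.Lib.H56.BmP

/-!
`C_G(W_E)` normalizes the block `E`.
-/

set_option autoImplicit false
set_option linter.unusedSectionVars false
set_option linter.unusedVariables false

namespace H51.Bau

open Subgroup Cfsg H51.FF H51.OG H52.PRes H52.PCore H53.PU
open scoped commutatorElement MatrixGroups

universe u

theorem Ex.quad_main {G : Type u} [Group G] [Finite G] {T : Sylow 3 G} {E : Subgroup G} {F : Type} [Field F] [Fintype F]
    (ex : Ex T E F) : Quad T E := by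
  intro b hb
  obtain ⟨h1, h2⟩ := H52.QD.quad ex hb
  exact ⟨fun w hw => h1 w hw _ 1 rfl, h2⟩

variable {G : Type u} [Group G] [Finite G] {p : ℕ} [hp : Fact p.Prime]

theorem le_core {T : Sylow p G} {E : Subgroup G} (hE : IsBaumannBlock p (T : Subgroup G) E) :
    ⁅pCore p G, E⁆ ≤ pCoreOf p E := by
  have h1 : ⁅pCore p G, E⁆ ≤ E := le_normalizer_iff_commutator_le_right.1 (core_nz hE)
  have h2 : ⁅pCore p G, E⁆ ≤ pCore p G := by
    rw [← le_normalizer_iff_commutator_le_left, Subgroup.normalizer_eq_top]; exact le_top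
  exact le_pCoreOf h1 (normalizer_commutator_ge_right _ _) (isPGroup_pCore.to_le h2)

/-- S2985 -/
theorem cent_le_nz (hG : centralizer (pCore p G : Set G) ≤ pCore p G) (T : Sylow p G) (E : Subgroup G)
    (hE : IsBaumannBlock p (T : Subgroup G) E) :
    centralizer ((⁅omegaOneCenter p (pCoreOf p E), E⁆ : Subgroup G) : Set G) ≤ normalizer (E : Set G) := by
  have key : pCoreOf p E = omegaOneCenter p (pCoreOf p E) →
      centralizer ((⁅omegaOneCenter p (pCoreOf p E), E⁆ : Subgroup G) : Set G) ≤ normalizer (E : Set G) := by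
    intro h
    apply H56.BmP.nonexc hG hE
    refine (le_core hE).trans ?_
    rw [← h]
    exact hE.2.2.1.ge
  rcases hE.2.2.2.2 with ⟨F, i1, i2, n, hF, hiso, h1, h2 | h2⟩ | ⟨-, m, -, -, h2⟩
  · exact key h2
  · obtain ⟨hp3, h3, h4, h5, h6, h7, h8⟩ := h2
    subst hp3
    by_cases hN : ⁅pCore 3 G, E⁆ ≤ Wf E
    · apply H56.BmP.nonexc hG hE
      refine (H52.Cop.commutator_le_of_resOf_eq isPGroup_pCore ?_ hE.1).trans (Subgroup.commutator_mono hN le_rfl)
      rw [Subgroup.normalizer_eq_top]; exact le_top
    · have ex : Ex T E F :=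
        { hG := hG
          hE := hE
          hF := ⟨n, hF⟩
          hZ := by
            rw [hF, ← h7, h6]
            rfl
          iso := hiso
          a1 := h1
          a2 := h3
          qq := h4
          zz := h6
          bq := fun b hb hbW => by
            have := h8 b hb hbW
            rw [h6] at this
            exact this
          hN := hN }
      exact H56.BmP.of_pgroup hE (ex.comm_pgroup ex.quad_main)
  · exact key h2

end H51.Bau
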