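import Cfsg.Agent.Lib.H25.BzA2c
import Cfsg.Agent.Lib.H56.BZ0

/-!
Normalizers of alternating blocks.
-/

set_option autoImplicit false
set_option linter.all false

namespace H51.BZ

open Subgroup Cfsg H51.FF H51.OG H52.PRes H52.PCore H51.Bau H1.Coprime2 H56.BmP H56.BmQ H56.BmV H56.BZ
open scoped commutatorElement MatrixGroups

variable {G : Type*} [Group G] [Finite G]

theorem alt_sq {n : ℕ} (hn : 5 ≤ n) (hG : centralizer (pCore 2 G : Set G) ≤ pCore 2 G) {T : Sylow 2 G} {E : Subgroup G}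
    (hE : IsBaumannBlock 2 (T : Subgroup G) E)
    (hact : ActsAsOddPermModuleOnSection n (alternatingGroup (Fin n)) E
          (omegaOneCenter 2 (pCoreOf 2 E)) (omegaOneCenter 2 (pCoreOf 2 E) ⊓ centralizer (E : Set G))) {h : G}
    (hh : h ∈ normalizer (E : Set G)) : h ^ 2 ∈ E ⊔ centralizer (WB 2 E : Set G) := by
  classical
  obtain ⟨hEU, hU₀, ρ, ψ, hρ, hsum, hψ, hker, hact⟩ := hact
  have hN : normalizer (E : Set G) ≤ normalizer (omegaOneCenter 2 (pCoreOf 2 E) : Set G) := nz_omegaOneCenter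
  have hN0 : normalizer (E : Set G) ≤ normalizer ((omegaOneCenter 2 (pCoreOf 2 E) ⊓ centralizer (E : Set G) : Subgroup G) : Set G) := by
    intro g hg
    rw [mem_nz_iff, cg_inf, map_centralizer, (mem_nz_iff).1 hg, (mem_nz_iff).1 (hN hg)]
  have eq_iff : ∀ u v : ↥(omegaOneCenter 2 (pCoreOf 2 E)), ψ u = ψ v ↔
      ∃ w ∈ omegaOneCenter 2 (pCoreOf 2 E) ⊓ centralizer (E : Set G), (u : G) = v * w := by
    intro u v
    constructor
    · intro h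
      refine ⟨(v : G)⁻¹ * u, ?_, by group⟩
      have h1 : ψ (v⁻¹ * u) = 1 := by rw [map_mul, map_inv, h, inv_mul_cancel]
      exact (hker _).1 h1
    · rintro ⟨w, hw, h⟩
      have h1 : u = v * ⟨w, hU₀ hw⟩ := Subtype.ext h
      rw [h1, map_mul, (hker ⟨w, hU₀ hw⟩).2 hw, mul_one]
  have hcj : ∀ (g : G), g ∈ normalizer (E : Set G) → ∀ (u : ↥(omegaOneCenter 2 (pCoreOf 2 E))), g * u * g⁻¹ ∈ omegaOneCenter 2 (pCoreOf 2 E) :=
    fun g hg u => (mem_normalizer_iff.1 (hN hg) u).1 u.2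
  have key : ∀ (g : G), g ∈ normalizer (E : Set G) → ∀ (u v u' v' : ↥(omegaOneCenter 2 (pCoreOf 2 E))), ψ u = ψ v →
      (u' : G) = g * u * g⁻¹ → (v' : G) = g * v * g⁻¹ → ψ u' = ψ v' := by
    intro g hg u v u' v' h h1 h2
    obtain ⟨w, hw, hw'⟩ := (eq_iff u v).1 h
    rw [eq_iff]
    refine ⟨g * w * g⁻¹, (mem_normalizer_iff.1 (hN0 hg) w).1 hw, ?_⟩
    rw [h1, h2, hw']; group
  have hs : ∀ v : Fin n → ZMod 2, ∃ u : ↥(omegaOneCenter 2 (pCoreOf 2 E)), ∑ i, v i = 0 → Multiplicative.toAdd (ψ u) = v := by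
    intro v
    by_cases hv : ∑ i, v i = 0
    · obtain ⟨u, hu⟩ := hψ v hv
      exact ⟨u, fun _ => hu⟩
    · exact ⟨1, fun h => absurd h hv⟩
  choose s hs using hs
  let x : (Fin n → ZMod 2) → (Fin n → ZMod 2) := fun v => Multiplicative.toAdd (ψ ⟨h * s v * h⁻¹, hcj h hh (s v)⟩)
  have hx : ∀ u u' : ↥(omegaOneCenter 2 (pCoreOf 2 E)), (u' : G) = h * u * h⁻¹ →
      x (Multiplicative.toAdd (ψ u)) = Multiplicative.toAdd (ψ u') := by
    intro u u' hu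
    show Multiplicative.toAdd (ψ _) = _
    congr 1
    exact key h hh (s (Multiplicative.toAdd (ψ u))) u _ u' (Multiplicative.toAdd.injective (hs _ (hsum u))) rfl hu
  obtain ⟨π, hπ⟩ := H25.BZ.norm_perm hn x (fun v hv => hsum _) (by
    intro v w hv hw
    obtain ⟨u, hu⟩ := hψ v hv
    obtain ⟨u', hu'⟩ := hψ w hw
    have h1 : v + w = Multiplicative.toAdd (ψ (u * u')) := by rw [map_mul, toAdd_mul, hu, hu']
    rw [h1, hx (u * u') (⟨_, hcj h hh u⟩ * ⟨_, hcj h hh u'⟩) (by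
      show h * u * h⁻¹ * (h * u' * h⁻¹) = h * (u * u' : G) * h⁻¹
      group), map_mul, toAdd_mul]
    conv_rhs => rw [← hu, ← hu', hx u ⟨_, hcj h hh u⟩ rfl, hx u' ⟨_, hcj h hh u'⟩ rfl]) (by
    intro v hv hxv
    obtain ⟨u, hu⟩ := hψ v hv
    have h1 := hx u ⟨_, hcj h hh u⟩ rfl
    rw [hu, hxv] at h1
    have h2 : ψ ⟨_, hcj h hh u⟩ = 1 := Multiplicative.toAdd.injective h1.symm
    have h3 := (hker _).1 h2
    have h4 : (u : G) ∈ omegaOneCenter 2 (pCoreOf 2 E) ⊓ centralizer (E : Set G) := (mem_normalizer_iff.1 (hN0 hh) u).2 h3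
    have h5 := (hker u).2 h4
    rw [← hu, h5]; rfl) (by
    intro w hw
    obtain ⟨u, hu⟩ := hψ w hw
    have hi := inv_mem hh
    refine ⟨Multiplicative.toAdd (ψ ⟨_, hcj h⁻¹ hi u⟩), hsum _, ?_⟩
    rw [hx ⟨_, hcj h⁻¹ hi u⟩ u (by
      show (u : G) = h * (h⁻¹ * u * h⁻¹⁻¹) * h⁻¹
      group), hu]) (by
    intro σ hσ
    have hσ' : σ ∈ ρ.range := by rw [hρ]; exact hσ
    obtain ⟨e, rfl⟩ := hσ'
    have he : h * e * h⁻¹ ∈ E := (mem_normalizer_iff.1 hh e).1 e.2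
    refine ⟨ρ ⟨_, he⟩, by rw [← hρ]; exact ⟨_, rfl⟩, fun v hv i => ?_⟩
    obtain ⟨u, hu⟩ := hψ v hv
    obtain ⟨w, hw1, hw2⟩ := hact e u
    obtain ⟨w', hw1', hw2'⟩ := hact ⟨_, he⟩ ⟨_, hcj h hh u⟩
    have h1 : (fun i => v ((ρ e)⁻¹ i)) = Multiplicative.toAdd (ψ w) := by
      funext j
      rw [hw2 j, hu]
    rw [h1, hx w w' (by
      rw [hw1', hw1]
      show (h * e * h⁻¹) * (h * u * h⁻¹) * (h * e * h⁻¹)⁻¹ = _
      group), hw2' i, ← hu, hx u ⟨_, hcj h hh u⟩ rfl])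
  -- `π²` is even
  have hπ2 : π ^ 2 ∈ alternatingGroup (Fin n) := by
    rw [Equiv.Perm.mem_alternatingGroup, map_pow]
    exact Int.units_sq _
  rw [← hρ] at hπ2
  obtain ⟨e, he⟩ := hπ2
  have hc : (e : G)⁻¹ * h ^ 2 ∈ normalizer (E : Set G) := mul_mem (inv_mem (le_normalizer e.2)) (pow_mem hh 2)
  have hcC : (e : G)⁻¹ * h ^ 2 ∈ centralizer (WB 2 E : Set G) := by
    apply ts hG hE hc
    intro w hw
    have hwU : w ∈ omegaOneCenter 2 (pCoreOf 2 E) := H52.BB.XW hw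
    set u : ↥(omegaOneCenter 2 (pCoreOf 2 E)) := ⟨w, hwU⟩ with hu
    have h2m : h ^ 2 * u * (h ^ 2)⁻¹ ∈ omegaOneCenter 2 (pCoreOf 2 E) := hcj _ (pow_mem hh 2) u
    have h1 : ∀ i, Multiplicative.toAdd (ψ ⟨_, h2m⟩) i = Multiplicative.toAdd (ψ u) ((π ^ 2)⁻¹ i) := by
      intro i
      have h3 := hx u ⟨_, hcj h hh u⟩ rfl
      have h4 := hx ⟨_, hcj h hh u⟩ ⟨_, h2m⟩ (by
        show h ^ 2 * u * (h ^ 2)⁻¹ = h * (h * u * h⁻¹) * h⁻¹
        simp only [sq, mul_inv_rev, mul_assoc])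
      rw [← h4, hπ _ (hsum _), ← h3, hπ _ (hsum _), sq, mul_inv_rev, Equiv.Perm.mul_apply]
    obtain ⟨w', hw1', hw2'⟩ := hact e u
    have h5 : ψ w' = ψ ⟨_, h2m⟩ := by
      apply Multiplicative.toAdd.injective
      funext i
      rw [hw2' i, h1 i, he]
    have hei : (e : G)⁻¹ ∈ normalizer (E : Set G) := inv_mem (le_normalizer e.2)
    have hcm := hcj _ hc u
    have h6 := key _ hei w' ⟨_, h2m⟩ u ⟨_, hcm⟩ h5 (by rw [hw1']; group) (by
      show (e : G)⁻¹ * h ^ 2 * u * ((e : G)⁻¹ * h ^ 2)⁻¹ = (e : G)⁻¹ * (h ^ 2 * u * (h ^ 2)⁻¹) * (e : G)⁻¹⁻¹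
      group)
    have h7 : ψ (⟨_, hcm⟩ * u⁻¹) = 1 := by rw [map_mul, map_inv, ← h6, mul_inv_cancel]
    exact (Subgroup.mem_inf.1 ((hker _).1 h7)).2
  have h3 : h ^ 2 = e * ((e : G)⁻¹ * h ^ 2) := by group
  rw [h3]
  exact Subgroup.mul_mem_sup e.2 hcC

theorem alt_HP (hG : centralizer (pCore 2 G : Set G) ≤ pCore 2 G) {T : Sylow 2 G} {E : Subgroup G} {m : ℕ} (hm : 2 ≤ m)
    (hE : IsBaumannBlock 2 (T : Subgroup G) E)
    (hiso : Nonempty (↥E ⧸ pCore 2 ↥E ≃* ↥(alternatingGroup (Fin (2 * m + 1)))))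
    (hact : ActsAsOddPermModuleOnSection (2 * m + 1) (alternatingGroup (Fin (2 * m + 1))) E
          (omegaOneCenter 2 (pCoreOf 2 E)) (omegaOneCenter 2 (pCoreOf 2 E) ⊓ centralizer (E : Set G))) :
    HP 2 (T : Subgroup G) E :=
  ⟨normalizer (E : Set G), le_normalizer, le_rfl, le_normalizer, le_nz_of_comm hE.2.1,
    fun h hh => ⟨1, by rw [pow_one]; exact alt_sq (by omega) hG hE hact hh⟩⟩

end H51.BZ
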