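import Cfsg.Agent.Lib.H51.GamL
import Cfsg.Agent.Lib.H56.BmQ1
import Cfsg.Agent.Lib.H52.BB1

/-!
Coordinates of linear blocks.
-/

set_option autoImplicit false
set_option linter.all false

namespace H51.BZ

open Subgroup Cfsg H51.FF H51.OG H52.PRes H52.PCore H51.Bau H1.Coprime2 H56.BmP H56.BmQ H51.GamL
open scoped commutatorElement MatrixGroups

section pure

variable {F : Type*} [Field F] {p : ℕ} [hp : Fact p.Prime] [CharP F p]

theorem lin_part [Finite F] (P : Subgroup (Equiv.Perm (Fin 2 → F))) (hpP : IsPGroup p P)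
    (hc : ∀ x ∈ P, ∀ y ∈ P, x * y = y * x)
    (hA : ∀ β ∈ P, Ad β) (hS : ∀ β ∈ P, ∃ σ : F ≃+* F, Sem β σ)
    (heq : Nat.card P * Nat.card (fxp P hA) = Nat.card F ^ 2) (hne : P ≠ ⊥) :
    (∀ β ∈ P, ∃ s : SL(2, F), ∀ x, β x = (s : Matrix (Fin 2) (Fin 2) F).mulVec x) ∧
    ∀ v₀ : Fin 2 → F, v₀ ≠ 0 → (∀ β ∈ P, β v₀ = v₀) →
      (∀ x, (∀ β ∈ P, β x = x) ↔ ∃ l : F, x = l • v₀) ∧
      ∀ g : SL(2, F), (g : Matrix (Fin 2) (Fin 2) F).mulVec v₀ = v₀ → ∃ β ∈ P, ∀ x, β x = (g : Matrix (Fin 2) (Fin 2) F).mulVec x := by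
  obtain ⟨h1, h2⟩ := (main (p := p) P hpP hc hA hS).2 heq |>.resolve_left hne
  refine ⟨h2, fun v₀ hv0 hfix => ?_⟩
  obtain ⟨w, hd⟩ := exists_dt hv0
  have hL : ∀ β ∈ P, Lin β := by
    intro β hβ
    obtain ⟨s, hs⟩ := h2 β hβ
    exact ⟨hA β hβ, fun c v => by rw [hs, hs, Matrix.mulVec_smul]⟩
  constructor
  · intro x
    constructor
    · intro hx
      exact fxp_line (p := p) hfix hL hpP hd hne hx
    · rintro ⟨l, rfl⟩ β hβ
      rw [(hL β hβ).2, hfix β hβ]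
  · intro g hg
    have h3 := card_le_par (p := p) hfix hL hpP hd
    rw [h1] at h3
    have h4 : par P v₀ w hfix hL = ⊤ := by
      apply AddSubgroup.eq_top_of_le_card
      exact h3
    obtain ⟨a, b, hab⟩ := cramer hd ((g : Matrix (Fin 2) (Fin 2) F).mulVec w)
    have hb : b = 1 := by
      have h5 : ∀ x y : Fin 2 → F, GamL.dt ((g : Matrix (Fin 2) (Fin 2) F).mulVec x) ((g : Matrix (Fin 2) (Fin 2) F).mulVec y) =
          (g : Matrix (Fin 2) (Fin 2) F).det * GamL.dt x y := by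
        intro x y
        simp only [GamL.dt, Matrix.mulVec, dotProduct, Fin.sum_univ_two, Matrix.det_fin_two]
        ring
      have h6 := h5 v₀ w
      rw [hg, hab, Matrix.SpecialLinearGroup.det_coe, one_mul] at h6
      have h7 : GamL.dt v₀ (a • v₀ + b • w) = b * GamL.dt v₀ w := by simp [GamL.dt]; ring
      rw [h7] at h6
      have : (b - 1) * GamL.dt v₀ w = 0 := by linear_combination h6
      exact sub_eq_zero.mp ((mul_eq_zero.mp this).resolve_right hd)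
    have h5 : a ∈ par P v₀ w hfix hL := by rw [h4]; trivial
    obtain ⟨β, hβ, h6⟩ := h5
    refine ⟨β, hβ, fun x => ?_⟩
    obtain ⟨s, t, rfl⟩ := cramer hd x
    rw [(hL β hβ).1, (hL β hβ).2, (hL β hβ).2, hfix β hβ, h6, Matrix.mulVec_add, Matrix.mulVec_smul, Matrix.mulVec_smul, hg,
      hab, hb, one_smul, add_comm w]

end pure

section act

variable {G : Type*} [Group G] [Finite G] {F : Type} [Field F] {E U U₀ : Subgroup G} {ρ : ↥E →* SL(2, F)}
  {ψ : ↥U →* Multiplicative (Fin 2 → F)}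

theorem exists_X (c : Crd F E U U₀ ρ ψ) {N : Subgroup G} (hN : N ≤ normalizer (U : Set G)) (hN0 : N ≤ normalizer (U₀ : Set G)) :
    ∃ X : ↥N →* Equiv.Perm (Fin 2 → F), ∀ (g : ↥N) (u u' : ↥U), (u' : G) = g * u * (g : G)⁻¹ →
      X g (Multiplicative.toAdd (ψ u)) = Multiplicative.toAdd (ψ u') := by
  classical
  have hs : ∀ v : Fin 2 → F, ∃ u : ↥U, Multiplicative.toAdd (ψ u) = v := fun v => c.sur (Multiplicative.ofAdd v)
  choose s hs using hs
  have hcj : ∀ (g : ↥N) (u : ↥U), (g : G) * u * (g : G)⁻¹ ∈ U := fun g u => (mem_normalizer_iff.1 (hN g.2) u).1 u.2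
  have key : ∀ (g : ↥N) (u v u' v' : ↥U), ψ u = ψ v → (u' : G) = g * u * (g : G)⁻¹ → (v' : G) = g * v * (g : G)⁻¹ → ψ u' = ψ v' := by
    intro g u v u' v' h h1 h2
    obtain ⟨w, hw, hw'⟩ := (c.eq_iff u v).1 h
    rw [c.eq_iff]
    refine ⟨g * w * (g : G)⁻¹, (mem_normalizer_iff.1 (hN0 g.2) w).1 hw, ?_⟩
    rw [h1, h2, hw']; group
  let f : ↥N → (Fin 2 → F) → (Fin 2 → F) := fun g v => Multiplicative.toAdd (ψ ⟨(g : G) * s v * (g : G)⁻¹, hcj g (s v)⟩)
  have hf : ∀ (g : ↥N) (u u' : ↥U), (u' : G) = g * u * (g : G)⁻¹ →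
      f g (Multiplicative.toAdd (ψ u)) = Multiplicative.toAdd (ψ u') := by
    intro g u u' h
    show Multiplicative.toAdd (ψ _) = _
    congr 1
    exact key g (s (Multiplicative.toAdd (ψ u))) u _ u' (Multiplicative.toAdd.injective (hs _)) rfl h
  have hf1 : ∀ v, f 1 v = v := by
    intro v
    have := hf 1 (s v) (s v) (by simp)
    rwa [hs] at this
  have hfm : ∀ g h v, f (g * h) v = f g (f h v) := by
    intro g h v
    have h1 := hf h (s v) ⟨_, hcj h (s v)⟩ rfl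
    have h2 := hf g ⟨_, hcj h (s v)⟩ ⟨_, hcj g ⟨_, hcj h (s v)⟩⟩ rfl
    have h3 := hf (g * h) (s v) ⟨_, hcj g ⟨_, hcj h (s v)⟩⟩ (by
      show (g : G) * ((h : G) * s v * (h : G)⁻¹) * (g : G)⁻¹ = (g * h : G) * s v * (g * h : G)⁻¹
      group)
    rw [hs] at h1 h3
    rw [h3, h1, h2]
  let f' : ↥N →* Function.End (Fin 2 → F) :=
    { toFun := f
      map_one' := funext hf1
      map_mul' := fun g h => funext (hfm g h) }
  exact ⟨f'.toHomPerm, fun g u u' h => hf g u u' h⟩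

theorem X_add (c : Crd F E U U₀ ρ ψ) {N : Subgroup G} (hN : N ≤ normalizer (U : Set G))
    {X : ↥N →* Equiv.Perm (Fin 2 → F)} (hX : ∀ (g : ↥N) (u u' : ↥U), (u' : G) = g * u * (g : G)⁻¹ →
      X g (Multiplicative.toAdd (ψ u)) = Multiplicative.toAdd (ψ u')) (g : ↥N) : Ad (X g) := by
  intro v w
  obtain ⟨u, hu⟩ := c.sur (Multiplicative.ofAdd v)
  obtain ⟨u', hu'⟩ := c.sur (Multiplicative.ofAdd w)
  have hcj : ∀ (u : ↥U), (g : G) * u * (g : G)⁻¹ ∈ U := fun u => (mem_normalizer_iff.1 (hN g.2) u).1 u.2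
  have h1 : v + w = Multiplicative.toAdd (ψ (u * u')) := by rw [map_mul, hu, hu']; rfl
  have h2 : v = Multiplicative.toAdd (ψ u) := by rw [hu]; rfl
  have h3 : w = Multiplicative.toAdd (ψ u') := by rw [hu']; rfl
  rw [h1, hX g (u * u') (⟨_, hcj u⟩ * ⟨_, hcj u'⟩) (by
    show (g : G) * u * (g : G)⁻¹ * ((g : G) * u' * (g : G)⁻¹) = g * (u * u' : G) * (g : G)⁻¹
    group), map_mul]
  conv_rhs => rw [h2, h3, hX g u ⟨_, hcj u⟩ rfl, hX g u' ⟨_, hcj u'⟩ rfl]
  rfl

theorem X_nrm (c : Crd F E U U₀ ρ ψ) (hr : ρ.range = ⊤) {N : Subgroup G} (hN : N ≤ normalizer (U : Set G)) (hNE : N ≤ normalizer (E : Set G))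
    {X : ↥N →* Equiv.Perm (Fin 2 → F)} (hX : ∀ (g : ↥N) (u u' : ↥U), (u' : G) = g * u * (g : G)⁻¹ →
      X g (Multiplicative.toAdd (ψ u)) = Multiplicative.toAdd (ψ u')) (g : ↥N) (s : SL(2, F)) :
    ∃ s' : SL(2, F), ∀ v : Fin 2 → F,
      X g ((s : Matrix (Fin 2) (Fin 2) F).mulVec v) = (s' : Matrix (Fin 2) (Fin 2) F).mulVec (X g v) := by
  have hs : s ∈ ρ.range := by rw [hr]; trivial
  obtain ⟨e, rfl⟩ := hs
  have he : (g : G) * e * (g : G)⁻¹ ∈ E := (mem_normalizer_iff.1 (hNE g.2) e).1 e.2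
  refine ⟨ρ ⟨_, he⟩, fun v => ?_⟩
  obtain ⟨u, hu⟩ := c.sur (Multiplicative.ofAdd v)
  have h2 : v = Multiplicative.toAdd (ψ u) := by rw [hu]; rfl
  have hcj : ∀ (u : ↥U), (g : G) * u * (g : G)⁻¹ ∈ U := fun u => (mem_normalizer_iff.1 (hN g.2) u).1 u.2
  obtain ⟨w, hw1, hw2⟩ := c.act e u
  obtain ⟨w', hw1', hw2'⟩ := c.act ⟨_, he⟩ ⟨_, hcj u⟩
  rw [h2, ← hw2, hX g u ⟨_, hcj u⟩ rfl, ← hw2']
  apply hX g
  rw [hw1', hw1]
  show (g : G) * e * (g : G)⁻¹ * ((g : G) * u * (g : G)⁻¹) * ((g : G) * e * (g : G)⁻¹)⁻¹ = _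
  group

theorem X_sem [Finite F] (c : Crd F E U U₀ ρ ψ) (hr : ρ.range = ⊤) {N : Subgroup G} (hN : N ≤ normalizer (U : Set G)) (hNE : N ≤ normalizer (E : Set G))
    {X : ↥N →* Equiv.Perm (Fin 2 → F)} (hX : ∀ (g : ↥N) (u u' : ↥U), (u' : G) = g * u * (g : G)⁻¹ →
      X g (Multiplicative.toAdd (ψ u)) = Multiplicative.toAdd (ψ u')) (g : ↥N) : ∃ σ : F ≃+* F, Sem (X g) σ := by
  let β : (Fin 2 → F) ≃+ (Fin 2 → F) := { X g with map_add' := X_add c hN hX g }
  obtain ⟨σ, hσ⟩ := exists_sem (β := β) (X_nrm c hr hN hNE hX g)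
  exact ⟨σ, hσ⟩

end act

section blk

variable {G : Type*} [Group G] [Finite G] {p : ℕ} [hp : Fact p.Prime]
variable {T : Sylow p G} {E : Subgroup G}

/-- the kernel of the action -/
theorem X_ker {F : Type} [Field F] {ρ : ↥E →* SL(2, F)}
    {ψ : ↥(omegaOneCenter p (pCoreOf p E)) →* Multiplicative (Fin 2 → F)}
    (hG : centralizer (pCore p G : Set G) ≤ pCore p G) (hE : IsBaumannBlock p (T : Subgroup G) E)
    (c : Crd F E (omegaOneCenter p (pCoreOf p E)) (omegaOneCenter p (pCoreOf p E) ⊓ centralizer (E : Set G)) ρ ψ)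
    {X : ↥(normalizer (E : Set G)) →* Equiv.Perm (Fin 2 → F)}
    (hX : ∀ (g : ↥(normalizer (E : Set G))) (u u' : ↥(omegaOneCenter p (pCoreOf p E))), (u' : G) = g * u * (g : G)⁻¹ →
      X g (Multiplicative.toAdd (ψ u)) = Multiplicative.toAdd (ψ u')) :
    (X.ker).map (normalizer (E : Set G)).subtype ≤ centralizer (WB p E : Set G) := by
  have hN : normalizer (E : Set G) ≤ normalizer (omegaOneCenter p (pCoreOf p E) : Set G) := nz_omegaOneCenter
  have hk : ∀ (g : ↥(normalizer (E : Set G))), X g = 1 → ∀ u ∈ (omegaOneCenter p (pCoreOf p E)), (g : G) * u * (g : G)⁻¹ * u⁻¹ ∈ (omegaOneCenter p (pCoreOf p E)) ⊓ centralizer (E : Set G) := by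
    intro g hg u hu
    have h1 : (g : G) * u * (g : G)⁻¹ ∈ (omegaOneCenter p (pCoreOf p E)) := (mem_normalizer_iff.1 (hN g.2) u).1 hu
    have h2 := hX g ⟨u, hu⟩ ⟨_, h1⟩ rfl
    rw [hg] at h2
    have h3 : ψ ⟨u, hu⟩ = ψ ⟨_, h1⟩ := Multiplicative.toAdd.injective h2
    have h4 : ψ (⟨_, h1⟩ * ⟨u, hu⟩⁻¹) = 1 := by rw [map_mul, map_inv, h3, mul_inv_cancel]
    exact (c.ker _).1 h4
  set B := (X.ker).map (normalizer (E : Set G)).subtype with hB
  obtain ⟨b1, b2, b3⟩ := block_main hG hE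
  have hEB : ⁅E, B⁆ ≤ pCoreOf p E := by
    rw [Subgroup.commutator_le]
    rintro e he _ ⟨g, hg, rfl⟩
    have hg' : X g = 1 := hg
    have h1 : (g : G) * e⁻¹ * (g : G)⁻¹ ∈ E := (mem_normalizer_iff.1 g.2 _).1 (inv_mem he)
    have h2 : ⁅e, (g : G)⁆ ∈ E := by
      have : ⁅e, (g : G)⁆ = e * ((g : G) * e⁻¹ * (g : G)⁻¹) := by simp only [commutatorElement_def]; group
      rw [this]; exact mul_mem he h1
    apply H52.BB.ker_sec hE h2
    intro w hw
    let x : ↥(normalizer (E : Set G)) := ⁅(⟨e, le_normalizer he⟩ : ↥(normalizer (E : Set G))), g⁆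
    have hx : X x = 1 := by
      rw [map_commutatorElement, hg', commutatorElement_one_right]
    exact hk x hx w hw
  have hWB : ⁅WB p E, B⁆ ≤ centralizer (E : Set G) := by
    rw [Subgroup.commutator_le]
    rintro w hw _ ⟨g, hg, rfl⟩
    have h1 : w⁻¹ ∈ (omegaOneCenter p (pCoreOf p E)) := H52.BB.XW (inv_mem hw)
    have h2 := hk g hg _ h1
    rw [inv_inv] at h2
    have h3 := (Subgroup.mem_inf.1 h2)
    have h4 : ⁅w, (g : G)⁆ = w * ((g : G) * w⁻¹ * (g : G)⁻¹) := by simp only [commutatorElement_def]; group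
    have h5 : w * ((g : G) * w⁻¹ * (g : G)⁻¹) = (g : G) * w⁻¹ * (g : G)⁻¹ * w := by
      have hab : IsElementaryAbelian p (omegaOneCenter p (pCoreOf p E)) := H13.Omega.isElementaryAbelian_omegaZ _
      have h6 : (g : G) * w⁻¹ * (g : G)⁻¹ ∈ (omegaOneCenter p (pCoreOf p E)) := (mem_normalizer_iff.1 (hN g.2) _).1 h1
      have := hab.1.is_comm.comm (⟨w, H52.BB.XW hw⟩ : (omegaOneCenter p (pCoreOf p E))) ⟨_, h6⟩
      exact congrArg Subtype.val this
    show ⁅w, (g : G)⁆ ∈ _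
    rw [h4, h5]; exact h3.2
  have h1 : ⁅⁅E, B⁆, WB p E⁆ = ⊥ := by
    rw [Subgroup.commutator_eq_bot_iff_le_centralizer]
    intro q hq
    rw [mem_centralizer_iff]
    intro w hw
    exact (H52.BB.QWc (hEB hq) (H52.BB.XW hw)).symm
  have h2 : ⁅⁅WB p E, B⁆, E⁆ = ⊥ := by
    rw [Subgroup.commutator_eq_bot_iff_le_centralizer]; exact hWB
  have h3 : ⁅⁅E, WB p E⁆, B⁆ = ⊥ := by
    have := H13.FF1.three_sub (X := B) (Y := E) (Z := WB p E) (by rw [Subgroup.commutator_comm B E]; exact h1)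
      (by rw [Subgroup.commutator_comm B (WB p E)]; exact h2)
    exact this
  have h4 : ⁅E, WB p E⁆ = WB p E := by rw [Subgroup.commutator_comm]; exact b3
  rw [h4, Subgroup.commutator_comm, Subgroup.commutator_eq_bot_iff_le_centralizer] at h3
  exact h3

theorem arith {cA cP cC cW d e cS f Q : ℕ} (h1 : cA = cP * cC) (h2 : cW * f = cS * Q) (h3 : cC * cW ≤ cA * d) (h4 : d ≤ e)
    (h5 : e ≤ cS) (h6 : cP * f ≤ Q) (hC : 0 < cC) (hS : 0 < cS) (hQ : 0 < Q) : cP * f = Q ∧ e = cS := by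
  have h7 : cW ≤ cP * d := by
    have : cC * cW ≤ cC * (cP * d) := by rw [h1] at h3; calc cC * cW ≤ cP * cC * d := h3
      _ = cC * (cP * d) := by ring
    exact Nat.le_of_mul_le_mul_left this hC
  have h8 : cS * Q ≤ d * (cP * f) := by
    rw [← h2]
    calc cW * f ≤ cP * d * f := Nat.mul_le_mul_right _ h7
      _ = d * (cP * f) := by ring
  have h9 : cS * Q ≤ d * Q := h8.trans (Nat.mul_le_mul_left _ h6)
  have h10 : cS ≤ d := Nat.le_of_mul_le_mul_right h9 hQ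
  have h11 : d = cS := by omega
  refine ⟨?_, by omega⟩
  rw [h11] at h8
  have := Nat.le_of_mul_le_mul_left h8 hS
  omega

/-- counting -/
theorem card_S {F : Type} [Field F] [Finite F] {U W : Subgroup G} (hWU : W ≤ U) {ψ : ↥U →* Multiplicative (Fin 2 → F)}
    (hs : ∀ v : Fin 2 → F, ∃ w, ∃ hw : w ∈ W, Multiplicative.toAdd (ψ ⟨w, hWU hw⟩) = v) (D : AddSubgroup (Fin 2 → F)) :
    ∃ S : Subgroup G, (∀ w, w ∈ S ↔ ∃ hw : w ∈ W, Multiplicative.toAdd (ψ ⟨w, hWU hw⟩) ∈ D) ∧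
      Nat.card W * Nat.card D = Nat.card S * Nat.card F ^ 2 := by
  let f : ↥W →* Multiplicative (Fin 2 → F) := ψ.comp (inclusion hWU)
  have hf : Function.Surjective f := by
    intro v
    obtain ⟨w, hw, h⟩ := hs (Multiplicative.toAdd v)
    exact ⟨⟨w, hw⟩, h⟩
  let D' : Subgroup (Multiplicative (Fin 2 → F)) := AddSubgroup.toSubgroup D
  refine ⟨(D'.comap f).map W.subtype, ?_, ?_⟩
  · intro w
    constructor
    · rintro ⟨x, hx, rfl⟩
      exact ⟨x.2, hx⟩
    · rintro ⟨hw, h⟩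
      exact ⟨⟨w, hw⟩, h, rfl⟩
  · have h1 := Subgroup.card_mul_index (D'.comap f)
    have h2 := Subgroup.card_mul_index D'
    rw [Subgroup.index_comap_of_surjective _ hf] at h1
    have h3 : Nat.card (Multiplicative (Fin 2 → F)) = Nat.card F ^ 2 := by
      show Nat.card (Fin 2 → F) = _
      rw [Nat.card_fun, Nat.card_eq_fintype_card (α := Fin 2), Fintype.card_fin]
    have h4 : Nat.card D' = Nat.card D := rfl
    rw [h3, h4] at h2
    have h5 : Nat.card ((D'.comap f).map W.subtype) = Nat.card (D'.comap f) :=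
      Subgroup.card_map_of_injective W.subtype_injective
    rw [h5, ← h1, ← h2]; ring

/-- one maximal elementary abelian subgroup -/
theorem oneA {F : Type} [Field F] [Fintype F] {n : ℕ} (hF : Fintype.card F = p ^ n) {ρ : ↥E →* SL(2, F)}
    {ψ : ↥(omegaOneCenter p (pCoreOf p E)) →* Multiplicative (Fin 2 → F)}
    (hG : centralizer (pCore p G : Set G) ≤ pCore p G) (hE : IsBaumannBlock p (T : Subgroup G) E)
    (c : Crd F E (omegaOneCenter p (pCoreOf p E)) (omegaOneCenter p (pCoreOf p E) ⊓ centralizer (E : Set G)) ρ ψ)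
    (hr : ρ.range = ⊤)
    {X : ↥(normalizer (E : Set G)) →* Equiv.Perm (Fin 2 → F)}
    (hX : ∀ (g : ↥(normalizer (E : Set G))) (u u' : ↥(omegaOneCenter p (pCoreOf p E))), (u' : G) = g * u * (g : G)⁻¹ →
      X g (Multiplicative.toAdd (ψ u)) = Multiplicative.toAdd (ψ u'))
    (A' : Subgroup G) (hAT : A' ≤ (T : Subgroup G)) (hAe : IsElementaryAbelian p A')
    (hmax : ∀ B : Subgroup G, B ≤ (T : Subgroup G) → IsElementaryAbelian p B → Nat.card B ≤ Nat.card A')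
    (hAN : A' ≤ normalizer (E : Set G))
    (hAd : ∀ β ∈ (X.comp (inclusion hAN)).range, Ad β) :
    Nat.card (X.comp (inclusion hAN)).range * Nat.card (fxp (X.comp (inclusion hAN)).range hAd) = Nat.card F ^ 2 ∧
    ∀ w (hw : w ∈ omegaOneCenter p (pCoreOf p E)), w ∈ WB p E →
      ((w ∈ centralizer (A' : Set G)) ↔
        ∀ β ∈ (X.comp (inclusion hAN)).range, β (Multiplicative.toAdd (ψ ⟨w, hw⟩)) = Multiplicative.toAdd (ψ ⟨w, hw⟩)) := by
  haveI : CharP F p := charP_of_card_eq_prime_pow hF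
  have hN : normalizer (E : Set G) ≤ normalizer ((omegaOneCenter p (pCoreOf p E)) : Set G) := nz_omegaOneCenter
  have hXk := X_ker hG hE c hX
  have hWU : WB p E ≤ (omegaOneCenter p (pCoreOf p E)) := H52.BB.XW
  have hWV : WB p E ≤ omegaOneCenter p (pCore p G) := block_le hG hE
  have hVe : IsElementaryAbelian p (omegaOneCenter p (pCore p G)) := H13.Omega.isElementaryAbelian_omegaZ _
  have hWe : IsElementaryAbelian p (WB p E) := H13.ElemAb.of_le hVe hWV
  have hWT : WB p E ≤ (T : Subgroup G) := (hWV.trans (H13.Omega.omegaZ_le _)).trans (H13.Cores.pCore_le_sylow T)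
  set fA := X.comp (inclusion hAN) with hfA
  have hs : ∀ v : Fin 2 → F, ∃ w, ∃ hw : w ∈ WB p E, Multiplicative.toAdd (ψ ⟨w, hWU hw⟩) = v := by
    intro v
    obtain ⟨u, hu⟩ := c.sur (Multiplicative.ofAdd v)
    obtain ⟨a, ha, z, hz, haz⟩ := H52.BB.Wdec hE u.2
    refine ⟨a, ha, ?_⟩
    have h1 : ψ u = ψ ⟨a, hWU ha⟩ := by
      rw [c.eq_iff]; exact ⟨z, hz, haz⟩
    rw [← h1, hu]; rfl
  obtain ⟨S, hS1, hS2⟩ := card_S hWU hs (fxp fA.range hAd)
  -- the image is an elementary abelian p-group normalizing `SL₂`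
  have hpP : IsPGroup p fA.range := by
    rintro ⟨_, x, rfl⟩
    obtain ⟨k, hk⟩ := H13.ElemAb.isPGroup hAe x
    refine ⟨k, Subtype.ext ?_⟩
    show fA x ^ p ^ k = 1
    rw [← map_pow, hk, map_one]
  have hcm : ∀ x ∈ fA.range, ∀ y ∈ fA.range, x * y = y * x := by
    rintro _ ⟨a, rfl⟩ _ ⟨b, rfl⟩
    rw [← map_mul, ← map_mul]
    congr 1
    exact Subtype.ext (H13.ElemAb.comm hAe a.2 b.2)
  have hSm : ∀ β ∈ fA.range, ∃ σ : F ≃+* F, Sem β σ := by
    rintro _ ⟨a, rfl⟩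
    exact X_sem c hr hN le_rfl hX _
  have hmain := (main (p := p) fA.range hpP hcm hAd hSm).1
  set C := fA.ker.map A'.subtype with hC
  have hCA : C ≤ A' := Subgroup.map_subtype_le _
  have hcC : Nat.card C = Nat.card fA.ker := Subgroup.card_map_of_injective A'.subtype_injective
  have hCW : C ≤ centralizer (WB p E : Set G) := by
    refine le_trans ?_ hXk
    rintro _ ⟨x, hx, rfl⟩
    exact ⟨⟨x, hAN x.2⟩, hx, rfl⟩
  have h1 : Nat.card A' = Nat.card fA.range * Nat.card C := by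
    have := Subgroup.card_mul_index fA.ker
    rw [Subgroup.index_ker] at this
    rw [← this, hcC]; ring
  have hCe : IsElementaryAbelian p (C ⊔ WB p E) :=
    H13.ElemAb.sup (H13.ElemAb.of_le hAe hCA) hWe hCW
  have h3 : Nat.card C * Nat.card (WB p E) ≤ Nat.card A' * Nat.card ↥(C ⊓ WB p E) := by
    rw [← H13.Thompson.card_sup_mul_card_inf (hCW.trans (Subgroup.centralizer_le_normalizer _))]
    apply Nat.mul_le_mul_right
    exact hmax _ (sup_le (hCA.trans hAT) hWT) hCe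
  have h4 : Nat.card ↥(C ⊓ WB p E) ≤ Nat.card ↥(WB p E ⊓ centralizer (A' : Set G)) := by
    apply Subgroup.card_le_of_le
    refine le_inf inf_le_right (inf_le_left.trans (hCA.trans ?_))
    exact H13.ElemAb.le_centralizer hAe
  have hle : WB p E ⊓ centralizer (A' : Set G) ≤ S := by
    intro w hw
    obtain ⟨hw1, hw2⟩ := Subgroup.mem_inf.1 hw
    rw [hS1]
    refine ⟨hw1, ?_⟩
    rintro _ ⟨a, rfl⟩
    apply hX (inclusion hAN a) ⟨w, hWU hw1⟩ ⟨w, hWU hw1⟩
    have := mem_centralizer_iff.1 hw2 a a.2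
    show w = (a : G) * w * (a : G)⁻¹
    rw [this]; group
  have h5 : Nat.card ↥(WB p E ⊓ centralizer (A' : Set G)) ≤ Nat.card S := Subgroup.card_le_of_le hle
  have hres := arith h1 hS2 h3 h4 h5 hmain Nat.card_pos Nat.card_pos (pow_pos Nat.card_pos 2)
  refine ⟨hres.1, ?_⟩
  have heq : WB p E ⊓ centralizer (A' : Set G) = S := Subgroup.eq_of_le_of_card_ge hle hres.2.ge
  intro w hw hwW
  constructor
  · intro hwc
    have : w ∈ S := hle (Subgroup.mem_inf.2 ⟨hwW, hwc⟩)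
    rw [hS1] at this
    obtain ⟨hw', h⟩ := this
    exact h
  · intro h
    have : w ∈ S := by
      rw [hS1]; exact ⟨hwW, h⟩
    rw [← heq] at this
    exact (Subgroup.mem_inf.1 this).2

theorem exists_fix {F : Type} [Field F] [Fintype F] [CharP F p] (P : Subgroup (Equiv.Perm (Fin 2 → F))) (hpP : IsPGroup p P)
    (hA : ∀ β ∈ P, Ad β) : ∃ v : Fin 2 → F, v ≠ 0 ∧ ∀ β ∈ P, β v = v := by
  have hN : Nat.card (Fin 2 → F) = Nat.card F ^ 2 := by rw [Nat.card_fun, Nat.card_eq_fintype_card (α := Fin 2), Fintype.card_fin]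
  have hpF : p ∣ Nat.card F := by
    have h1 : ((Nat.card F : ℕ) : F) = 0 := by
      rw [Nat.card_eq_fintype_card]
      exact FiniteField.cast_card_eq_zero F
    exact (CharP.cast_eq_zero_iff F p _).mp h1
  have h1 := hpP.card_modEq_card_fixedPoints (Fin 2 → F)
  have h2 : p ∣ Nat.card (MulAction.fixedPoints P (Fin 2 → F)) := by
    rw [← Nat.modEq_zero_iff_dvd] at *
    refine h1.symm.trans ?_
    rw [hN, Nat.modEq_zero_iff_dvd]
    exact dvd_pow ((Nat.modEq_zero_iff_dvd).mp hpF) (by norm_num)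
  have h3 : (0 : Fin 2 → F) ∈ MulAction.fixedPoints P (Fin 2 → F) := by
    rintro ⟨β, hβ⟩
    exact (hA β hβ).zero
  have h4 : 1 < Nat.card (MulAction.fixedPoints P (Fin 2 → F)) := by
    have : Nonempty (MulAction.fixedPoints P (Fin 2 → F)) := ⟨⟨0, h3⟩⟩
    exact lt_of_lt_of_le hp.out.one_lt (Nat.le_of_dvd Nat.card_pos h2)
  rw [Finite.one_lt_card_iff_nontrivial] at h4
  obtain ⟨x, hx⟩ := exists_ne (⟨0, h3⟩ : MulAction.fixedPoints P (Fin 2 → F))
  exact ⟨x, fun h => hx (Subtype.ext h), fun β hβ => x.2 ⟨β, hβ⟩⟩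

/-- **coordinates of linear blocks** -/
theorem lin_base {F : Type} [Field F] [Fintype F] {n : ℕ} (hF : Fintype.card F = p ^ n) (h4 : 4 ≤ Fintype.card F)
    (hG : centralizer (pCore p G : Set G) ≤ pCore p G) (hE : IsBaumannBlock p (T : Subgroup G) E)
    (hiso : Nonempty (↥E ⧸ pCore p ↥E ≃* ↥(commutator (Matrix.SpecialLinearGroup (Fin 2) F))))
    (hact : ActsAsSL2OnSection F (commutator (Matrix.SpecialLinearGroup (Fin 2) F)) E
          (omegaOneCenter p (pCoreOf p E)) (omegaOneCenter p (pCoreOf p E) ⊓ Subgroup.centralizer (E : Set G))) :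
    ∃ (ρ : ↥E →* SL(2, F)) (ψ : ↥(omegaOneCenter p (pCoreOf p E)) →* Multiplicative (Fin 2 → F)) (v₀ : Fin 2 → F),
      Crd F E (omegaOneCenter p (pCoreOf p E)) (omegaOneCenter p (pCoreOf p E) ⊓ centralizer (E : Set G)) ρ ψ ∧ v₀ ≠ 0 ∧
      (∀ w (hw : w ∈ omegaOneCenter p (pCoreOf p E)), w ∈ WB p E →
        ((w ∈ centralizer (thompsonSubgroupOf p (T : Subgroup G) : Set G)) ↔
          ∃ l : F, Multiplicative.toAdd (ψ ⟨w, hw⟩) = l • v₀)) ∧
      (∀ g : SL(2, F), (g : Matrix (Fin 2) (Fin 2) F).mulVec v₀ = v₀ →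
        ∃ j ∈ thompsonSubgroupOf p (T : Subgroup G), ∀ u u' : ↥(omegaOneCenter p (pCoreOf p E)),
          (u' : G) = j * u * j⁻¹ →
            Multiplicative.toAdd (ψ u') = (g : Matrix (Fin 2) (Fin 2) F).mulVec (Multiplicative.toAdd (ψ u))) := by
  haveI : CharP F p := charP_of_card_eq_prime_pow hF
  obtain ⟨ρ, ψ, c⟩ := exists_crd hact
  have hr : ρ.range = ⊤ := by rw [c.rng]; exact H52.BB.comm_top4 h4
  have hN : normalizer (E : Set G) ≤ normalizer (omegaOneCenter p (pCoreOf p E) : Set G) := nz_omegaOneCenter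
  have hN0 : normalizer (E : Set G) ≤ normalizer ((omegaOneCenter p (pCoreOf p E) ⊓ centralizer (E : Set G) : Subgroup G) : Set G) := by
    intro g hg
    rw [mem_nz_iff, cg_inf, map_centralizer, (mem_nz_iff).1 hg, (mem_nz_iff).1 (hN hg)]
  obtain ⟨X, hX⟩ := exists_X c hN hN0
  have hJN : thompsonSubgroupOf p (T : Subgroup G) ≤ normalizer (E : Set G) :=
    (thompson_le_bau _).trans (le_nz_of_comm hE.2.1)
  have hAd0 : ∀ g, Ad (X g) := fun g => X_add c hN hX g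
  have hJp : IsPGroup p (thompsonSubgroupOf p (T : Subgroup G)) := T.2.to_le (Subgroup.map_subtype_le _)
  set PJ := (X.comp (inclusion hJN)).range with hPJ
  have hAdJ : ∀ β ∈ PJ, Ad β := by
    rintro _ ⟨x, rfl⟩
    exact hAd0 _
  have hpJ : IsPGroup p PJ := by
    rintro ⟨_, x, rfl⟩
    obtain ⟨k, hk⟩ := hJp x
    refine ⟨k, Subtype.ext ?_⟩
    show (X.comp (inclusion hJN)) x ^ p ^ k = 1
    rw [← map_pow, hk, map_one]
  obtain ⟨v₀, hv0, hfix⟩ := exists_fix PJ hpJ hAdJ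
  have hAJ : ∀ A ∈ maxElementaryAbelianSubgroups p ↥(T : Subgroup G), A.map (T : Subgroup G).subtype ≤ thompsonSubgroupOf p (T : Subgroup G) :=
    fun A hA => Subgroup.map_mono (H13.Thompson.le_thompson hA)
  have hAN : ∀ A ∈ maxElementaryAbelianSubgroups p ↥(T : Subgroup G), A.map (T : Subgroup G).subtype ≤ normalizer (E : Set G) :=
    fun A hA => (hAJ A hA).trans hJN
  have hPA : ∀ A (hA : A ∈ maxElementaryAbelianSubgroups p ↥(T : Subgroup G)), (X.comp (inclusion (hAN A hA))).range ≤ PJ := by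
    rintro A hA _ ⟨x, rfl⟩
    exact ⟨⟨x, hAJ A hA x.2⟩, rfl⟩
  have hJle : ∀ K : Subgroup G, (∀ A ∈ maxElementaryAbelianSubgroups p ↥(T : Subgroup G), A.map (T : Subgroup G).subtype ≤ K) →
      thompsonSubgroupOf p (T : Subgroup G) ≤ K := by
    intro K hK
    show (sSup (maxElementaryAbelianSubgroups p ↥(T : Subgroup G))).map _ ≤ K
    rw [Subgroup.map_le_iff_le_comap]
    exact sSup_le fun A hA => Subgroup.map_le_iff_le_comap.1 (hK A hA)
  -- the data for each `A`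
  have hone : ∀ A (hA : A ∈ maxElementaryAbelianSubgroups p ↥(T : Subgroup G)), _ := fun A hA =>
    oneA hF hG hE c hr hX (A.map (T : Subgroup G).subtype) (Subgroup.map_subtype_le _) (H13.ElemAb.map hA.1 _) (by
      intro B hB hBe
      have h1 := hA.2 (B.subgroupOf (T : Subgroup G)) (H13.ElemAb.subgroupOf hBe _)
      rw [Subgroup.card_map_of_injective (T : Subgroup G).subtype_injective]
      refine le_trans ?_ h1
      exact (Nat.card_congr (Subgroup.subgroupOfEquivOfLe hB).toEquiv).ge) (hAN A hA) (fun β hβ => hAdJ β (hPA A hA hβ))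
  have hlin : ∀ A (hA : A ∈ maxElementaryAbelianSubgroups p ↥(T : Subgroup G)), (X.comp (inclusion (hAN A hA))).range ≠ ⊥ → _ :=
    fun A hA hne => (lin_part (p := p) (X.comp (inclusion (hAN A hA))).range (hpJ.to_le (hPA A hA)) (by
      rintro _ ⟨a, rfl⟩ _ ⟨b, rfl⟩
      rw [← map_mul, ← map_mul]
      congr 1
      exact Subtype.ext (H13.ElemAb.comm (H13.ElemAb.map hA.1 _) a.2 b.2)) (fun β hβ => hAdJ β (hPA A hA hβ)) (by
      rintro _ ⟨a, rfl⟩
      exact X_sem c hr hN le_rfl hX _) (hone A hA).1 hne).2 v₀ hv0 (fun β hβ => hfix β (hPA A hA hβ))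
  obtain ⟨A₀, hA₀, hne⟩ : ∃ A, ∃ hA : A ∈ maxElementaryAbelianSubgroups p ↥(T : Subgroup G), (X.comp (inclusion (hAN A hA))).range ≠ ⊥ := by
    by_contra hcon
    push Not at hcon
    apply block_thompson hG hE
    rw [Subgroup.commutator_comm, Subgroup.commutator_eq_bot_iff_le_centralizer]
    apply hJle
    intro A hA
    refine le_trans ?_ (X_ker hG hE c hX)
    intro x hx
    refine ⟨⟨x, hAN A hA hx⟩, ?_, rfl⟩
    have h1 : (X.comp (inclusion (hAN A hA))) ⟨x, hx⟩ ∈ (X.comp (inclusion (hAN A hA))).range := ⟨_, rfl⟩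
    rw [hcon A hA, Subgroup.mem_bot] at h1
    exact h1
  refine ⟨ρ, ψ, v₀, c, hv0, ?_, ?_⟩
  · intro w hw hwW
    constructor
    · intro hwc
      have h1 := ((hone A₀ hA₀).2 w hw hwW).1 (Subgroup.centralizer_le (hAJ A₀ hA₀) hwc)
      exact ((hlin A₀ hA₀ hne).1 _).1 h1
    · rintro ⟨l, hl⟩
      have h1 : thompsonSubgroupOf p (T : Subgroup G) ≤ centralizer ({w} : Set G) := by
        apply hJle
        intro A hA
        have h2 : w ∈ centralizer (A.map (T : Subgroup G).subtype : Set G) := by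
          rw [(hone A hA).2 w hw hwW]
          by_cases hAb : (X.comp (inclusion (hAN A hA))).range = ⊥
          · intro β hβ
            rw [hAb, Subgroup.mem_bot] at hβ
            rw [hβ]; rfl
          · rw [hl]
            exact ((hlin A hA hAb).1 _).2 ⟨l, rfl⟩
        intro x hx
        rw [mem_centralizer_iff]
        rintro _ rfl
        exact (mem_centralizer_iff.1 h2 x hx).symm
      rw [mem_centralizer_iff]
      intro x hx
      exact (mem_centralizer_iff.1 (h1 hx) w rfl).symm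
  · intro g hg
    obtain ⟨β, ⟨x, rfl⟩, hβ⟩ := (hlin A₀ hA₀ hne).2 g hg
    refine ⟨x, hAJ A₀ hA₀ x.2, fun u u' h => ?_⟩
    rw [← hβ, ← hX (inclusion (hAN A₀ hA₀) x) u u' h]
    rfl

end blk

end H51.BZ
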