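import Cfsg.Agent.Lib.H51.BZL0

/-!
The Baumann subgroup acts on a linear block through the block.
-/

set_option autoImplicit false
set_option linter.all false

namespace H51.BZ

open Subgroup Cfsg H51.FF H51.OG H52.PRes H52.PCore H51.Bau H1.Coprime2 H56.BmP H56.BmQ H51.GamL
open scoped commutatorElement MatrixGroups

variable {G : Type*} [Group G] [Finite G] {p : ℕ} [hp : Fact p.Prime]
variable {T : Sylow p G} {E : Subgroup G}

theorem lin_HP {F : Type} [Field F] [Fintype F] {n : ℕ} (hF : Fintype.card F = p ^ n) (h4 : 4 ≤ Fintype.card F)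
    (hG : centralizer (pCore p G : Set G) ≤ pCore p G) (hE : IsBaumannBlock p (T : Subgroup G) E)
    (hiso : Nonempty (↥E ⧸ pCore p ↥E ≃* ↥(commutator (Matrix.SpecialLinearGroup (Fin 2) F))))
    (hact : ActsAsSL2OnSection F (commutator (Matrix.SpecialLinearGroup (Fin 2) F)) E
          (omegaOneCenter p (pCoreOf p E)) (omegaOneCenter p (pCoreOf p E) ⊓ Subgroup.centralizer (E : Set G))) :
    baumannSubgroupOf p (T : Subgroup G) ≤ E ⊔ centralizer (WB p E : Set G) := by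
  haveI : CharP F p := charP_of_card_eq_prime_pow hF
  obtain ⟨ρ, ψ, v₀, c, hv0, hfix, -⟩ := lin_base hF h4 hG hE hiso hact
  have hr : ρ.range = ⊤ := by rw [c.rng]; exact H52.BB.comm_top4 h4
  have hN : normalizer (E : Set G) ≤ normalizer (omegaOneCenter p (pCoreOf p E) : Set G) := nz_omegaOneCenter
  have hN0 : normalizer (E : Set G) ≤ normalizer ((omegaOneCenter p (pCoreOf p E) ⊓ centralizer (E : Set G) : Subgroup G) : Set G) := by
    intro g hg
    rw [mem_nz_iff, cg_inf, map_centralizer, (mem_nz_iff).1 hg, (mem_nz_iff).1 (hN hg)]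
  obtain ⟨X, hX⟩ := exists_X c hN hN0
  have hXk := X_ker hG hE c hX
  have hBN : baumannSubgroupOf p (T : Subgroup G) ≤ normalizer (E : Set G) := le_nz_of_comm hE.2.1
  have hWU : WB p E ≤ omegaOneCenter p (pCoreOf p E) := H52.BB.XW
  have hWV : WB p E ≤ omegaOneCenter p (pCore p G) := block_le hG hE
  have hVe : IsElementaryAbelian p (omegaOneCenter p (pCore p G)) := H13.Omega.isElementaryAbelian_omegaZ _
  have hWT : WB p E ≤ (T : Subgroup G) := (hWV.trans (H13.Omega.omegaZ_le _)).trans (H13.Cores.pCore_le_sylow T)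
  -- the fixed vectors are in `Ω₁(Z(J(T)))`
  have hPZ : WB p E ⊓ centralizer (thompsonSubgroupOf p (T : Subgroup G) : Set G) ≤
      omegaOne p (centerThompsonOf p (T : Subgroup G)) := by
    refine H13.Omega.le_omegaOne (le_inf ?_ inf_le_right) (fun x hx => hVe.2 x (hWV (Subgroup.mem_inf.1 hx).1))
    intro x hx
    obtain ⟨hx1, hx2⟩ := Subgroup.mem_inf.1 hx
    have h4 : (⟨x, hWT hx1⟩ : (T : Subgroup G)) ∈ thompsonSubgroup p (T : Subgroup G) := by
      apply H13.Thompson.mem_thompson_of_centralizes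
      · rw [mem_centralizer_iff]
        intro y hy
        apply Subtype.ext
        exact mem_centralizer_iff.1 hx2 y ⟨y, hy, rfl⟩
      · exact Subtype.ext (hVe.2 x (hWV hx1))
    exact ⟨_, h4, rfl⟩
  intro b hb
  set g : ↥(normalizer (E : Set G)) := ⟨b, hBN hb⟩ with hg
  have hAd : Ad (X g) := X_add c hN hX g
  -- `b` fixes the line
  have hline : ∀ l : F, X g (l • v₀) = l • v₀ := by
    intro l
    obtain ⟨u, hu⟩ := c.sur (Multiplicative.ofAdd (l • v₀))
    obtain ⟨a, ha, z, hz, haz⟩ := H52.BB.Wdec hE u.2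
    have h1 : ψ u = ψ ⟨a, hWU ha⟩ := by
      rw [c.eq_iff]; exact ⟨z, hz, haz⟩
    have h2 : Multiplicative.toAdd (ψ ⟨a, hWU ha⟩) = l • v₀ := by rw [← h1, hu]; rfl
    have h3 : a ∈ centralizer (thompsonSubgroupOf p (T : Subgroup G) : Set G) :=
      (hfix a (hWU ha) ha).2 ⟨l, h2⟩
    have h4 := hPZ (Subgroup.mem_inf.2 ⟨ha, h3⟩)
    have h5 : a * b = b * a := mem_centralizer_iff.1 (bau_le_centralizer _ hb) a h4
    rw [← h2]
    apply hX g ⟨a, hWU ha⟩ ⟨a, hWU ha⟩
    show a = b * a * b⁻¹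
    rw [← h5]; group
  obtain ⟨σ, hσ⟩ := X_sem c hr hN le_rfl hX g
  have hσ1 : ∀ l : F, σ l = l := by
    intro l
    have h1 := hσ l v₀
    have h2 := hline 1
    rw [one_smul] at h2
    rw [hline, h2] at h1
    have h3 : (l - σ l) • v₀ = 0 := by rw [sub_smul, ← h1, sub_self]
    exact (sub_eq_zero.1 ((smul_eq_zero.1 h3).resolve_right hv0)).symm
  have hLin : Lin (X g) := ⟨hAd, fun l v => by rw [hσ, hσ1]⟩
  obtain ⟨w, hd⟩ := exists_dt hv0
  have hk : ∃ k, X g ^ p ^ k = 1 := by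
    have hBp : IsPGroup p (baumannSubgroupOf p (T : Subgroup G)) := T.2.to_le (bau_le _)
    obtain ⟨k, hk⟩ := hBp ⟨b, hb⟩
    refine ⟨k, ?_⟩
    rw [← map_pow]
    have hk' : b ^ p ^ k = 1 := congrArg Subtype.val hk
    have : g ^ p ^ k = 1 := Subtype.ext hk'
    rw [this, map_one]
  obtain ⟨s, hs⟩ := sl_of (p := p) hLin hk (by have := hline 1; rwa [one_smul] at this) hd
  have hsr : s ∈ ρ.range := by rw [hr]; trivial
  obtain ⟨e, rfl⟩ := hsr
  -- `e⁻¹ b` acts trivially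
  have hee : ∀ v, X ⟨e, le_normalizer e.2⟩ v = ((ρ e : SL(2, F)) : Matrix (Fin 2) (Fin 2) F).mulVec v := by
    intro v
    obtain ⟨u, hu⟩ := c.sur (Multiplicative.ofAdd v)
    have h2 : v = Multiplicative.toAdd (ψ u) := by rw [hu]; rfl
    obtain ⟨w, hw1, hw2⟩ := c.act e u
    rw [h2, ← hw2]
    exact hX ⟨e, le_normalizer e.2⟩ u w hw1
  have h1 : X ((⟨e, le_normalizer e.2⟩ : ↥(normalizer (E : Set G)))⁻¹ * g) = 1 := by
    rw [map_mul, map_inv, inv_mul_eq_one]
    ext1 v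
    rw [hee, hs]
  have h2 : (e : G)⁻¹ * b ∈ centralizer (WB p E : Set G) := hXk ⟨_, h1, rfl⟩
  have h3 : b = e * ((e : G)⁻¹ * b) := by group
  rw [h3]
  exact Subgroup.mul_mem_sup e.2 h2

end H51.BZ
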