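import Cfsg.Agent.Lib.H51.BZL0
import Cfsg.Agent.Lib.H50.BZD
import Cfsg.Agent.Lib.H56.BZ0

/-!
Fixed points of `p`-groups on linear blocks.
-/

set_option autoImplicit false
set_option linter.all false

namespace H51.BZ

open Subgroup Cfsg H51.FF H51.OG H52.PRes H52.PCore H51.Bau H1.Coprime2 H56.BmP H56.BmQ H51.GamL H56.BZ
open scoped commutatorElement MatrixGroups

variable {G : Type*} [Group G] [Finite G] {p : ℕ} [hp : Fact p.Prime]
variable {T : Sylow p G} {E : Subgroup G}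

theorem lin_FP {F : Type} [Field F] [Fintype F] {n : ℕ} (hF : Fintype.card F = p ^ n) (h4 : 4 ≤ Fintype.card F)
    (hG : centralizer (pCore p G : Set G) ≤ pCore p G) (hE : IsBaumannBlock p (T : Subgroup G) E)
    (hiso : Nonempty (↥E ⧸ pCore p ↥E ≃* ↥(commutator (Matrix.SpecialLinearGroup (Fin 2) F))))
    (hact : ActsAsSL2OnSection F (commutator (Matrix.SpecialLinearGroup (Fin 2) F)) E
          (omegaOneCenter p (pCoreOf p E)) (omegaOneCenter p (pCoreOf p E) ⊓ Subgroup.centralizer (E : Set G))) :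
    FP p (T : Subgroup G) E := by
  classical
  haveI : CharP F p := charP_of_card_eq_prime_pow hF
  obtain ⟨ρ, ψ, v₀, c, hv0, hfix, hsl⟩ := lin_base hF h4 hG hE hiso hact
  have hr : ρ.range = ⊤ := by rw [c.rng]; exact H52.BB.comm_top4 h4
  have hN : normalizer (E : Set G) ≤ normalizer (omegaOneCenter p (pCoreOf p E) : Set G) := nz_omegaOneCenter
  have hN0 : normalizer (E : Set G) ≤ normalizer ((omegaOneCenter p (pCoreOf p E) ⊓ centralizer (E : Set G) : Subgroup G) : Set G) := by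
    intro g hg
    rw [mem_nz_iff, cg_inf, map_centralizer, (mem_nz_iff).1 hg, (mem_nz_iff).1 (hN hg)]
  obtain ⟨X, hX⟩ := exists_X c hN hN0
  have hXk := X_ker hG hE c hX
  have hWU : WB p E ≤ omegaOneCenter p (pCoreOf p E) := H52.BB.XW
  have hWV : WB p E ≤ omegaOneCenter p (pCore p G) := block_le hG hE
  have hVe : IsElementaryAbelian p (omegaOneCenter p (pCore p G)) := H13.Omega.isElementaryAbelian_omegaZ _
  have hXs : ∀ g : ↥(normalizer (E : Set G)), ∃ σ : F ≃+* F, Sem (X g) σ := fun g => X_sem c hr hN le_rfl hX g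
  have hAd : ∀ g : ↥(normalizer (E : Set G)), Ad (X g) := fun g => X_add c hN hX g
  have hJN : thompsonSubgroupOf p (T : Subgroup G) ≤ normalizer (E : Set G) :=
    (thompson_le_bau _).trans (le_nz_of_comm hE.2.1)
  intro R hRp hRN hJR hRJ hcon
  set J := thompsonSubgroupOf p (T : Subgroup G) with hJ
  set P := WB p E ⊓ centralizer (J : Set G) with hP
  have hPW : P ≤ WB p E := inf_le_left
  -- `R` normalizes `P`
  have hRP : R ≤ normalizer (P : Set G) := by
    intro r hr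
    have h1 := nz_WE (p := p) (hRN hr)
    have h2 := hRJ hr
    rw [mem_nz_iff, hP, cg_inf, map_centralizer, (mem_nz_iff).1 h1, (mem_nz_iff).1 h2]
  letI : CommGroup ↥P := { (inferInstance : Group ↥P) with
    mul_comm := fun x y => Subtype.ext (H13.ElemAb.comm hVe (hWV (hPW x.2)) (hWV (hPW y.2))) }
  -- the coordinate on `P`
  have hφ : ∀ m : ↥P, ∃ l : F, Multiplicative.toAdd (ψ ⟨m, hWU (hPW m.2)⟩) = l • v₀ := fun m =>
    (hfix m (hWU (hPW m.2)) (hPW m.2)).1 (Subgroup.mem_inf.1 m.2).2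
  choose φ hφ using hφ
  have hinj : ∀ {l l' : F}, l • v₀ = l' • v₀ → l = l' := by
    intro l l' h
    have h3 : (l - l') • v₀ = 0 := by rw [sub_smul, h, sub_self]
    exact sub_eq_zero.1 ((smul_eq_zero.1 h3).resolve_right hv0)
  have hW : ∀ v : Fin 2 → F, ∃ w, ∃ hw : w ∈ WB p E, Multiplicative.toAdd (ψ ⟨w, hWU hw⟩) = v := by
    intro v
    obtain ⟨u, hu⟩ := c.sur (Multiplicative.ofAdd v)
    obtain ⟨a, ha, z, hz, haz⟩ := H52.BB.Wdec hE u.2
    refine ⟨a, ha, ?_⟩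
    have h1 : ψ u = ψ ⟨a, hWU ha⟩ := by
      rw [c.eq_iff]; exact ⟨z, hz, haz⟩
    rw [← h1, hu]; rfl
  have hφs : Function.Surjective φ := by
    intro l
    obtain ⟨w, hw, h⟩ := hW (l • v₀)
    have h1 : w ∈ centralizer (J : Set G) := (hfix w (hWU hw) hw).2 ⟨l, h⟩
    refine ⟨⟨w, Subgroup.mem_inf.2 ⟨hw, h1⟩⟩, ?_⟩
    apply hinj
    rw [← hφ, ← h]
  have hφm : ∀ x y : ↥P, φ (x * y) = φ x + φ y := by
    intro x y
    apply hinj
    rw [← hφ, add_smul, ← hφ, ← hφ, ← toAdd_mul, ← map_mul]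
    rfl
  let a : ↥R →* MulAut ↥P := (P.normalizerMonoidHom).comp (inclusion hRP)
  have ha : ∀ (r : ↥R) (m : ↥P), ((a r m : ↥P) : G) = r * m * (r : G)⁻¹ := fun r m => rfl
  let ι : ↥R →* ↥(normalizer (E : Set G)) := inclusion hRN
  choose σ hσ using hXs
  have hXm : ∀ (r : ↥R) (m : ↥P), X (ι r) (φ m • v₀) = φ (a r m) • v₀ := by
    intro r m
    rw [← hφ, ← hφ]
    exact hX (ι r) _ _ (ha r m)
  obtain ⟨m1, hm1⟩ := hφs 1
  have hc1 : ∀ r : ↥R, X (ι r) v₀ = φ (a r m1) • v₀ := by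
    intro r
    rw [← hXm, hm1, one_smul]
  have hc0 : ∀ r : ↥R, φ (a r m1) ≠ 0 := by
    intro r h
    have h1 := hc1 r
    rw [h, zero_smul, ← (hAd (ι r)).zero] at h1
    exact hv0 ((X (ι r)).injective h1)
  obtain ⟨m, hm1', hm2⟩ := H50.BZ.fixpt a φ hφm hφs (fun r => σ (ι r)) (by
    intro r s
    ext l
    have h1 := hσ (ι (r * s)) l v₀
    rw [map_mul ι, map_mul X, Equiv.Perm.mul_apply, hσ (ι s), hσ (ι r), Equiv.Perm.mul_apply] at h1
    have h2 : X (ι r) (X (ι s) v₀) ≠ 0 := by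
      intro h
      rw [← (hAd (ι r)).zero] at h
      have h3 := (X (ι r)).injective h
      rw [← (hAd (ι s)).zero] at h3
      exact hv0 ((X (ι s)).injective h3)
    have h3 : (σ (ι (r * s)) l - σ (ι r) (σ (ι s) l)) • X (ι r) (X (ι s) v₀) = 0 := by
      rw [map_mul ι, sub_smul, ← h1, sub_self]
    exact sub_eq_zero.1 ((smul_eq_zero.1 h3).resolve_right h2)) (fun r => φ (a r m1)) hc0 (by
    intro r m
    apply hinj
    rw [← hXm, hσ, hc1, smul_smul, mul_comm]) (by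
    intro r hr1 m
    have hr1' : ∀ l : F, σ (ι r) l = l := fun l => by rw [hr1]; rfl
    have hL : Lin (X (ι r)) := ⟨hAd _, fun l v => by rw [hσ, hr1']⟩
    obtain ⟨k, hk⟩ := hRp r
    have hk' : X (ι r) ^ p ^ k = 1 := by rw [← map_pow, ← map_pow, hk, map_one, map_one]
    -- `r` fixes `v₀`
    have hpow : ∀ j : ℕ, (X (ι r) ^ j) v₀ = (φ (a r m1)) ^ j • v₀ := by
      intro j
      induction j with
      | zero => simp
      | succ j ih => rw [pow_succ', Equiv.Perm.mul_apply, ih, hL.2, hc1, smul_smul, ← pow_succ]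
    have h5 : (φ (a r m1)) ^ p ^ k = 1 := by
      apply hinj
      rw [← hpow, hk', one_smul]; rfl
    have h6 : φ (a r m1) = 1 := eq_one_of_pow (p := p) h5
    have h7 : X (ι r) v₀ = v₀ := by rw [hc1, h6, one_smul]
    obtain ⟨w, hd⟩ := exists_dt hv0
    obtain ⟨s, hs⟩ := sl_of (p := p) hL ⟨k, hk'⟩ h7 hd
    have hs0 : (s : Matrix (Fin 2) (Fin 2) F).mulVec v₀ = v₀ := by rw [← hs, h7]
    obtain ⟨j, hj, hj'⟩ := hsl s hs0
    have h8 : X ((⟨j, hJN hj⟩ : ↥(normalizer (E : Set G)))⁻¹ * ι r) = 1 := by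
      rw [map_mul, map_inv, inv_mul_eq_one]
      ext1 v
      rw [hs]
      obtain ⟨u, hu⟩ := c.sur (Multiplicative.ofAdd v)
      have h2 : v = Multiplicative.toAdd (ψ u) := by rw [hu]; rfl
      have h3 : j * u * j⁻¹ ∈ omegaOneCenter p (pCoreOf p E) := (mem_normalizer_iff.1 (hN (hJN hj)) u).1 u.2
      rw [h2, ← hj' u ⟨_, h3⟩ rfl]
      exact hX _ u ⟨_, h3⟩ rfl
    have h9 : j⁻¹ * (r : G) ∈ centralizer (WB p E : Set G) := hXk ⟨_, h8, rfl⟩
    apply Subtype.ext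
    rw [ha]
    have h10 : (m : G) * (j⁻¹ * (r : G)) = (j⁻¹ * (r : G)) * m := mem_centralizer_iff.1 h9 m (hPW m.2)
    have h11 : j * (m : G) = m * j := mem_centralizer_iff.1 (Subgroup.mem_inf.1 m.2).2 j hj
    have h12 : (r : G) = j * (j⁻¹ * r) := by group
    have h13 : (r : G) * m = m * r := by
      calc (r : G) * m = j * ((j⁻¹ * (r : G)) * m) := by group
        _ = j * (m * (j⁻¹ * (r : G))) := by rw [h10]
        _ = (j * m) * (j⁻¹ * r) := by group
        _ = m * r := by rw [h11]; group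
    rw [h13]; group)
  -- the fixed element
  have h1 : (m : G) ∈ WB p E ⊓ centralizer (R : Set G) := by
    refine Subgroup.mem_inf.2 ⟨hPW m.2, ?_⟩
    rw [mem_centralizer_iff]
    intro r hr
    have h2 := congrArg Subtype.val (hm1' ⟨r, hr⟩)
    rw [ha] at h2
    exact mul_inv_eq_iff_eq_mul.1 h2
  have h2 := hcon h1
  have h3 : ψ ⟨m, hWU (hPW m.2)⟩ = 1 := (c.ker _).2 (Subgroup.mem_inf.2 ⟨hWU (hPW m.2), h2⟩)
  apply hm2
  apply hinj
  rw [← hφ, h3, zero_smul]
  rfl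

end H51.BZ
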