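import Cfsg.Agent.Lib.H51.OffPair
import Cfsg.Agent.Lib.H13.Norm

/-!
Minimal full offenders: commuting, normalizing and conjugate pairs.
-/

set_option autoImplicit false
set_option linter.unusedSectionVars false
set_option linter.unusedVariables false

namespace H51.OG

open Subgroup H51.FF H51.SylowAmb H53.PU

section cm

variable {p : ℕ} [hp : Fact p.Prime] {H : Type*} [Group H]

/-- elementwise commuting -/
def Cm (A B : Subgroup H) : Prop := ∀ a ∈ A, ∀ b ∈ B, a * b = b * a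

theorem Cm.symm {A B : Subgroup H} (h : Cm A B) : Cm B A := fun b hb a ha => (h a ha b hb).symm

theorem Cm.mono {A B A' B' : Subgroup H} (h : Cm A B) (hA : A' ≤ A) (hB : B' ≤ B) : Cm A' B' :=
  fun a ha b hb => h a (hA ha) b (hB hb)

theorem cm_iff {A B : Subgroup H} : Cm A B ↔ A ≤ centralizer (B : Set H) :=
  ⟨fun h a ha => mem_centralizer_iff.2 fun b hb => (h a ha b hb).symm,
    fun h a ha b hb => (mem_centralizer_iff.1 (h ha) b hb).symm⟩

theorem cm_sSup {𝒯 : Set (Subgroup H)} {C : Subgroup H} (h : ∀ X ∈ 𝒯, Cm X C) : Cm (sSup 𝒯) C :=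
  cm_iff.2 (sSup_le fun X hX => cm_iff.1 (h X hX))

theorem Cm.sup {A B C : Subgroup H} (h1 : Cm A C) (h2 : Cm B C) : Cm (A ⊔ B) C :=
  cm_iff.2 (sup_le (cm_iff.1 h1) (cm_iff.1 h2))

theorem ab_sSup {𝒯 : Set (Subgroup H)} (h : ∀ X ∈ 𝒯, ∀ Y ∈ 𝒯, Cm X Y) : Cm (sSup 𝒯) (sSup 𝒯) :=
  cm_sSup fun X hX => (cm_sSup fun Y hY => h Y hY X hX).symm

theorem ab_sup {A B : Subgroup H} (hA : Cm A A) (hB : Cm B B) (h : Cm A B) : Cm (A ⊔ B) (A ⊔ B) :=
  (hA.sup h.symm).symm.sup (h.sup hB).symm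

theorem Cm.le_nz {A B : Subgroup H} (h : Cm A B) : A ≤ normalizer (B : Set H) :=
  (cm_iff.1 h).trans (Subgroup.centralizer_le_normalizer _)

theorem Cm.cg {A B : Subgroup H} (h : Cm A B) (g : H) : Cm (cg g A) (cg g B) := by
  intro a ha b hb
  have h1 := h _ (mem_cg.1 ha) _ (mem_cg.1 hb)
  have e1 : a * b = g * ((g⁻¹ * a * g) * (g⁻¹ * b * g)) * g⁻¹ := by group
  have e2 : b * a = g * ((g⁻¹ * b * g) * (g⁻¹ * a * g)) * g⁻¹ := by group
  rw [e1, e2, h1]

theorem pg_sSup {𝒯 : Set (Subgroup H)} (h : ∀ X ∈ 𝒯, ∀ Y ∈ 𝒯, Cm X Y) (hT : ∀ X ∈ 𝒯, IsPGroup p X) :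
    IsPGroup p ↥(sSup 𝒯) := by
  have hab := ab_sSup h
  let P : Subgroup H :=
    { carrier := {x | x ∈ sSup 𝒯 ∧ ∃ k : ℕ, x ^ p ^ k = 1}
      one_mem' := ⟨one_mem _, 0, one_pow _⟩
      mul_mem' := by
        rintro x y ⟨hx, k, hk⟩ ⟨hy, l, hl⟩
        refine ⟨mul_mem hx hy, k + l, ?_⟩
        have hc : Commute x y := hab x hx y hy
        rw [hc.mul_pow, pow_add, pow_mul, hk, one_pow, one_mul, mul_comm, pow_mul, hl, one_pow]
      inv_mem' := by
        rintro x ⟨hx, k, hk⟩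
        exact ⟨inv_mem hx, k, by rw [inv_pow, hk, inv_one]⟩ }
  have h1 : sSup 𝒯 ≤ P := by
    apply sSup_le
    intro X hX x hx
    obtain ⟨k, hk⟩ := hT X hX ⟨x, hx⟩
    exact ⟨le_sSup hX hx, k, congrArg Subtype.val hk⟩
  rintro ⟨x, hx⟩
  obtain ⟨_, k, hk⟩ := h1 hx
  exact ⟨k, Subtype.ext hk⟩

theorem pg_sup {A B : Subgroup H} (hA : IsPGroup p A) (hB : IsPGroup p B) (h : Cm A B) : IsPGroup p ↥(A ⊔ B) :=
  hA.to_sup_of_normal_right' hB h.le_nz

end cm

section count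

variable {V : Type*} [AddCommGroup V] [Finite V]

theorem card_mul_le_of_map (X Y U I : AddSubgroup V) (f : V →+ V) (hf : ∀ x ∈ X, f x ∈ Y) (hU : U ≤ Y)
    (hk : ∀ x ∈ X, f x ∈ U → x ∈ I) : Nat.card X * Nat.card U ≤ Nat.card Y * Nat.card I := by
  classical
  let φ : X →+ (V ⧸ U) := (QuotientAddGroup.mk' U).comp (f.comp X.subtype)
  let ψ : Y →+ (V ⧸ U) := (QuotientAddGroup.mk' U).comp Y.subtype
  have h1 : φ.range ≤ ψ.range := by
    rintro _ ⟨w, rfl⟩
    exact ⟨⟨_, hf w w.2⟩, rfl⟩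
  have h2 : Nat.card φ.ker * Nat.card φ.range = Nat.card X := by
    have := AddSubgroup.card_mul_index φ.ker
    rwa [AddSubgroup.index_ker] at this
  have h3 : Nat.card ψ.ker * Nat.card ψ.range = Nat.card Y := by
    have := AddSubgroup.card_mul_index ψ.ker
    rwa [AddSubgroup.index_ker] at this
  have h4 : Nat.card φ.ker ≤ Nat.card I := by
    apply Nat.card_le_card_of_injective (fun w : φ.ker => (⟨((w : X) : V), hk _ (w : X).2
      ((QuotientAddGroup.eq_zero_iff _).1 (AddMonoidHom.mem_ker.1 w.2))⟩ : I))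
    intro u w h
    have h5 : (((u : X) : V)) = w := congrArg (fun z : I => (z : V)) h
    exact Subtype.ext (Subtype.ext h5)
  have h5 : Nat.card U ≤ Nat.card ψ.ker := by
    apply Nat.card_le_card_of_injective (fun u : U => (⟨⟨(u : V), hU u.2⟩,
      AddMonoidHom.mem_ker.2 ((QuotientAddGroup.eq_zero_iff _).2 u.2)⟩ : ψ.ker))
    intro u w h
    have h5 : (u : V) = w := congrArg (fun z : ψ.ker => ((z : Y) : V)) h
    exact Subtype.ext h5
  have h6 : Nat.card φ.range ≤ Nat.card ψ.range := Nat.card_le_card_of_injective _ (AddSubgroup.inclusion_injective h1)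
  calc Nat.card X * Nat.card U = (Nat.card φ.ker * Nat.card φ.range) * Nat.card U := by rw [h2]
    _ ≤ (Nat.card I * Nat.card ψ.range) * Nat.card ψ.ker := by gcongr
    _ = Nat.card Y * Nat.card I := by rw [← h3]; ring

end count

section world

variable {p : ℕ} {H V : Type*} [Group H] [AddCommGroup V] [DistribMulAction H V]

/-- `v ↦ a • v - v` -/
def dm (V : Type*) [AddCommGroup V] [DistribMulAction H V] (a : H) : V →+ V :=
  (DistribSMul.toAddMonoidHom V a) - AddMonoidHom.id V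

theorem dm_apply (a : H) (v : V) : dm V a v = a • v - v := rfl

/-- minimal full offenders -/
def offs (p : ℕ) (H V : Type*) [Group H] [AddCommGroup V] [DistribMulAction H V] : Set (Subgroup H) :=
  {A | IsPGroup p A ∧ Cm A A ∧ A ≠ ⊥ ∧ vl V A = Nat.card V ∧ ∀ Z ≤ A, Z ≠ ⊥ → Z ≠ A → vl V Z < Nat.card V}

/-- the module theoretic situation -/
structure Wd (p : ℕ) (H V : Type*) [Group H] [AddCommGroup V] [DistribMulAction H V] : Prop where
  pz : ∀ v : V, p • v = 0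
  faith : ∀ h : H, (∀ v : V, h • v = v) → h = 1
  le : ∀ A : Subgroup H, IsPGroup p A → Cm A A → vl V A ≤ Nat.card V
  fixed : ∀ A ∈ offs p H V, ∀ a ∈ A, a ≠ 1 → ∀ v : V, a • v = v → v ∈ fx V A
  quad : ∀ A ∈ offs p H V, ∀ a ∈ A, ∀ v : V, a • v - v ∈ fx V A

theorem vl_cg (g : H) (A : Subgroup H) : vl V (cg g A) = vl V A := by
  unfold vl
  rw [card_cg, card_fx_cg]

theorem offs_cg {A : Subgroup H} (hA : A ∈ offs p H V) (g : H) : cg g A ∈ offs p H V := by
  obtain ⟨h1, h2, h3, h4, h5⟩ := hA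
  refine ⟨h1.map _, h2.cg g, ?_, by rw [vl_cg]; exact h4, ?_⟩
  · intro h
    apply h3
    rw [← cg_inv_cg g A, h, cg_bot]
  · intro Z hZ hZ1 hZ2
    rw [← vl_cg g⁻¹]
    apply h5
    · rw [cg_le_iff, inv_inv]; exact hZ
    · intro h
      apply hZ1
      rw [← cg_cg_inv g Z, h, cg_bot]
    · intro h
      apply hZ2
      rw [← cg_cg_inv g Z, h]

theorem cm_of_cmt (faith : ∀ h : H, (∀ v : V, h • v = v) → h = 1) {A B : Subgroup H}
    (h1 : ∀ a ∈ A, ∀ v : V, a • v - v ∈ fx V B) (h2 : ∀ b ∈ B, ∀ v : V, b • v - v ∈ fx V A) : Cm A B := by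
  intro a ha b hb
  rw [← inv_mul_eq_one]
  apply faith
  intro v
  have e1 := h1 a ha v b hb
  have e2 := h2 b hb v a ha
  rw [smul_sub, ← mul_smul] at e1 e2
  have e3 : (b * a) • v = a • v - v + b • v := by rw [← e1]; abel
  have e4 : (a * b) • v = b • v - v + a • v := by rw [← e2]; abel
  rw [mul_smul, inv_smul_eq_iff, e3, e4]
  abel

variable [hp : Fact p.Prime] [Finite H] [Finite V] (wd : Wd p H V)

include wd

theorem Wd.card_eq {A : Subgroup H} (hA : A ∈ offs p H V) : Nat.card A * Nat.card (fx V A) = Nat.card V := hA.2.2.2.1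

theorem Wd.eqfx {A B : Subgroup H} (hA : A ∈ offs p H V) (hB : B ∈ offs p H V) (h : fx V A = fx V B) : A = B := by
  have hc : Cm A B := cm_of_cmt wd.faith (fun a ha v => h ▸ wd.quad A hA a ha v) (fun b hb v => h ▸ wd.quad B hB b hb v)
  have h1 := wd.le (A ⊔ B) (pg_sup hA.1 hB.1 hc) (ab_sup hA.2.1 hB.2.1 hc)
  unfold vl at h1
  rw [fx_sup, ← h, inf_idem, ← wd.card_eq hA] at h1
  have h2 : Nat.card ↥(A ⊔ B) ≤ Nat.card A := Nat.le_of_mul_le_mul_right h1 Nat.card_pos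
  have h3 : A = A ⊔ B := Subgroup.eq_of_le_of_card_ge le_sup_left h2
  have h4 : B ≤ A := by rw [h3]; exact le_sup_right
  by_contra hne
  have h5 := hA.2.2.2.2 B h4 hB.2.2.1 (fun h => hne h.symm)
  rw [hB.2.2.2.1] at h5
  exact lt_irrefl _ h5

theorem Wd.fx_le_of {A : Subgroup H} (hA : A ∈ offs p H V) {K : Subgroup H} {x : H} (hxA : x ∈ A) (hx1 : x ≠ 1)
    (hxK : x ∈ K) : fx V K ≤ fx V A := fun v hv => wd.fixed A hA x hxA hx1 v (hv x hxK)

theorem Wd.inf_bot {A B : Subgroup H} (hA : A ∈ offs p H V) (hB : B ∈ offs p H V) (h : A ≠ B) : A ⊓ B = ⊥ := by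
  rw [eq_bot_iff]
  intro x hx
  rw [Subgroup.mem_bot]
  by_contra hx1
  apply h
  apply wd.eqfx hA hB
  exact le_antisymm (wd.fx_le_of hB hx.2 hx1 hx.1) (wd.fx_le_of hA hx.1 hx1 hx.2)

theorem Wd.comm_pair {A B : Subgroup H} (hA : A ∈ offs p H V) (hB : B ∈ offs p H V) (h : A ≠ B) (hc : Cm A B) :
    fx V A ⊔ fx V B = ⊤ ∧ vl V (A ⊔ B) = Nat.card V ∧ Nat.card ↥(A ⊔ B) = Nat.card A * Nat.card B := by
  have hab := ab_sup hA.2.1 hB.2.1 hc
  have hpg : IsPGroup p ↥(A ⊔ B) := pg_sup hA.1 hB.1 hc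
  obtain ⟨_, h1, h2, h3⟩ := le_vl_inf (V := V) hab le_sup_left le_sup_right
    (fun Z hZ => wd.le Z (hpg.to_le hZ) (hab.mono hZ hZ)) hA.2.2.2.1 hB.2.2.2.1
  rw [wd.inf_bot hA hB h] at h3
  refine ⟨?_, h2, ?_⟩
  · rw [← h3, eq_top_iff]
    intro v _ a ha
    rw [Subgroup.mem_bot.1 ha, one_smul]
  · have h4 := card_sup_inf_comm hab (le_sup_left : A ≤ A ⊔ B) le_sup_right
    rwa [wd.inf_bot hA hB h, Subgroup.card_bot, mul_one] at h4

theorem Wd.cmt_le {A B : Subgroup H} (hA : A ∈ offs p H V) (hB : B ∈ offs p H V) (hc : Cm A B) :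
    ∀ a ∈ A, ∀ v : V, a • v - v ∈ fx V B := by
  intro a ha v
  by_cases h : A = B
  · rw [← h]; exact wd.quad A hA a ha v
  have hv : v ∈ fx V A ⊔ fx V B := by
    rw [(wd.comm_pair hA hB h hc).1]; exact AddSubgroup.mem_top _
  obtain ⟨x, hx, y, hy, rfl⟩ := AddSubgroup.mem_sup.1 hv
  have e : a • (x + y) - (x + y) = a • y - y := by rw [smul_add, hx a ha]; abel
  rw [e]
  refine AddSubgroup.sub_mem _ ?_ hy
  intro b hb
  rw [← mul_smul, ← hc a ha b hb, mul_smul, hy b hb]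

theorem Wd.card_inf {A B : Subgroup H} (hA : A ∈ offs p H V) (hB : B ∈ offs p H V) (h : A ≠ B) (hc : Cm A B) :
    Nat.card (fx V A) = Nat.card B * Nat.card ↥(fx V A ⊓ fx V B) := by
  have h1 := add_card_sup_inf (fx V A) (fx V B)
  rw [(wd.comm_pair hA hB h hc).1, AddSubgroup.card_top, ← wd.card_eq hB] at h1
  apply Nat.eq_of_mul_eq_mul_right (Nat.card_pos (α := fx V B))
  rw [← h1]; ring

/-- Lemma B -/
theorem Wd.norm {A B : Subgroup H} (hA : A ∈ offs p H V) (hB : B ∈ offs p H V)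
    (hn : B ≤ normalizer (A : Set H)) : Cm A B := by
  classical
  by_contra hcon
  have hne : A ≠ B := by
    rintro rfl
    exact hcon hA.2.1
  have hinf := wd.inf_bot hA hB hne
  set A₀ := A ⊓ centralizer (B : Set H) with hA₀
  have hA₀c : Cm A₀ B := cm_iff.2 inf_le_right
  have hA₀A : A₀ ≤ A := inf_le_left
  have hab : Cm (A₀ ⊔ B) (A₀ ⊔ B) := ab_sup (hA.2.1.mono hA₀A hA₀A) hB.2.1 hA₀c
  have hpg : IsPGroup p ↥(A ⊔ B) := by
    rw [sup_comm]; exact hB.1.to_sup_of_normal_right' hA.1 hn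
  have hlt : A₀ ⊔ B < A ⊔ B := by
    refine lt_of_le_of_ne (sup_le_sup_right hA₀A _) ?_
    intro h
    apply hcon
    rw [h] at hab
    exact hab.mono le_sup_left le_sup_right
  obtain ⟨x, hx, hx1, hx2⟩ := H5.PLocal.exists_mem_normalizer_not_mem hpg hlt
  obtain ⟨a, ha, b, hb, rfl⟩ : ∃ a ∈ A, ∃ b ∈ B, a * b = x := by
    exact (H13.Norm.mem_sup_of_le_normalizer' hn).1 hx
  have haN : a ∈ normalizer ((A₀ ⊔ B : Subgroup H) : Set H) := by
    have e : a = (a * b) * b⁻¹ := by group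
    rw [e]
    exact mul_mem hx2 (inv_mem (Subgroup.le_normalizer (Subgroup.mem_sup_right hb)))
  have haA₀ : a ∉ A₀ := fun h => hx1 (mul_mem (Subgroup.mem_sup_left h) (Subgroup.mem_sup_right hb))
  -- facts for an element `a` of this kind
  have key : ∀ a ∈ A, a ∈ normalizer ((A₀ ⊔ B : Subgroup H) : Set H) → a ∉ A₀ →
      cg a B ≤ A₀ ⊔ B ∧ B ≠ cg a B ∧ fx V (B ⊔ cg a B) = fx V A ⊓ fx V B := by
    intro a ha haN haA₀
    have h1 : cg a B ≤ A₀ ⊔ B := by
      rw [← mem_nz_iff.1 haN]; exact cg_mono le_sup_right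
    have h2 : B ≠ cg a B := by
      intro h
      apply haA₀
      refine Subgroup.mem_inf.2 ⟨ha, mem_centralizer_iff.2 ?_⟩
      intro b hb
      have h3 : a * b * a⁻¹ * b⁻¹ ∈ A ⊓ B := by
        refine Subgroup.mem_inf.2 ⟨?_, ?_⟩
        · have e : a * b * a⁻¹ * b⁻¹ = a * (b * a⁻¹ * b⁻¹) := by group
          rw [e]
          exact mul_mem ha ((mem_normalizer_iff.1 (hn hb) _).1 (inv_mem ha))
        · refine mul_mem ?_ (inv_mem hb)
          rw [h, mem_cg]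
          have e : a⁻¹ * (a * b * a⁻¹) * a = b := by group
          rw [e]; exact hb
      rw [hinf, Subgroup.mem_bot] at h3
      have e : b * a = (a * b * a⁻¹ * b⁻¹)⁻¹ * (a * b) := by group
      rw [e, h3]; group
    refine ⟨h1, h2, ?_⟩
    obtain ⟨b, hb, hb1⟩ : ∃ b ∈ B, a * b * a⁻¹ ∉ B := by
      by_contra hall
      push Not at hall
      apply h2
      symm
      apply Subgroup.eq_of_le_of_card_ge
      · intro y hy
        rw [mem_cg] at hy
        have e : y = a * (a⁻¹ * y * a) * a⁻¹ := by group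
        rw [e]; exact hall _ hy
      · rw [card_cg]
    apply le_antisymm
    · refine le_inf ?_ (fx_anti le_sup_left)
      have hc1 : a * b * a⁻¹ * b⁻¹ ≠ 1 := by
        intro h
        apply hb1
        have e : a * b * a⁻¹ = (a * b * a⁻¹ * b⁻¹) * b := by group
        rw [e, h, one_mul]; exact hb
      refine wd.fx_le_of hA (x := a * b * a⁻¹ * b⁻¹) ?_ hc1 ?_
      · have e : a * b * a⁻¹ * b⁻¹ = a * (b * a⁻¹ * b⁻¹) := by group
        rw [e]
        exact mul_mem ha ((mem_normalizer_iff.1 (hn hb) _).1 (inv_mem ha))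
      · refine mul_mem (Subgroup.mem_sup_right ?_) (inv_mem (Subgroup.mem_sup_left hb))
        rw [mem_cg]
        have e : a⁻¹ * (a * b * a⁻¹) * a = b := by group
        rw [e]; exact hb
    · rw [← fx_sup]
      apply fx_anti
      refine sup_le le_sup_right (h1.trans (sup_le_sup_right hA₀A _))
  obtain ⟨k1, k2, k3⟩ := key a ha haN haA₀
  obtain ⟨k1', k2', k3'⟩ := key a⁻¹ (inv_mem ha) (inv_mem haN) (fun h => haA₀ (by simpa using inv_mem h))
  have hBa := offs_cg hB a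
  have hBa' := offs_cg hB a⁻¹
  have hcm : Cm B (cg a B) := hab.mono le_sup_right k1
  have hcm' : Cm B (cg a⁻¹ B) := hab.mono le_sup_right k1'
  -- `|A₀| ≥ r`
  have h1 := (wd.comm_pair hB hBa k2 hcm).2.2
  rw [card_cg] at h1
  have h2 : Nat.card ↥(B ⊔ cg a B) ≤ Nat.card ↥(A₀ ⊔ B) :=
    Subgroup.card_le_of_le (sup_le le_sup_right k1)
  have h3 : Nat.card ↥(A₀ ⊔ B) = Nat.card A₀ * Nat.card B := by
    have h4 := card_sup_inf_comm hab (le_sup_left : A₀ ≤ A₀ ⊔ B) le_sup_right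
    have h5 : A₀ ⊓ B = ⊥ := le_bot_iff.1 (hinf ▸ inf_le_inf_right _ hA₀A)
    rwa [h5, Subgroup.card_bot, mul_one] at h4
  rw [h1, h3] at h2
  have hr : Nat.card B ≤ Nat.card A₀ := Nat.le_of_mul_le_mul_right h2 Nat.card_pos
  -- `q ≤ r`
  have h4 := card_mul_le_of_map (fx V B) (fx V A) (fx V A ⊓ fx V B) (fx V A ⊓ fx V B) (dm V a)
    (fun x _ => wd.quad A hA a ha x) inf_le_left (by
      intro x hx hx1
      rw [dm_apply] at hx1
      rw [← k3', fx_sup]
      refine ⟨hx, ?_⟩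
      show x ∈ fx V (cg a⁻¹ B)
      rw [mem_fx_cg, inv_inv]
      have e : a • x = (a • x - x) + x := by abel
      rw [e]
      exact AddSubgroup.add_mem _ hx1.2 hx)
  have h5 : Nat.card (fx V B) ≤ Nat.card (fx V A) := Nat.le_of_mul_le_mul_right h4 Nat.card_pos
  have h6 : Nat.card A ≤ Nat.card B := by
    have h7 := wd.card_eq hA
    rw [← wd.card_eq hB] at h7
    have h8 : Nat.card A * Nat.card (fx V A) ≤ Nat.card B * Nat.card (fx V A) := by
      rw [h7]; exact Nat.mul_le_mul_left _ h5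
    exact Nat.le_of_mul_le_mul_right h8 Nat.card_pos
  have h7 : A₀ = A := Subgroup.eq_of_le_of_card_ge hA₀A (h6.trans hr)
  exact haA₀ (h7 ▸ ha)

omit wd in
/-- conjugates of a proper subgroup of a `p`-group lie in a proper subgroup -/
theorem exists_proper {A R : Subgroup H} (hR : IsPGroup p R) (hAR : A < R) :
    ∃ M' : Subgroup H, M' < R ∧ ∀ x ∈ R, cg x A ≤ M' := by
  have hnil : Group.IsNilpotent R := hR.isNilpotent
  have hnc := Group.normalizerCondition_of_isNilpotent (G := R)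
  have h1 : A.subgroupOf R ≠ ⊤ := by
    intro h
    exact hAR.not_ge (Subgroup.subgroupOf_eq_top.1 h)
  obtain ⟨M', hM', hAM'⟩ := (eq_top_or_exists_le_coatom (A.subgroupOf R)).resolve_left h1
  have hn : M'.Normal := Subgroup.NormalizerCondition.normal_of_coatom M' hnc hM'
  refine ⟨M'.map R.subtype, ?_, ?_⟩
  · refine lt_of_le_of_ne (Subgroup.map_subtype_le _) ?_
    intro h
    apply hM'.1
    exact Subgroup.map_injective R.subtype_injective (h.trans (map_top' (L := R)).symm)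
  · intro x hx y hy
    rw [mem_cg] at hy
    have hyA : (⟨x⁻¹ * y * x, hAR.le hy⟩ : R) ∈ M' := hAM' (Subgroup.mem_subgroupOf.2 hy)
    have h2 := hn.conj_mem _ hyA ⟨x, hx⟩
    refine ⟨_, h2, ?_⟩
    show x * (x⁻¹ * y * x) * x⁻¹ = y
    group

/-- one half of Lemma C -/
theorem Wd.pc_aux {A B : Subgroup H} (hA : A ∈ offs p H V) (hB : B ∈ offs p H V) (hR : IsPGroup p ↥(A ⊔ B))
    (hcon : ¬ Cm A B)
    (ih : ∀ X ∈ offs p H V, ∀ Y ∈ offs p H V, X ⊔ Y < A ⊔ B → Cm X Y) :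
    ∀ b ∈ B, ∀ v : V, b • v - v ∈ fx V A := by
  classical
  have hAR : A < A ⊔ B := by
    refine lt_of_le_of_ne le_sup_left ?_
    intro h
    apply hcon
    have h1 : B ≤ A := by rw [h]; exact le_sup_right
    exact hA.2.1.mono le_rfl h1
  have hBR : B < A ⊔ B := by
    refine lt_of_le_of_ne le_sup_right ?_
    intro h
    apply hcon
    have h1 : A ≤ B := by rw [h]; exact le_sup_left
    exact hB.2.1.mono h1 le_rfl
  obtain ⟨M₁, hM₁, hM₁c⟩ := exists_proper hR hAR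
  obtain ⟨M₂, hM₂, hM₂c⟩ := exists_proper hR hBR
  have hA0 : A ≤ M₁ := by have := hM₁c 1 (one_mem _); rwa [cg_one] at this
  have hB0 : B ≤ M₂ := by have := hM₂c 1 (one_mem _); rwa [cg_one] at this
  have hAA : ∀ x ∈ A ⊔ B, Cm A (cg x A) := fun x hx =>
    ih A hA _ (offs_cg hA x) (lt_of_le_of_lt (sup_le hA0 (hM₁c x hx)) hM₁)
  have hBB : ∀ x ∈ A ⊔ B, Cm B (cg x B) := fun x hx =>
    ih B hB _ (offs_cg hB x) (lt_of_le_of_lt (sup_le hB0 (hM₂c x hx)) hM₂)
  set K : Subgroup H := sSup {X | ∃ x ∈ A ⊔ B, X = cg x A} with hK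
  have hAK : A ≤ K := le_sSup ⟨1, one_mem _, (cg_one A).symm⟩
  have hKinv : ∀ x ∈ A ⊔ B, cg x K = K := by
    have hle : ∀ x ∈ A ⊔ B, cg x K ≤ K := by
      intro x hx
      rw [cg_le_iff]
      apply sSup_le
      rintro _ ⟨y, hy, rfl⟩
      rw [← cg_le_iff, cg_cg]
      exact le_sSup ⟨x * y, mul_mem hx hy, rfl⟩
    intro x hx
    apply le_antisymm (hle x hx)
    have := cg_mono (g := x) (hle x⁻¹ (inv_mem hx))
    rwa [cg_cg_inv] at this
  have hVA : ∀ a ∈ A, ∀ v : V, a • v - v ∈ fx V K := by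
    intro a ha v k hk
    have h1 : K ≤ MulAction.stabilizer H (a • v - v) := by
      apply sSup_le
      rintro _ ⟨x, hx, rfl⟩ y hy
      exact wd.cmt_le hA (offs_cg hA x) (hAA x hx) a ha v y hy
    exact h1 hk
  have hfK : ∀ x ∈ A ⊔ B, ∀ v ∈ fx V K, x • v ∈ fx V K := by
    intro x hx v hv
    rw [← hKinv x hx, mem_fx_cg, inv_smul_smul]; exact hv
  obtain ⟨a, ha, hane⟩ : ∃ a ∈ A, B ≠ cg a⁻¹ B := by
    by_contra hall
    push Not at hall
    apply hcon
    apply Cm.symm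
    apply wd.norm hB hA
    intro a ha
    have h1 := hall a⁻¹ (inv_mem ha)
    rw [inv_inv] at h1
    exact mem_nz_iff.2 h1.symm
  have haR : a⁻¹ ∈ A ⊔ B := inv_mem (Subgroup.mem_sup_left ha)
  have hBa := offs_cg hB a⁻¹
  have h1 := card_mul_le_of_map (fx V B) (fx V K) (fx V K ⊓ fx V B) (fx V B ⊓ fx V (cg a⁻¹ B)) (dm V a)
    (fun x _ => hVA a ha x) inf_le_left (by
      intro x hx hx1
      rw [dm_apply] at hx1
      refine ⟨hx, ?_⟩
      show x ∈ fx V (cg a⁻¹ B)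
      rw [mem_fx_cg, inv_inv]
      have e : a • x = (a • x - x) + x := by abel
      rw [e]
      exact AddSubgroup.add_mem _ hx1.2 hx)
  have h2 := wd.card_inf hB hBa hane (hBB _ haR)
  rw [card_cg] at h2
  have h3 : Nat.card B * Nat.card ↥(fx V K ⊓ fx V B) ≤ Nat.card (fx V K) := by
    apply Nat.le_of_mul_le_mul_right _ (Nat.card_pos (α := ↥(fx V B ⊓ fx V (cg a⁻¹ B))))
    calc Nat.card B * Nat.card ↥(fx V K ⊓ fx V B) * Nat.card ↥(fx V B ⊓ fx V (cg a⁻¹ B))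
        = Nat.card (fx V B) * Nat.card ↥(fx V K ⊓ fx V B) := by rw [h2]; ring
      _ ≤ _ := h1
  have h4 : fx V K ⊔ fx V B = ⊤ := by
    apply AddSubgroup.eq_top_of_le_card
    apply Nat.le_of_mul_le_mul_right _ (Nat.card_pos (α := ↥(fx V K ⊓ fx V B)))
    rw [add_card_sup_inf, ← wd.card_eq hB]
    calc Nat.card B * Nat.card (fx V B) * Nat.card ↥(fx V K ⊓ fx V B)
        = (Nat.card B * Nat.card ↥(fx V K ⊓ fx V B)) * Nat.card (fx V B) := by ring
      _ ≤ _ := Nat.mul_le_mul_right _ h3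
  intro b hb v
  have hv : v ∈ fx V K ⊔ fx V B := by rw [h4]; exact AddSubgroup.mem_top _
  obtain ⟨x, hx, y, hy, rfl⟩ := AddSubgroup.mem_sup.1 hv
  have e : b • (x + y) - (x + y) = b • x - x := by rw [smul_add, hy b hb]; abel
  rw [e]
  exact fx_anti hAK (AddSubgroup.sub_mem _ (hfK b (Subgroup.mem_sup_right hb) x hx) hx)

/-- Lemma C -/
theorem Wd.pc : ∀ (n : ℕ) (A B : Subgroup H), Nat.card ↥(A ⊔ B) ≤ n → A ∈ offs p H V → B ∈ offs p H V →
    IsPGroup p ↥(A ⊔ B) → Cm A B := by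
  intro n
  induction n with
  | zero =>
    intro A B h
    exact absurd (Nat.card_pos (α := ↥(A ⊔ B))) (by omega)
  | succ n ih =>
    intro A B h hA hB hR
    by_contra hcon
    have ih' : ∀ X ∈ offs p H V, ∀ Y ∈ offs p H V, X ⊔ Y < A ⊔ B → Cm X Y := by
      intro X hX Y hY hlt
      apply ih X Y _ hX hY (hR.to_le hlt.le)
      have h1 : Nat.card ↥(X ⊔ Y) < Nat.card ↥(A ⊔ B) := by
        apply lt_of_le_of_ne (Subgroup.card_le_of_le hlt.le)
        intro h2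
        exact hlt.ne (Subgroup.eq_of_le_of_card_ge hlt.le h2.ge)
      omega
    apply hcon
    apply cm_of_cmt wd.faith
    · refine wd.pc_aux hB hA (by rwa [sup_comm]) (fun h => hcon h.symm) ?_
      intro X hX Y hY hlt
      rw [sup_comm B A] at hlt
      exact ih' X hX Y hY hlt
    · exact wd.pc_aux hA hB hR hcon ih'

theorem Wd.comm_of_pg {A B : Subgroup H} (hA : A ∈ offs p H V) (hB : B ∈ offs p H V)
    (hR : IsPGroup p ↥(A ⊔ B)) : Cm A B := wd.pc _ A B le_rfl hA hB hR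

/-- Lemma D -/
theorem Wd.conj {A B : Subgroup H} (hA : A ∈ offs p H V) (hB : B ∈ offs p H V) (hc : ¬ Cm A B) :
    ∃ l ∈ A ⊔ B, cg l B = A := by
  obtain ⟨S, hAS, hSL, hSp, hSs⟩ := exists_sylow_ge (p := p) (K := A ⊔ B) (Q := A) le_sup_left hA.1
  obtain ⟨l, hl, hlS⟩ := exists_conj_le hSL hSp hSs (le_sup_right : B ≤ A ⊔ B) hB.1
  refine ⟨l, hl, ?_⟩
  by_contra hne
  have hBl := offs_cg hB l
  have hcm : Cm A (cg l B) := wd.comm_of_pg hA hBl (hSp.to_le (sup_le hAS hlS))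
  have h1 := (wd.comm_pair hA hBl (fun h => hne h.symm) hcm).1
  have h2 := add_card_sup_inf (fx V A) (fx V (cg l B))
  rw [h1, AddSubgroup.card_top, card_fx_cg] at h2
  have h3 := add_card_sup_inf (fx V A) (fx V B)
  have hBL : cg l B ≤ A ⊔ B := by
    have := cg_mono (g := l) (le_sup_right : B ≤ A ⊔ B)
    rwa [cg_eq_self hl] at this
  have hle : fx V A ⊓ fx V B ≤ fx V A ⊓ fx V (cg l B) := by
    rw [← fx_sup]
    exact le_inf (fx_anti le_sup_left) (fx_anti hBL)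
  have heq : fx V A ⊓ fx V B = fx V A ⊓ fx V (cg l B) := by
    apply AddSubgroup.eq_of_le_of_card_ge hle
    apply Nat.le_of_mul_le_mul_left _ (Nat.card_pos (α := V))
    rw [h2, ← h3]
    exact Nat.mul_le_mul_right _ (Nat.card_le_card_of_injective _ (AddSubgroup.subtype_injective _))
  apply hc
  have hfl : ∀ v ∈ fx V A ⊓ fx V B, ∀ x ∈ A ⊔ B, x • v = v := by
    intro v hv x hx
    rw [← fx_sup] at hv
    exact hv x hx
  have kA : ∀ a ∈ A, ∀ v : V, a • v - v ∈ fx V A ⊓ fx V B := by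
    intro a ha v
    rw [heq]
    exact ⟨wd.quad A hA a ha v, wd.cmt_le hA hBl hcm a ha v⟩
  have kB : ∀ b ∈ B, ∀ v : V, b • v - v ∈ fx V A ⊓ fx V B := by
    intro b hb v
    have hb' : l * b * l⁻¹ ∈ cg l B := by
      rw [mem_cg]
      have e : l⁻¹ * (l * b * l⁻¹) * l = b := by group
      rw [e]; exact hb
    have h5 : (l * b * l⁻¹) • (l • v) - l • v ∈ fx V A ⊓ fx V B := by
      rw [heq]
      exact ⟨wd.cmt_le hBl hA hcm.symm _ hb' _, wd.quad _ hBl _ hb' _⟩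
    have h6 := hfl _ h5 l⁻¹ (inv_mem hl)
    have h7 : l⁻¹ • ((l * b * l⁻¹) • (l • v) - l • v) = b • v - v := by
      rw [smul_sub, ← mul_smul, ← mul_smul, inv_smul_smul]
      congr 1
      congr 1
      group
    rw [← h7, h6]; exact h5
  exact cm_of_cmt wd.faith (fun a ha v => (kA a ha v).2) (fun b hb v => (kB b hb v).1)

end world

end H51.OG
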