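import Cfsg.Agent.Lib.H13.SylowN
import Cfsg.Agent.Lib.H13.Omega
import Cfsg.Agent.Lib.H56.ZJD
import Cfsg.Agent.Lib.H52.Cop
import Cfsg.Agent.Lib.H51.OffComm
import Cfsg.Prelude.Def_BaumannBlocks

/-!
The Baumann subgroup in an ambient group.
-/

set_option autoImplicit false
set_option linter.unusedSectionVars false
set_option linter.unusedVariables false

namespace H51.Bau

open Subgroup Cfsg H51.FF H51.OG H52.PRes H52.PCore
open scoped commutatorElement

variable {G : Type*} [Group G] {p : ℕ}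

theorem map_centralizer (g : G) (K : Subgroup G) :
    cg g (centralizer (K : Set G)) = centralizer ((cg g K : Subgroup G) : Set G) := by
  ext x
  rw [mem_cg, mem_centralizer_iff, mem_centralizer_iff]
  constructor
  · intro h y hy
    have h1 := h _ (mem_cg.1 hy)
    have e1 : y * x = g * ((g⁻¹ * y * g) * (g⁻¹ * x * g)) * g⁻¹ := by group
    have e2 : x * y = g * ((g⁻¹ * x * g) * (g⁻¹ * y * g)) * g⁻¹ := by group
    rw [e1, e2, h1]
  · intro h y hy
    have h1 := h (g * y * g⁻¹) (mem_cg.2 (by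
      have e : g⁻¹ * (g * y * g⁻¹) * g = y := by group
      rw [e]; exact hy))
    have e1 : y * (g⁻¹ * x * g) = g⁻¹ * ((g * y * g⁻¹) * x) * g := by group
    have e2 : (g⁻¹ * x * g) * y = g⁻¹ * (x * (g * y * g⁻¹)) * g := by group
    rw [e1, e2, h1]

theorem omegaOne_cg (g : G) (K : Subgroup G) : cg g (omegaOne p K) = omegaOne p (cg g K) :=
  H13.Omega.map_omegaOne_of_injective (MulAut.conj g).injective K

theorem thompson_cg (g : G) (K : Subgroup G) : cg g (thompsonSubgroupOf p K) = thompsonSubgroupOf p (cg g K) :=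
  H13.SylowN.thompsonOf_map_conj g K

theorem center_cg (g : G) (K : Subgroup G) : cg g (centerThompsonOf p K) = centerThompsonOf p (cg g K) := by
  unfold centerThompsonOf
  rw [cg_inf, map_centralizer, thompson_cg]

theorem bau_cg (g : G) (K : Subgroup G) : cg g (baumannSubgroupOf p K) = baumannSubgroupOf p (cg g K) := by
  unfold baumannSubgroupOf
  rw [cg_inf, map_centralizer, omegaOne_cg, center_cg]

theorem bau_le (T : Subgroup G) : baumannSubgroupOf p T ≤ T := inf_le_left

theorem nz_le_bau (T : Subgroup G) :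
    normalizer (T : Set G) ≤ normalizer (baumannSubgroupOf p T : Set G) := by
  intro g hg
  rw [mem_nz_iff] at hg ⊢
  rw [bau_cg, hg]

theorem omegaOne_le (K : Subgroup G) : omegaOne p K ≤ K := by
  unfold omegaOne
  rw [closure_le]
  exact fun x hx => hx.1

theorem thompson_le_bau (T : Subgroup G) : thompsonSubgroupOf p T ≤ baumannSubgroupOf p T := by
  unfold baumannSubgroupOf
  refine le_inf (H13.SylowN.thompsonOf_le T) ?_
  intro x hx
  rw [mem_centralizer_iff]
  intro y hy
  have h1 := omegaOne_le _ hy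
  unfold centerThompsonOf at h1
  exact ((mem_centralizer_iff.1 (Subgroup.mem_inf.1 h1).2) x hx).symm

theorem bau_le_centralizer (T : Subgroup G) :
    baumannSubgroupOf p T ≤ centralizer (omegaOne p (centerThompsonOf p T) : Set G) := inf_le_right

variable [Finite G] [hp : Fact p.Prime]

open H14.MaxIn in
theorem thompson_eq {S T : Sylow p G} (h : thompsonSubgroupOf p (T : Subgroup G) ≤ (S : Subgroup G)) :
    thompsonSubgroupOf p (S : Subgroup G) = thompsonSubgroupOf p (T : Subgroup G) := by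
  obtain ⟨g, hg⟩ := MulAction.exists_smul_eq G T S
  have hS : (S : Subgroup G) = cg g (T : Subgroup G) := by
    rw [← hg]; rfl
  have hle : thompsonSubgroupOf p (T : Subgroup G) ≤ thompsonSubgroupOf p (S : Subgroup G) := by
    rw [H56.ZJD.thompson_eq p (T : Subgroup G)]
    apply sSup_le
    intro A hA
    have hAJ : A ≤ thompsonSubgroupOf p (T : Subgroup G) := by
      rw [H56.ZJD.thompson_eq]; exact le_sSup hA
    have hAS : A ∈ maxIn true p (S : Subgroup G) := by
      refine ⟨hAJ.trans h, hA.2.1, ?_⟩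
      intro B hB hBe
      have h1 : cg g⁻¹ B ≤ (T : Subgroup G) := by
        rw [cg_le_iff, inv_inv, ← hS]; exact hB
      have h2 := hA.2.2 _ h1 (hBe.map _)
      rwa [card_cg] at h2
    rw [H56.ZJD.thompson_eq]
    exact le_sSup hAS
  symm
  apply Subgroup.eq_of_le_of_card_ge hle
  rw [hS, ← thompson_cg, card_cg]

theorem bau_eq {S T : Sylow p G} (h : baumannSubgroupOf p (T : Subgroup G) ≤ (S : Subgroup G)) :
    baumannSubgroupOf p (S : Subgroup G) = baumannSubgroupOf p (T : Subgroup G) := by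
  have h1 := thompson_eq ((thompson_le_bau (T : Subgroup G)).trans h)
  obtain ⟨g, hg⟩ := MulAction.exists_smul_eq G T S
  have hS : (S : Subgroup G) = cg g (T : Subgroup G) := by
    rw [← hg]; rfl
  symm
  apply Subgroup.eq_of_le_of_card_ge
  · conv_rhs => unfold baumannSubgroupOf centerThompsonOf
    rw [h1]
    refine le_inf h ?_
    exact inf_le_right
  · rw [hS, ← bau_cg, card_cg]

/-- every `p`-subgroup containing the Baumann subgroup normalizes it -/
theorem le_nz_bau (T : Sylow p G) {X : Subgroup G} (hX : IsPGroup p X) (h : baumannSubgroupOf p (T : Subgroup G) ≤ X) :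
    X ≤ normalizer (baumannSubgroupOf p (T : Subgroup G) : Set G) := by
  obtain ⟨S, hS⟩ := hX.exists_le_sylow
  rw [← bau_eq (S := S) (h.trans hS)]
  exact hS.trans (Subgroup.le_normalizer.trans (nz_le_bau _))

theorem le_nz_of_comm {E B : Subgroup G} (h : ⁅E, B⁆ = E) : B ≤ normalizer (E : Set G) := by
  rw [le_normalizer_iff_commutator_le_left]
  exact h.le

/-- the basic argument: `Q` normalizes `E` -/
theorem nz_of (T : Sylow p G) {E Q : Subgroup G} (h1 : resOf p E = E)
    (h2 : ⁅E, baumannSubgroupOf p (T : Subgroup G)⁆ = E) (hQ : IsPGroup p Q)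
    (hBQ : baumannSubgroupOf p (T : Subgroup G) ≤ normalizer (Q : Set G)) (hEQ : E ≤ normalizer (Q : Set G)) :
    Q ≤ normalizer (E : Set G) := by
  set B := baumannSubgroupOf p (T : Subgroup G) with hB
  have hBE : B ≤ normalizer (E : Set G) := le_nz_of_comm h2
  have hBp : IsPGroup p B := T.2.to_le (bau_le _)
  have hX : IsPGroup p ↥(B ⊔ Q) := hBp.to_sup_of_normal_right' hQ hBQ
  have hQB : Q ≤ normalizer (B : Set G) := le_sup_right.trans (le_nz_bau T hX le_sup_left)
  set L := E ⊔ B with hL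
  have hLE : L ≤ normalizer (E : Set G) := sup_le Subgroup.le_normalizer hBE
  have hLQ : L ≤ normalizer (Q : Set G) := sup_le hEQ hBQ
  set D := Q ⊓ L with hD
  have hLD : L ≤ normalizer (D : Set G) := by
    intro l hl
    rw [mem_nz_iff, hD, cg_inf, mem_nz_iff.1 (hLQ hl), cg_eq_self hl]
  have hconj : ∀ {x : G} {d : G}, x ∈ L → d ∈ D → x * d * x⁻¹ ∈ D := fun {x d} hx hd =>
    (mem_normalizer_iff.1 (hLD hx) d).1 hd
  have hconj' : ∀ {x : G} {d : G}, x ∈ L → d ∈ D → x⁻¹ * d * x ∈ D := fun {x d} hx hd => by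
    have := hconj (inv_mem hx) hd
    rwa [inv_inv] at this
  let K : Subgroup G :=
    { carrier := {x | x ∈ L ∧ ∀ q ∈ Q, q * x * q⁻¹ * x⁻¹ ∈ D}
      one_mem' := ⟨one_mem _, fun q _ => by
        have : q * 1 * q⁻¹ * 1⁻¹ = 1 := by group
        rw [this]; exact one_mem _⟩
      mul_mem' := by
        rintro x y ⟨hx, hx'⟩ ⟨hy, hy'⟩
        refine ⟨mul_mem hx hy, fun q hq => ?_⟩
        have e : q * (x * y) * q⁻¹ * (x * y)⁻¹ = (q * x * q⁻¹ * x⁻¹) * (x * (q * y * q⁻¹ * y⁻¹) * x⁻¹) := by group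
        rw [e]
        exact mul_mem (hx' q hq) (hconj hx (hy' q hq))
      inv_mem' := by
        rintro x ⟨hx, hx'⟩
        refine ⟨inv_mem hx, fun q hq => ?_⟩
        have e : q * x⁻¹ * q⁻¹ * x⁻¹⁻¹ = x⁻¹ * (q * x * q⁻¹ * x⁻¹)⁻¹⁻¹⁻¹ * x := by group
        rw [e]
        exact hconj' hx (inv_mem (inv_mem (inv_mem (hx' q hq)))) }
  have hKmem : ∀ x, x ∈ K ↔ x ∈ L ∧ ∀ q ∈ Q, q * x * q⁻¹ * x⁻¹ ∈ D := fun x => Iff.rfl
  have hBK : B ≤ K := by
    intro b hb
    refine (hKmem b).2 ⟨Subgroup.mem_sup_right hb, fun q hq => Subgroup.mem_inf.2 ⟨?_, ?_⟩⟩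
    · have h3 : b * q⁻¹ * b⁻¹ ∈ Q := (mem_normalizer_iff.1 (hBQ hb) _).1 (inv_mem hq)
      have e : q * b * q⁻¹ * b⁻¹ = q * (b * q⁻¹ * b⁻¹) := by group
      rw [e]; exact mul_mem hq h3
    · have h3 : q * b * q⁻¹ ∈ B := (mem_normalizer_iff.1 (hQB hq) _).1 hb
      exact mul_mem (Subgroup.mem_sup_right h3) (Subgroup.mem_sup_right (inv_mem hb))
  have hEK : E ≤ K := by
    rw [← h2, Subgroup.commutator_le]
    intro e he b hb
    have he' : e ∈ L := Subgroup.mem_sup_left he
    have h3 : e * b * e⁻¹ ∈ K := by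
      have hbK := (hKmem b).1 (hBK hb)
      refine (hKmem _).2 ⟨mul_mem (mul_mem he' hbK.1) (inv_mem he'), fun q hq => ?_⟩
      have h4 : e⁻¹ * q * e ∈ Q := by
        have := (mem_normalizer_iff.1 (inv_mem (hEQ he)) q).1 hq
        rwa [inv_inv] at this
      have e1 : q * (e * b * e⁻¹) * q⁻¹ * (e * b * e⁻¹)⁻¹ =
          e * ((e⁻¹ * q * e) * b * (e⁻¹ * q * e)⁻¹ * b⁻¹) * e⁻¹ := by group
      rw [e1]
      exact hconj he' (hbK.2 _ h4)
    rw [commutatorElement_def]
    exact mul_mem h3 (inv_mem (hBK hb))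
  have h3 : ⁅Q, E⁆ ≤ D := by
    rw [Subgroup.commutator_le]
    intro q hq e he
    rw [commutatorElement_def]
    exact ((hKmem e).1 (hEK he)).2 q hq
  have h4 : ⁅Q, E⁆ ≤ E := by
    refine (H52.Cop.commutator_le_of_resOf_eq hQ hEQ h1).trans ?_
    refine (Subgroup.commutator_mono h3 le_rfl).trans ?_
    rw [← le_normalizer_iff_commutator_le_right]
    exact inf_le_right.trans hLE
  rwa [le_normalizer_iff_commutator_le_right]

end H51.Bau
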