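import Cfsg.Agent.Lib.H51.BauSL2
import Cfsg.Agent.Lib.H65.PBasic

/-!
The exceptional blocks (`p = 3`).
-/

set_option autoImplicit false
set_option linter.unusedSectionVars false
set_option linter.unusedVariables false

namespace H51.Bau

open Subgroup Cfsg H51.FF H51.OG H52.PRes H52.PCore H53.PU
open scoped commutatorElement MatrixGroups

variable {G : Type*} [Group G]

theorem comm_cen {a b w w' : G} (c1 : w * a = a * w) (c2 : w * b = b * w) (c3 : w * w' = w' * w) (c4 : w' * a = a * w')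
    (c5 : w' * b = b * w') : (w * a) * (w' * b) * (w * a)⁻¹ * (w' * b)⁻¹ = a * b * a⁻¹ * b⁻¹ := by
  have C1 : Commute w a := c1
  have C2 : Commute w b := c2
  have C3 : Commute w w' := c3
  have C4 : Commute w' a := c4
  have C5 : Commute w' b := c5
  have h1 : (w * a) * (w' * b) = (w * w') * (a * b) := by
    rw [mul_assoc, ← mul_assoc a, ← C4.eq, mul_assoc, mul_assoc]
  have h2 : (w' * b) * (w * a) = (w * w') * (b * a) := by
    rw [mul_assoc, ← mul_assoc b, ← C2.eq, mul_assoc, ← mul_assoc w', ← C3.eq, mul_assoc]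
  have h3 : Commute (w * w') (a * b * (b * a)⁻¹) :=
    Commute.mul_left ((C1.mul_right C2).mul_right (C2.mul_right C1).inv_right) ((C4.mul_right C5).mul_right (C5.mul_right C4).inv_right)
  calc (w * a) * (w' * b) * (w * a)⁻¹ * (w' * b)⁻¹ = ((w * a) * (w' * b)) * ((w' * b) * (w * a))⁻¹ := by group
    _ = (w * w') * (a * b * (b * a)⁻¹) * (w * w')⁻¹ := by rw [h1, h2]; group
    _ = a * b * (b * a)⁻¹ := by rw [h3.eq]; group
    _ = a * b * a⁻¹ * b⁻¹ := by group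

/-- `O_3(E)` -/
def Qf (E : Subgroup G) : Subgroup G := pCoreOf 3 E
/-- `Ω₁(Z(O_3(E)))` -/
def Wf (E : Subgroup G) : Subgroup G := omegaOneCenter 3 (pCoreOf 3 E)
/-- the centre of `E` -/
def Zf (E : Subgroup G) : Subgroup G := omegaOneCenter 3 (pCoreOf 3 E) ⊓ centralizer (E : Set G)

variable [Finite G]

/-- the exceptional situation with `[O_3(G), E] = O_3(E)` -/
structure Ex (T : Sylow 3 G) (E : Subgroup G) (F : Type) [Field F] [Fintype F] : Prop where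
  hG : centralizer (pCore 3 G : Set G) ≤ pCore 3 G
  hE : IsBaumannBlock 3 (T : Subgroup G) E
  hF : ∃ n, Fintype.card F = 3 ^ n
  hZ : Nat.card (Zf E) = Fintype.card F
  iso : Nonempty (↥E ⧸ pCore 3 ↥E ≃* ↥(commutator (Matrix.SpecialLinearGroup (Fin 2) F)))
  a1 : ActsAsSL2OnSection F (commutator (Matrix.SpecialLinearGroup (Fin 2) F)) E (Wf E) (Zf E)
  a2 : ActsAsSL2OnSection F (commutator (Matrix.SpecialLinearGroup (Fin 2) F)) E (Qf E) (Wf E)
  qq : ⁅Qf E, Qf E⁆ = Zf E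
  zz : E ⊓ centralizer (E : Set G) = Zf E
  bq : ∀ b : G, b ∈ baumannSubgroupOf 3 (T : Subgroup G) → b ∉ centralizer (Wf E : Set G) →
    ¬ ⁅⁅Qf E, zpowers b⁆, zpowers b⁆ ≤ Zf E
  hN : ¬ ⁅pCore 3 G, E⁆ ≤ Wf E

variable {T : Sylow 3 G} {E : Subgroup G} {F : Type} [Field F] [Fintype F]

theorem three_prime : Fact (Nat.Prime 3) := ⟨by norm_num⟩

attribute [local instance] three_prime

namespace Ex

theorem Wle : Wf E ≤ Qf E := H13.Omega.omegaZ_le _

theorem Wel : IsElementaryAbelian 3 (Wf E) := H13.Omega.isElementaryAbelian_omegaZ _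

theorem Wcen {w q : G} (hw : w ∈ Wf E) (hq : q ∈ Qf E) : q * w = w * q :=
  mem_centralizer_iff.1 (H13.Omega.omegaZ_le_centralizer (p := 3) (pCoreOf 3 E) hw) q hq

theorem W3 {w : G} (hw : w ∈ Wf E) : w ^ 3 = 1 := Wel.2 w hw

theorem Zle : Zf E ≤ Wf E := inf_le_left

theorem Zcen {z e : G} (hz : z ∈ Zf E) (he : e ∈ E) : e * z = z * e := mem_centralizer_iff.1 (Subgroup.mem_inf.1 hz).2 e he

theorem QE : Qf E ≤ E := pCoreOf_le E

theorem Qp : IsPGroup 3 (Qf E) := isPGroup_pCoreOf E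

theorem EQ : E ≤ normalizer (Qf E : Set G) := le_normalizer_pCoreOf E

theorem nzEQ : normalizer (E : Set G) ≤ normalizer (Qf E : Set G) := normalizer_le_normalizer_pCoreOf E

theorem nzQW : normalizer (Qf E : Set G) ≤ normalizer (Wf E : Set G) := by
  intro g hg
  rw [mem_nz_iff] at hg ⊢
  show cg g (omegaOne 3 _) = _
  rw [omegaOne_cg, cg_inf, map_centralizer]
  have : cg g (pCoreOf 3 E) = pCoreOf 3 E := hg
  rw [this]
  rfl

theorem nzEW : normalizer (E : Set G) ≤ normalizer (Wf E : Set G) := nzEQ.trans nzQW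

theorem nzEZ : normalizer (E : Set G) ≤ normalizer (Zf E : Set G) := by
  intro g hg
  have h1 := nzEW hg
  rw [mem_nz_iff] at hg h1 ⊢
  show cg g (Wf E ⊓ centralizer (E : Set G)) = _
  rw [cg_inf, map_centralizer, hg, h1]
  rfl

variable (ex : Ex T E F)

include ex

theorem nE : pCore 3 G ≤ normalizer (E : Set G) := core_nz ex.hE

theorem NEle : ⁅pCore 3 G, E⁆ ≤ Qf E := by
  have h1 : ⁅pCore 3 G, E⁆ ≤ E := le_normalizer_iff_commutator_le_right.1 ex.nE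
  have h2 : ⁅pCore 3 G, E⁆ ≤ pCore 3 G := by
    rw [← le_normalizer_iff_commutator_le_left, Subgroup.normalizer_eq_top]; exact le_top
  exact le_pCoreOf h1 (normalizer_commutator_ge_right _ _) (isPGroup_pCore.to_le h2)

/-- elementwise commutators -/
theorem ne {n e : G} (hn : n ∈ pCore 3 G) (he : e ∈ E) : n * e * n⁻¹ * e⁻¹ ∈ Qf E :=
  ex.NEle (Subgroup.commutator_mem_commutator hn he)

theorem WEmem {a e : G} (ha : a ∈ Wf E) (he : e ∈ E) : a * e * a⁻¹ * e⁻¹ ∈ ⁅Wf E, E⁆ :=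
  Subgroup.commutator_mem_commutator ha he

theorem WE_eq : ⁅omegaOneCenter 3 (pCore 3 G), E⁆ = ⁅Wf E, E⁆ := (block_main ex.hG ex.hE).1

theorem WE_ne : ⁅Wf E, E⁆ ≠ ⊥ := (block_main ex.hG ex.hE).2.1

theorem WE_WE : ⁅⁅Wf E, E⁆, E⁆ = ⁅Wf E, E⁆ := (block_main ex.hG ex.hE).2.2

theorem WE_V : ⁅Wf E, E⁆ ≤ omegaOneCenter 3 (pCore 3 G) := block_le ex.hG ex.hE

theorem WE_W : ⁅Wf E, E⁆ ≤ Wf E :=
  le_normalizer_iff_commutator_le_left.1 (Subgroup.le_normalizer.trans nzEW)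

theorem irrW : SecIrr E (Wf E) (Zf E) := sl_irr ex.a1

theorem irrQ : SecIrr E (Qf E) (Wf E) := sl_irr ex.a2

theorem Wdec {w : G} (hw : w ∈ Wf E) : ∃ a ∈ ⁅Wf E, E⁆, ∃ z ∈ Zf E, w = a * z := by
  refine ex.irrW ⁅Wf E, E⁆ ex.WE_W (normalizer_commutator_ge_right _ _) ?_ w hw
  intro h
  apply ex.WE_ne
  rw [← ex.WE_WE, Subgroup.commutator_eq_bot_iff_le_centralizer]
  exact h.trans inf_le_right

/-- `[N, E] = Q` -/
theorem NEeq : ⁅pCore 3 G, E⁆ = Qf E := by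
  apply le_antisymm ex.NEle
  have h1 := ex.irrQ ⁅pCore 3 G, E⁆ ex.NEle (normalizer_commutator_ge_right _ _) ex.hN
  have hWR : ⁅Wf E, E⁆ ≤ ⁅pCore 3 G, E⁆ := by
    rw [← ex.WE_eq]
    exact Subgroup.commutator_mono (H13.Omega.omegaZ_le _) le_rfl
  have hZR : Zf E ≤ ⁅pCore 3 G, E⁆ := by
    rw [← ex.qq, Subgroup.commutator_le]
    intro a ha b hb
    obtain ⟨r, hr, w, hw, rfl⟩ := h1 a ha
    obtain ⟨r', hr', w', hw', rfl⟩ := h1 b hb
    have c1 := Wcen hw (ex.NEle hr')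
    have c2 := Wcen hw' (ex.NEle hr)
    have c3 := Wcen hw' (Wle hw)
    have : ⁅r * w, r' * w'⁆ = r * r' * r⁻¹ * r'⁻¹ := by
      rw [commutatorElement_def]
      calc r * w * (r' * w') * (r * w)⁻¹ * (r' * w')⁻¹ = r * (w * r') * w' * w⁻¹ * r⁻¹ * w'⁻¹ * r'⁻¹ := by group
        _ = r * r' * (w * w') * w⁻¹ * r⁻¹ * w'⁻¹ * r'⁻¹ := by rw [← c1]; group
        _ = r * r' * w' * r⁻¹ * w'⁻¹ * r'⁻¹ := by rw [c3]; group
        _ = r * r' * r⁻¹ * (r * w') * r⁻¹ * w'⁻¹ * r'⁻¹ := by group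
        _ = r * r' * r⁻¹ * r'⁻¹ := by rw [c2]; group
    rw [this]
    exact mul_mem (mul_mem (mul_mem hr hr') (inv_mem hr)) (inv_mem hr')
  intro u hu
  obtain ⟨r, hr, w, hw, rfl⟩ := h1 u hu
  obtain ⟨a, ha, z, hz, rfl⟩ := ex.Wdec hw
  exact mul_mem hr (mul_mem (hWR ha) (hZR hz))

theorem QN : Qf E ≤ pCore 3 G := by
  rw [← ex.NEeq, ← le_normalizer_iff_commutator_le_left, Subgroup.normalizer_eq_top]
  exact le_top

/-- `[Q, N] ≤ W` -/
theorem qn {q n : G} (hq : q ∈ Qf E) (hn : n ∈ pCore 3 G) : q * n * q⁻¹ * n⁻¹ ∈ Wf E := by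
  set N := pCore 3 G with hNdef
  have hNW : N ≤ normalizer (Wf E : Set G) := ex.nE.trans nzEW
  have hNQ : N ≤ normalizer (Qf E : Set G) := ex.nE.trans nzEQ
  have hNn : N.Normal := inferInstance
  have hWn : ∀ {x w : G}, x ∈ N → w ∈ Wf E → x * w * x⁻¹ ∈ Wf E := fun {x w} hx hw =>
    (mem_normalizer_iff.1 (hNW hx) w).1 hw
  let C : Subgroup G :=
    { carrier := {x | x ∈ Qf E ∧ ∀ n ∈ N, x * n * x⁻¹ * n⁻¹ ∈ Wf E}
      one_mem' := ⟨one_mem _, fun n _ => by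
        have : (1 : G) * n * 1⁻¹ * n⁻¹ = 1 := by group
        rw [this]; exact one_mem _⟩
      mul_mem' := by
        rintro x y ⟨hx, hx'⟩ ⟨hy, hy'⟩
        refine ⟨mul_mem hx hy, fun n hn => ?_⟩
        have e : x * y * n * (x * y)⁻¹ * n⁻¹ = (x * (y * n * y⁻¹ * n⁻¹) * x⁻¹) * (x * n * x⁻¹ * n⁻¹) := by group
        rw [e]
        exact mul_mem (hWn (ex.QN hx) (hy' n hn)) (hx' n hn)
      inv_mem' := by
        rintro x ⟨hx, hx'⟩
        refine ⟨inv_mem hx, fun n hn => ?_⟩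
        have e : x⁻¹ * n * x⁻¹⁻¹ * n⁻¹ = x⁻¹ * (x * n * x⁻¹ * n⁻¹)⁻¹ * x⁻¹⁻¹ := by group
        rw [e]
        exact hWn (inv_mem (ex.QN hx)) (inv_mem (hx' n hn)) }
  have hCmem : ∀ x, x ∈ C ↔ x ∈ Qf E ∧ ∀ n ∈ N, x * n * x⁻¹ * n⁻¹ ∈ Wf E := fun x => Iff.rfl
  have hCE : E ≤ normalizer (C : Set G) := by
    intro e he
    have hsub : ∀ e ∈ E, ∀ x ∈ C, e * x * e⁻¹ ∈ C := by
      intro e he x hx
      obtain ⟨h1, h2⟩ := (hCmem x).1 hx
      refine (hCmem _).2 ⟨(mem_normalizer_iff.1 (EQ he) x).1 h1, fun n hn => ?_⟩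
      have hn' : e⁻¹ * n * e ∈ N := by
        have := hNn.conj_mem n hn e⁻¹
        rwa [inv_inv] at this
      have e1 : e * x * e⁻¹ * n * (e * x * e⁻¹)⁻¹ * n⁻¹ = e * (x * (e⁻¹ * n * e) * x⁻¹ * (e⁻¹ * n * e)⁻¹) * e⁻¹ := by group
      rw [e1]
      exact (mem_normalizer_iff.1 (nzEW (Subgroup.le_normalizer he)) _).1 (h2 _ hn')
    rw [mem_normalizer_iff]
    intro x
    refine ⟨hsub e he x, fun h => ?_⟩
    have := hsub e⁻¹ (inv_mem he) _ h
    have e2 : e⁻¹ * (e * x * e⁻¹) * e⁻¹⁻¹ = x := by group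
    rwa [e2] at this
  -- a fixed point outside `W`
  have hne : ¬ C ≤ Wf E := by
    intro hCW
    -- work in the group `N`
    have hQW : ¬ Qf E ≤ Wf E := fun h => ex.hN (ex.NEle.trans h)
    have hNp : IsPGroup 3 N := isPGroup_pCore
    have hW' : ((Wf E).subgroupOf N).Normal :=
      (normal_subOf_iff (Wle.trans ex.QN)).2 hNW
    have hQ' : ((Qf E).subgroupOf N).Normal := (normal_subOf_iff ex.QN).2 hNQ
    have hQm : (((Qf E).subgroupOf N).map (QuotientGroup.mk' ((Wf E).subgroupOf N))).Normal :=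
      hQ'.map _ (QuotientGroup.mk'_surjective _)
    have hQ1 : ((Qf E).subgroupOf N).map (QuotientGroup.mk' ((Wf E).subgroupOf N)) ≠ ⊥ := by
      intro h
      apply hQW
      rw [Subgroup.map_eq_bot_iff, QuotientGroup.ker_mk'] at h
      intro q hq
      exact h (show (⟨q, ex.QN hq⟩ : N) ∈ (Qf E).subgroupOf N from hq)
    have h1 := H65.PBasic.inf_center_ne_bot (hNp.to_quotient ((Wf E).subgroupOf N)) _ hQ1
    obtain ⟨y, hy1⟩ := Subgroup.ne_bot_iff_exists_ne_one.mp h1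
    obtain ⟨⟨x, hxQ, hxy⟩, hyc⟩ := Subgroup.mem_inf.mp y.2
    have hxC : (x : G) ∈ C := by
      refine (hCmem _).2 ⟨hxQ, fun n hn => ?_⟩
      have h2 := mem_center_iff.1 hyc (QuotientGroup.mk' _ (⟨n, hn⟩ : N))
      rw [← hxy] at h2
      have h3 : QuotientGroup.mk' ((Wf E).subgroupOf N) (x * ⟨n, hn⟩ * x⁻¹ * (⟨n, hn⟩ : N)⁻¹) = 1 := by
        rw [map_mul, map_mul, map_mul, map_inv, map_inv, ← h2]
        group
      have h4 := (QuotientGroup.eq_one_iff _).1 h3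
      exact h4
    apply hy1
    apply Subtype.ext
    rw [← hxy]
    exact (QuotientGroup.eq_one_iff x).2 (hCW hxC)
  obtain ⟨c, hc, w, hw, rfl⟩ := ex.irrQ C (fun x hx => hx.1) hCE hne q hq
  have hwC : w ∈ C := by
    refine (hCmem w).2 ⟨Wle hw, fun n hn => ?_⟩
    have := hWn hn (inv_mem hw)
    have e : w * n * w⁻¹ * n⁻¹ = w * (n * w⁻¹ * n⁻¹) := by group
    rw [e]
    exact mul_mem hw this
  exact ((hCmem _).1 (mul_mem hc hwC)).2 n hn

/-- `N` centralizes `Z` -/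
theorem nZ {z n : G} (hz : z ∈ Zf E) (hn : n ∈ pCore 3 G) : n * z = z * n := by
  have h : Zf E ≤ centralizer ({n} : Set G) := by
    rw [← ex.qq, Subgroup.commutator_le]
    intro a ha b hb
    rw [mem_centralizer_singleton_iff]
    have h1 := ex.qn ha hn
    have h2 := ex.qn hb hn
    set w := a * n * a⁻¹ * n⁻¹ with hw
    set w' := b * n * b⁻¹ * n⁻¹ with hw'
    have e1 : n * a * n⁻¹ = w⁻¹ * a := by rw [hw]; group
    have e2 : n * b * n⁻¹ = w'⁻¹ * b := by rw [hw']; group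
    have e3 : n * ⁅a, b⁆ * n⁻¹ = ⁅a, b⁆ := by
      rw [commutatorElement_def]
      have : n * (a * b * a⁻¹ * b⁻¹) * n⁻¹ = (n * a * n⁻¹) * (n * b * n⁻¹) * (n * a * n⁻¹)⁻¹ * (n * b * n⁻¹)⁻¹ := by group
      rw [this, e1, e2]
      exact comm_cen (Wcen (inv_mem h1) ha).symm (Wcen (inv_mem h1) hb).symm (Wcen (inv_mem h1) (Wle (inv_mem h2))).symm
        (Wcen (inv_mem h2) ha).symm (Wcen (inv_mem h2) hb).symm
    exact (mul_inv_eq_iff_eq_mul.1 e3).symm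
  exact (mem_centralizer_singleton_iff.1 (h hz)).symm

theorem ZV : Zf E ≤ omegaOneCenter 3 (pCore 3 G) := by
  apply H13.Omega.le_omegaOne
  · refine le_inf ((Zle.trans Wle).trans ex.QN) ?_
    intro z hz
    rw [mem_centralizer_iff]
    intro n hn
    exact ex.nZ hz hn
  · exact fun z hz => W3 (Zle hz)

theorem WV : Wf E ≤ omegaOneCenter 3 (pCore 3 G) := by
  intro w hw
  obtain ⟨a, ha, z, hz, rfl⟩ := ex.Wdec hw
  exact mul_mem (ex.WE_V ha) (ex.ZV hz)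

theorem QV : Qf E ⊓ omegaOneCenter 3 (pCore 3 G) ≤ Wf E := by
  apply H13.Omega.le_omegaOne
  · refine le_inf inf_le_left ?_
    intro x hx
    rw [mem_centralizer_iff]
    intro q hq
    exact mem_centralizer_iff.1 (H13.Omega.omegaZ_le_centralizer (p := 3) (pCore 3 G) (Subgroup.mem_inf.1 hx).2) q (ex.QN hq)
  · intro x hx
    exact (H13.Omega.isElementaryAbelian_omegaZ (p := 3) (pCore 3 G)).2 x (Subgroup.mem_inf.1 hx).2

end Ex

end H51.Bau
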