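import Cfsg.Agent.Lib.H51.BauExA

/-!
The exceptional blocks (`p = 3`): coordinates.
-/

set_option autoImplicit false
set_option linter.unusedSectionVars false
set_option linter.unusedVariables false

namespace H51.Bau

open Subgroup Cfsg H51.FF H51.OG H52.PRes H52.PCore H53.PU
open scoped commutatorElement MatrixGroups

attribute [local instance] three_prime

section sl
variable {F : Type*} [Field F]

/-- the unique involution -/
theorem sl_invol (h2 : (2 : F) ≠ 0) {x : SL(2, F)} (h : x * x = 1) : x = 1 ∨ x = -1 := by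
  have hd := x.2
  rw [Matrix.det_fin_two] at hd
  have h1 : ((x * x : SL(2, F)) : Matrix (Fin 2) (Fin 2) F) = 1 := by rw [h]; rfl
  rw [Matrix.SpecialLinearGroup.coe_mul] at h1
  have e := fun i j => congrFun (congrFun h1 i) j
  simp only [Matrix.mul_apply, Fin.sum_univ_two] at e
  have e00 := e 0 0
  have e01 := e 0 1
  have e10 := e 1 0
  have e11 := e 1 1
  simp only [Matrix.one_apply_eq, Matrix.one_apply_ne (show (0 : Fin 2) ≠ 1 by decide),
    Matrix.one_apply_ne (show (1 : Fin 2) ≠ 0 by decide)] at e00 e01 e10 e11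
  -- trace
  set a := x.1 0 0
  set b := x.1 0 1
  set c := x.1 1 0
  set d := x.1 1 1
  have ht : (a + d) ≠ 0 := by
    intro ht
    apply h2
    have hda : d = -a := by linear_combination ht
    rw [hda] at hd
    linear_combination -e00 - hd
  have hb : b = 0 := by
    have : (a + d) * b = 0 := by linear_combination e01
    exact (mul_eq_zero.1 this).resolve_left ht
  have hc : c = 0 := by
    have : (a + d) * c = 0 := by linear_combination e10
    exact (mul_eq_zero.1 this).resolve_left ht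
  have had : a = d := by
    have h3 : (a - d) * (a + d) = 0 := by linear_combination e00 - e11
    have := (mul_eq_zero.1 h3).resolve_right ht
    linear_combination this
  have ha : a * a = 1 := by rw [hb] at e00; linear_combination e00
  rcases mul_self_eq_one_iff.1 ha with h3 | h3
  · left
    apply Subtype.ext
    show (x : Matrix (Fin 2) (Fin 2) F) = 1
    ext i j
    fin_cases i <;> fin_cases j
    · exact h3
    · exact hb
    · exact hc
    · exact had.symm.trans h3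
  · right
    apply Subtype.ext
    show (x : Matrix (Fin 2) (Fin 2) F) = ((-1 : SL(2, F)) : Matrix (Fin 2) (Fin 2) F)
    rw [Matrix.SpecialLinearGroup.coe_neg, Matrix.SpecialLinearGroup.coe_one]
    ext i j
    fin_cases i <;> fin_cases j
    · simpa using h3
    · simpa using hb
    · simpa using hc
    · simpa using had.symm.trans h3

end sl

variable {G : Type*} [Group G] [Finite G]

/-- coordinates of a natural section -/
structure Crd (F : Type) [Field F] (E U U₀ : Subgroup G) (ρ : ↥E →* SL(2, F)) (ψ : ↥U →* Multiplicative (Fin 2 → F)) :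
    Prop where
  nz : E ≤ normalizer (U : Set G)
  le : U₀ ≤ U
  rng : ρ.range = commutator SL(2, F)
  sur : Function.Surjective ψ
  ker : ∀ u : ↥U, ψ u = 1 ↔ (u : G) ∈ U₀
  act : ∀ (e : ↥E) (u : ↥U), ∃ w : ↥U, (w : G) = (e : G) * (u : G) * (e : G)⁻¹ ∧
    Multiplicative.toAdd (ψ w) =
      ((ρ e : SL(2, F)) : Matrix (Fin 2) (Fin 2) F).mulVec (Multiplicative.toAdd (ψ u))

theorem exists_crd {F : Type} [Field F] {E U U₀ : Subgroup G}
    (h : ActsAsSL2OnSection F (commutator SL(2, F)) E U U₀) : ∃ ρ ψ, Crd F E U U₀ ρ ψ := by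
  obtain ⟨h1, h2, ρ, ψ, h3, h4, h5, h6⟩ := h
  exact ⟨ρ, ψ, h1, h2, h3, h4, h5, h6⟩

namespace Crd

variable {F : Type} [Field F] {E U U₀ : Subgroup G} {ρ : ↥E →* SL(2, F)}
  {ψ : ↥U →* Multiplicative (Fin 2 → F)} (c : Crd F E U U₀ ρ ψ)

include c

theorem eq_iff (u v : ↥U) : ψ u = ψ v ↔ ∃ w ∈ U₀, (u : G) = v * w := by
  constructor
  · intro h
    refine ⟨(v : G)⁻¹ * u, ?_, by group⟩
    have h1 : ψ (v⁻¹ * u) = 1 := by rw [map_mul, map_inv, h, inv_mul_cancel]
    exact (c.ker _).1 h1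
  · rintro ⟨w, hw, h⟩
    have h1 : u = v * ⟨w, c.le hw⟩ := Subtype.ext h
    rw [h1, map_mul, (c.ker ⟨w, c.le hw⟩).2 hw, mul_one]

/-- an element of `E` acting trivially is in the kernel -/
theorem rho_eq_one {e : ↥E} (h : ∀ u ∈ U, (e : G) * u * (e : G)⁻¹ * u⁻¹ ∈ U₀) : ρ e = 1 := by
  apply Subtype.ext
  show (ρ e : Matrix (Fin 2) (Fin 2) F) = 1
  have h1 : ∀ v : Fin 2 → F, (ρ e : Matrix (Fin 2) (Fin 2) F).mulVec v = v := by
    intro v
    obtain ⟨u, hu⟩ := c.sur (Multiplicative.ofAdd v)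
    obtain ⟨w, hw1, hw2⟩ := c.act e u
    have h2 : ψ w = ψ u := by
      rw [c.eq_iff]
      have h3 := h u u.2
      -- `w = (w u⁻¹) u = u * (u⁻¹ (w u⁻¹) u)`
      refine ⟨(u : G)⁻¹ * ((e : G) * u * (e : G)⁻¹ * (u : G)⁻¹) * u, ?_, ?_⟩
      · have h4 : ψ (u⁻¹ * ⟨(e : G) * u * (e : G)⁻¹ * (u : G)⁻¹, c.le h3⟩ * u) = 1 := by
          rw [map_mul, map_mul, map_inv, (c.ker ⟨_, c.le h3⟩).2 h3, mul_one, inv_mul_cancel]
        exact (c.ker _).1 h4
      · rw [hw1]; group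
    rw [h2, hu] at hw2
    exact hw2.symm
  apply Matrix.toLin'.injective
  apply LinearMap.ext
  intro v
  rw [Matrix.toLin'_apply, Matrix.toLin'_one, h1]
  rfl

theorem act_of_rho {e : ↥E} (h : ρ e = 1) {u : G} (hu : u ∈ U) : u⁻¹ * ((e : G) * u * (e : G)⁻¹) ∈ U₀ := by
  obtain ⟨w, hw1, hw2⟩ := c.act e ⟨u, hu⟩
  rw [h, Matrix.SpecialLinearGroup.coe_one, Matrix.one_mulVec] at hw2
  obtain ⟨y, hy, hy'⟩ := (c.eq_iff w ⟨u, hu⟩).1 (Multiplicative.toAdd.injective hw2)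
  have : u⁻¹ * ((e : G) * u * (e : G)⁻¹) = y := by
    show u⁻¹ * ((e : G) * (⟨u, hu⟩ : U) * (e : G)⁻¹) = y
    rw [← hw1, hy']
    show u⁻¹ * (u * y) = y
    group
  rw [this]; exact hy

theorem act_of_neg {e : ↥E} (h : ρ e = -1) {u : G} (hu : u ∈ U) : u * ((e : G) * u * (e : G)⁻¹) ∈ U₀ := by
  obtain ⟨w, hw1, hw2⟩ := c.act e ⟨u, hu⟩
  rw [h, Matrix.SpecialLinearGroup.coe_neg, Matrix.SpecialLinearGroup.coe_one, Matrix.neg_mulVec, Matrix.one_mulVec] at hw2
  have h3 : ψ (⟨u, hu⟩ * w) = 1 := by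
    apply Multiplicative.toAdd.injective
    rw [map_mul]
    show Multiplicative.toAdd (ψ ⟨u, hu⟩) + Multiplicative.toAdd (ψ w) = 0
    rw [hw2, add_neg_cancel]
  have h4 := (c.ker _).1 h3
  have : ((⟨u, hu⟩ * w : U) : G) = u * ((e : G) * u * (e : G)⁻¹) := by
    show u * (w : G) = _
    rw [hw1]
  rwa [this] at h4

theorem ker_eq [Fintype F] (hiso : Nonempty (↥E ⧸ pCore 3 ↥E ≃* ↥(commutator SL(2, F))))
    (h : pCore 3 ↥E ≤ ρ.ker) : ρ.ker = pCore 3 ↥E := by
  symm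
  apply Subgroup.eq_of_le_of_card_ge h
  obtain ⟨i⟩ := hiso
  have h1 : Nat.card (↥E ⧸ pCore 3 ↥E) = Nat.card ↥(commutator SL(2, F)) := Nat.card_congr i.toEquiv
  have h2 : Nat.card (↥E ⧸ ρ.ker) = Nat.card ↥(commutator SL(2, F)) := by
    rw [← c.rng]
    exact Nat.card_congr (QuotientGroup.quotientKerEquivRange ρ).toEquiv
  have h3 := Subgroup.card_eq_card_quotient_mul_card_subgroup (pCore 3 ↥E)
  have h4 := Subgroup.card_eq_card_quotient_mul_card_subgroup ρ.ker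
  rw [h1] at h3
  rw [h2, h3] at h4
  have h5 : 0 < Nat.card ↥(commutator SL(2, F)) := Nat.card_pos
  exact (Nat.eq_of_mul_eq_mul_left h5 h4).ge

end Crd

variable {T : Sylow 3 G} {E : Subgroup G} {F : Type} [Field F] [Fintype F]

theorem two_ne (hF : ∃ n, Fintype.card F = 3 ^ n) : (2 : F) ≠ 0 := by
  intro h
  have h3 := three_zero hF
  have : (1 : F) = 0 := by linear_combination h3 - h
  exact one_ne_zero this

namespace Ex

variable (ex : Ex T E F)

include ex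

theorem ker2 {ρ : ↥E →* SL(2, F)} {ψ : ↥(Qf E) →* Multiplicative (Fin 2 → F)} (c : Crd F E (Qf E) (Wf E) ρ ψ)
    {e : G} (he : e ∈ E) : ρ ⟨e, he⟩ = 1 ↔ e ∈ Qf E := by
  have h1 : pCore 3 ↥E ≤ ρ.ker := by
    intro x hx
    have hxQ : (x : G) ∈ Qf E := ⟨x, hx, rfl⟩
    apply c.rho_eq_one
    intro u hu
    apply Zle
    rw [← ex.qq]
    have := Subgroup.commutator_mem_commutator hxQ hu
    rwa [commutatorElement_def] at this
  have h2 := c.ker_eq ex.iso h1
  rw [← MonoidHom.mem_ker, h2]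
  constructor
  · intro h
    exact ⟨_, h, rfl⟩
  · rintro ⟨x, hx, hxe⟩
    have : x = ⟨e, he⟩ := Subtype.ext hxe
    rwa [← this]

theorem ker1 {ρ : ↥E →* SL(2, F)} {ψ : ↥(Wf E) →* Multiplicative (Fin 2 → F)} (c : Crd F E (Wf E) (Zf E) ρ ψ)
    {e : G} (he : e ∈ E) : ρ ⟨e, he⟩ = 1 ↔ e ∈ Qf E := by
  have h1 : pCore 3 ↥E ≤ ρ.ker := by
    intro x hx
    have hxQ : (x : G) ∈ Qf E := ⟨x, hx, rfl⟩
    apply c.rho_eq_one
    intro u hu
    have : (x : G) * u * (x : G)⁻¹ * u⁻¹ = 1 := by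
      rw [Wcen hu hxQ]; group
    rw [this]; exact one_mem _
  have h2 := c.ker_eq ex.iso h1
  rw [← MonoidHom.mem_ker, h2]
  constructor
  · intro h
    exact ⟨_, h, rfl⟩
  · rintro ⟨x, hx, hxe⟩
    have : x = ⟨e, he⟩ := Subtype.ext hxe
    rwa [← this]

end Ex

theorem neg_mem (hF : ∃ n, Fintype.card F = 3 ^ n) : (-1 : SL(2, F)) ∈ commutator SL(2, F) := by
  rw [← qi_sq]
  exact mul_mem (q_mem (three_zero hF)).1 (q_mem (three_zero hF)).1

/-- the central involution (modulo `Q`) -/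
structure Zet (E : Subgroup G) (z : G) : Prop where
  zE : z ∈ E
  zz : z * z ∈ Qf E
  zq : ∀ q ∈ Qf E, q * (z * q * z⁻¹) ∈ Wf E
  zw : ∀ w ∈ Wf E, w * (z * w * z⁻¹) ∈ Zf E
  zc : ∀ e ∈ E, e * z * e⁻¹ * z⁻¹ ∈ Qf E

theorem neg_one_ne (hF : ∃ n, Fintype.card F = 3 ^ n) : (-1 : SL(2, F)) ≠ 1 := by
  intro h
  have h1 : ((-1 : SL(2, F)) : Matrix (Fin 2) (Fin 2) F) 0 0 = (1 : Matrix (Fin 2) (Fin 2) F) 0 0 := by rw [h]; rfl
  rw [Matrix.SpecialLinearGroup.coe_neg, Matrix.SpecialLinearGroup.coe_one, Matrix.neg_apply, Matrix.one_apply_eq] at h1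
  apply two_ne hF
  linear_combination -h1

theorem Ex.zet (ex : Ex T E F) {ρ : ↥E →* SL(2, F)} {ψ : ↥(Qf E) →* Multiplicative (Fin 2 → F)}
    (c : Crd F E (Qf E) (Wf E) ρ ψ) {z : ↥E} (hz : ρ z = -1) : Zet E (z : G) := by
  have hF := ex.hF
  obtain ⟨ρ₁, ψ₁, c₁⟩ := exists_crd ex.a1
  have hzz : (z : G) * z ∈ Qf E := by
    have := (ex.ker2 c (z * z).2).1 (by
      show ρ (z * z) = 1
      rw [map_mul, hz, neg_mul_neg, mul_one])
    exact this
  have hρ1 : ρ₁ z = -1 := by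
    have h1 : ρ₁ z * ρ₁ z = 1 := by
      rw [← map_mul]
      exact (ex.ker1 c₁ (z * z).2).2 hzz
    rcases sl_invol (two_ne hF) h1 with h | h
    · exfalso
      have h2 := (ex.ker1 c₁ z.2).1 h
      have h3 := (ex.ker2 c z.2).2 h2
      have h4 : ρ z = 1 := h3
      rw [hz] at h4
      exact neg_one_ne hF h4
    · exact h
  refine ⟨z.2, hzz, fun q hq => c.act_of_neg hz hq, fun w hw => c₁.act_of_neg hρ1 hw, fun e he => ?_⟩
  have : ρ (⟨e, he⟩ * z * ⟨e, he⟩⁻¹ * z⁻¹) = 1 := by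
    rw [map_mul, map_mul, map_mul, map_inv, map_inv, hz, mul_neg, mul_one, inv_neg]
    simp
  exact (ex.ker2 c _).1 this

end H51.Bau
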