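import Cfsg.Agent.Lib.H51.BauExB

/-!
The exceptional blocks (`p = 3`): the section `U / V`.
-/

set_option autoImplicit false
set_option linter.unusedSectionVars false
set_option linter.unusedVariables false

namespace H51.Bau

open Subgroup Cfsg H51.FF H51.OG H52.PRes H52.PCore H53.PU
open scoped commutatorElement MatrixGroups

attribute [local instance] three_prime

section gen

variable (G : Type*) [Group G]

/-- `Ω₁(Z(O_3(G)))` -/
def Vn : Subgroup G := omegaOneCenter 3 (pCore 3 G)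

theorem omegaZ_normal {G : Type*} [Group G] (N : Subgroup G) [hN : N.Normal] : (omegaOneCenter 3 N).Normal := by
  rw [← Subgroup.normalizer_eq_top_iff, eq_top_iff]
  intro g _
  rw [mem_nz_iff]
  show cg g (omegaOne 3 _) = _
  rw [omegaOne_cg, cg_inf, map_centralizer]
  have : cg g N = N := by
    rw [← mem_nz_iff, Subgroup.normalizer_eq_top]; exact Subgroup.mem_top g
  rw [this]
  rfl

instance Vn_normal : (Vn G).Normal := omegaZ_normal _

/-- `O_3(G) / V` -/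
def Nb : Subgroup (G ⧸ Vn G) := (pCore 3 G).map (QuotientGroup.mk' (Vn G))

instance Nb_normal : (Nb G).Normal :=
  Subgroup.Normal.map inferInstance _ (QuotientGroup.mk'_surjective _)

/-- `Ω₁(Z(O_3(G) / V))` -/
def Ab : Subgroup (G ⧸ Vn G) := omegaOneCenter 3 (Nb G)

instance Ab_normal : (Ab G).Normal := omegaZ_normal _

def Uf : Subgroup G := (Ab G).comap (QuotientGroup.mk' (Vn G))

instance Uf_normal : (Uf G).Normal := Subgroup.Normal.comap inferInstance _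

def D0 : Subgroup G :=
  centralizer (Vn G : Set G) ⊓
    (centralizer ((((pCore 3 G).map (QuotientGroup.mk' (Uf G)) : Subgroup (G ⧸ Uf G))) : Set (G ⧸ Uf G))).comap (QuotientGroup.mk' (Uf G))

theorem UN_normal : ((pCore 3 G).map (QuotientGroup.mk' (Uf G))).Normal :=
  Subgroup.Normal.map inferInstance _ (QuotientGroup.mk'_surjective _)

attribute [local instance] UN_normal

instance D0_normal : (D0 G).Normal := by
  unfold D0
  infer_instance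

/-- the action on `U / V` -/
noncomputable def al : G →* MulAut ↥(Ab G) := (MulAut.conjNormal (H := Ab G)).comp (QuotientGroup.mk' (Vn G))

variable {G}

theorem al_apply (g : G) (a : ↥(Ab G)) : ((al G g a : ↥(Ab G)) : G ⧸ Vn G) = (g : G ⧸ Vn G) * a * (g : G ⧸ Vn G)⁻¹ :=
  MulAut.conjNormal_apply _ _

theorem Vn_abel {v w : G} (hv : v ∈ Vn G) (hw : w ∈ Vn G) : v * w = w * v := by
  have h := H13.Omega.isElementaryAbelian_omegaZ (p := 3) (pCore 3 G)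
  have := h.1.is_comm.comm (⟨v, hv⟩ : Vn G) ⟨w, hw⟩
  exact congrArg Subtype.val this

theorem Vn_three {v : G} (hv : v ∈ Vn G) : v ^ 3 = 1 :=
  (H13.Omega.isElementaryAbelian_omegaZ (p := 3) (pCore 3 G)).2 v hv

theorem Vn_le : Vn G ≤ pCore 3 G := H13.Omega.omegaZ_le _

theorem Vn_cen {v n : G} (hv : v ∈ Vn G) (hn : n ∈ pCore 3 G) : n * v = v * n :=
  mem_centralizer_iff.1 (H13.Omega.omegaZ_le_centralizer (p := 3) (pCore 3 G) hv) n hn

theorem mem_Uf {u : G} : u ∈ Uf G ↔ u ∈ pCore 3 G ∧ u ^ 3 ∈ Vn G ∧ ∀ n ∈ pCore 3 G, u * n * u⁻¹ * n⁻¹ ∈ Vn G := by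
  constructor
  · intro h
    have h1 : (u : G ⧸ Vn G) ∈ Ab G := h
    have h2 : (u : G ⧸ Vn G) ∈ Nb G := H13.Omega.omegaZ_le _ h1
    obtain ⟨n, hn, hnu⟩ := h2
    have hu : u ∈ pCore 3 G := by
      have h3 : n⁻¹ * u ∈ Vn G := by rwa [← QuotientGroup.eq]
      have := mul_mem hn (Vn_le h3)
      rwa [mul_inv_cancel_left] at this
    refine ⟨hu, ?_, ?_⟩
    · have h3 := (H13.Omega.isElementaryAbelian_omegaZ (p := 3) (Nb G)).2 _ h1
      have h4 : ((u ^ 3 : G) : G ⧸ Vn G) = 1 := h3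
      exact (QuotientGroup.eq_one_iff _).1 h4
    · intro n hn
      have h3 := mem_centralizer_iff.1 (H13.Omega.omegaZ_le_centralizer (p := 3) (Nb G) h1) (n : G ⧸ Vn G) ⟨n, hn, rfl⟩
      rw [← QuotientGroup.eq_one_iff]
      have h4 : ((u * n * u⁻¹ * n⁻¹ : G) : G ⧸ Vn G) = (u : G ⧸ Vn G) * n * (u : G ⧸ Vn G)⁻¹ * (n : G ⧸ Vn G)⁻¹ := rfl
      rw [h4, ← h3]
      group
  · rintro ⟨h1, h2, h3⟩
    show (u : G ⧸ Vn G) ∈ Ab G
    apply H13.Omega.mem_omegaOne_of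
    · refine Subgroup.mem_inf.2 ⟨⟨u, h1, rfl⟩, ?_⟩
      rw [mem_centralizer_iff]
      rintro _ ⟨n, hn, rfl⟩
      have h4 := (QuotientGroup.eq_one_iff _).2 (h3 n hn)
      have h5 : (u : G ⧸ Vn G) * n * (u : G ⧸ Vn G)⁻¹ * (n : G ⧸ Vn G)⁻¹ = 1 := h4
      show (n : G ⧸ Vn G) * u = u * n
      rw [mul_inv_eq_one, mul_inv_eq_iff_eq_mul] at h5
      exact h5.symm
    · exact (QuotientGroup.eq_one_iff _).2 h2

theorem Vn_le_Uf : Vn G ≤ Uf G := by
  intro v hv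
  rw [mem_Uf]
  refine ⟨Vn_le hv, pow_mem hv 3, fun n hn => ?_⟩
  have : v * n * v⁻¹ * n⁻¹ = 1 := by
    rw [← Vn_cen hv hn]; group
  rw [this]; exact one_mem _

theorem Uf_le : Uf G ≤ pCore 3 G := fun u hu => (mem_Uf.1 hu).1

theorem mem_D0 {d : G} : d ∈ D0 G ↔ (∀ v ∈ Vn G, d * v = v * d) ∧ ∀ n ∈ pCore 3 G, d * n * d⁻¹ * n⁻¹ ∈ Uf G := by
  unfold D0
  rw [Subgroup.mem_inf]
  constructor
  · rintro ⟨h1, h2⟩
    refine ⟨fun v hv => (mem_centralizer_iff.1 h1 v hv).symm, fun n hn => ?_⟩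
    have h3 := mem_centralizer_iff.1 (show (d : G ⧸ Uf G) ∈ _ from h2) (n : G ⧸ Uf G) ⟨n, hn, rfl⟩
    rw [← QuotientGroup.eq_one_iff]
    have h4 : ((d * n * d⁻¹ * n⁻¹ : G) : G ⧸ Uf G) = (d : G ⧸ Uf G) * n * (d : G ⧸ Uf G)⁻¹ * (n : G ⧸ Uf G)⁻¹ := rfl
    rw [h4, ← h3]
    group
  · rintro ⟨h1, h2⟩
    refine ⟨mem_centralizer_iff.2 fun v hv => (h1 v hv).symm, ?_⟩
    show (d : G ⧸ Uf G) ∈ centralizer _
    rw [mem_centralizer_iff]
    rintro _ ⟨n, hn, rfl⟩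
    have h4 := (QuotientGroup.eq_one_iff _).2 (h2 n hn)
    have h5 : (d : G ⧸ Uf G) * n * (d : G ⧸ Uf G)⁻¹ * (n : G ⧸ Uf G)⁻¹ = 1 := h4
    show (n : G ⧸ Uf G) * d = d * n
    rw [mul_inv_eq_one, mul_inv_eq_iff_eq_mul] at h5
    exact h5.symm

theorem mk_mem_Ab {u : G} (hu : u ∈ Uf G) : (u : G ⧸ Vn G) ∈ Ab G := hu

theorem Ab_ind {a : ↥(Ab G)} : ∃ u ∈ Uf G, (a : G ⧸ Vn G) = u := by
  obtain ⟨u, hu⟩ := QuotientGroup.mk_surjective (a : G ⧸ Vn G)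
  refine ⟨u, ?_, hu.symm⟩
  show (u : G ⧸ Vn G) ∈ Ab G
  rw [hu]; exact a.2

theorem al_eq_one_iff {g : G} : al G g = 1 ↔ ∀ u ∈ Uf G, g * u * g⁻¹ * u⁻¹ ∈ Vn G := by
  constructor
  · intro h u hu
    have h1 := al_apply g ⟨(u : G ⧸ Vn G), mk_mem_Ab hu⟩
    rw [h] at h1
    rw [← QuotientGroup.eq_one_iff]
    have h2 : ((g * u * g⁻¹ * u⁻¹ : G) : G ⧸ Vn G) = (g : G ⧸ Vn G) * u * (g : G ⧸ Vn G)⁻¹ * (u : G ⧸ Vn G)⁻¹ := rfl
    rw [h2, mul_inv_eq_one]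
    exact h1.symm
  · intro h
    ext a
    rw [al_apply]
    obtain ⟨u, hu, hau⟩ := Ab_ind (a := a)
    rw [hau]
    have h1 := (QuotientGroup.eq_one_iff _).2 (h u hu)
    have h2 : (g : G ⧸ Vn G) * u * (g : G ⧸ Vn G)⁻¹ * (u : G ⧸ Vn G)⁻¹ = 1 := h1
    rw [mul_inv_eq_one] at h2
    rw [h2, ← hau]
    rfl

theorem al_N {n : G} (hn : n ∈ pCore 3 G) : al G n = 1 := by
  rw [al_eq_one_iff]
  intro u hu
  have h := inv_mem ((mem_Uf.1 hu).2.2 n hn)
  have e : (u * n * u⁻¹ * n⁻¹)⁻¹ = n * u * n⁻¹ * u⁻¹ := by group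
  rwa [e] at h

variable [Finite G]

theorem ker_le (hG : centralizer (pCore 3 G : Set G) ≤ pCore 3 G) {R : Subgroup G} (hR : resOf 3 R = R) (hRD : R ≤ D0 G)
    (h1 : ∀ g ∈ R, al G g = 1) : R = ⊥ := by
  have hN : ∀ X : Subgroup G, X.Normal → R ≤ normalizer (X : Set G) := by
    intro X hX
    rw [Subgroup.normalizer_eq_top]; exact le_top
  have hNU : ⁅pCore 3 G, R⁆ ≤ Uf G := by
    rw [Subgroup.commutator_comm, Subgroup.commutator_le]
    intro d hd n hn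
    rw [commutatorElement_def]
    exact (mem_D0.1 (hRD hd)).2 n hn
  have hUV : ⁅Uf G, R⁆ ≤ Vn G := by
    rw [Subgroup.commutator_comm, Subgroup.commutator_le]
    intro d hd n hn
    rw [commutatorElement_def]
    exact al_eq_one_iff.1 (h1 d hd) n hn
  have hV : ⁅Vn G, R⁆ = ⊥ := by
    rw [Subgroup.commutator_comm, Subgroup.commutator_eq_bot_iff_le_centralizer]
    exact hRD.trans inf_le_left
  have hNp : IsPGroup 3 (pCore 3 G) := isPGroup_pCore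
  have hRN : R ≤ pCore 3 G := by
    refine le_trans ?_ hG
    have h2 : ⁅pCore 3 G, R⁆ ≤ ⊥ := by
      calc ⁅pCore 3 G, R⁆ ≤ ⁅⁅pCore 3 G, R⁆, R⁆ := H52.Cop.commutator_le_of_resOf_eq hNp (hN _ inferInstance) hR
        _ ≤ ⁅Uf G, R⁆ := Subgroup.commutator_mono hNU le_rfl
        _ ≤ ⁅⁅Uf G, R⁆, R⁆ := H52.Cop.commutator_le_of_resOf_eq (hNp.to_le Uf_le) (hN _ inferInstance) hR
        _ ≤ ⁅Vn G, R⁆ := Subgroup.commutator_mono hUV le_rfl
        _ = ⊥ := hV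
    rw [le_bot_iff, Subgroup.commutator_comm, Subgroup.commutator_eq_bot_iff_le_centralizer] at h2
    exact h2
  have h3 : resOf 3 R = ⊥ := resOf_eq_bot_iff.2 (hNp.to_le hRN)
  rw [← hR, h3]

theorem O3_triv (hG : centralizer (pCore 3 G : Set G) ≤ pCore 3 G) (R : Subgroup (MulAut ↥(Ab G)))
    (hR : R ≤ (D0 G).map (al G)) (hn : (D0 G).map (al G) ≤ normalizer (R : Set (MulAut ↥(Ab G)))) (hp : IsPGroup 3 R) :
    R = ⊥ := by
  -- the kernel is a 3-group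
  set K0 : Subgroup G := D0 G ⊓ (al G).ker with hK0
  have hK0p : IsPGroup 3 K0 := by
    rw [← resOf_eq_bot_iff]
    apply ker_le hG (resOf_resOf _) ((resOf_le _).trans inf_le_left)
    intro g hg
    exact (Subgroup.mem_inf.1 (resOf_le _ hg)).2
  set R' : Subgroup G := D0 G ⊓ R.comap (al G) with hR'
  have hR'p : IsPGroup 3 R' := by
    intro x
    have hx := Subgroup.mem_inf.1 x.2
    obtain ⟨k, hk⟩ := hp ⟨al G x, hx.2⟩
    have hk' : (al G x) ^ 3 ^ k = 1 := congrArg Subtype.val hk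
    have h1 : (x : G) ^ 3 ^ k ∈ K0 := Subgroup.mem_inf.2 ⟨pow_mem hx.1 _, by
      rw [MonoidHom.mem_ker, map_pow]; exact hk'⟩
    obtain ⟨l, hl⟩ := hK0p ⟨_, h1⟩
    refine ⟨k + l, Subtype.ext ?_⟩
    have hl' : ((x : G) ^ 3 ^ k) ^ 3 ^ l = 1 := congrArg Subtype.val hl
    show (x : G) ^ 3 ^ (k + l) = 1
    rw [pow_add, pow_mul]; exact hl'
  have hR'n : D0 G ≤ normalizer (R' : Set G) := by
    have hsub : ∀ d ∈ D0 G, ∀ x ∈ R', d * x * d⁻¹ ∈ R' := by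
      intro d hd x hx
      have hx' := Subgroup.mem_inf.1 hx
      refine Subgroup.mem_inf.2 ⟨mul_mem (mul_mem hd hx'.1) (inv_mem hd), ?_⟩
      show al G (d * x * d⁻¹) ∈ R
      rw [map_mul, map_mul, map_inv]
      exact (mem_normalizer_iff.1 (hn ⟨d, hd, rfl⟩) _).1 hx'.2
    intro d hd
    rw [mem_normalizer_iff]
    intro x
    refine ⟨hsub d hd x, fun h => ?_⟩
    have := hsub d⁻¹ (inv_mem hd) _ h
    have e : d⁻¹ * (d * x * d⁻¹) * d⁻¹⁻¹ = x := by group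
    rwa [e] at this
  have h1 : R' ≤ pCore 3 G := (le_pCoreOf inf_le_left hR'n hR'p).trans
    (pCoreOf_le_pCore_of_subnormal (Subgroup.Normal.isSubnormal inferInstance))
  rw [eq_bot_iff]
  intro r hr
  obtain ⟨d, hd, rfl⟩ := hR hr
  rw [Subgroup.mem_bot]
  exact al_N (h1 (Subgroup.mem_inf.2 ⟨hd, hr⟩))

end gen

end H51.Bau
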