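import Cfsg.Agent.Lib.H51.BauExC

/-!
The exceptional blocks (`p = 3`): the commutator form.
-/

set_option autoImplicit false
set_option linter.unusedSectionVars false
set_option linter.unusedVariables false

namespace H51.Bau

open Subgroup Cfsg H51.FF H51.OG H52.PRes H52.PCore H53.PU
open scoped commutatorElement MatrixGroups

attribute [local instance] three_prime

variable {G : Type*} [Group G] [Finite G]
variable {T : Sylow 3 G} {E : Subgroup G} {F : Type} [Field F] [Fintype F]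

namespace Ex

variable (ex : Ex T E F)

include ex

theorem WVn : Wf E ≤ Vn G := ex.WV

theorem QVn {x : G} (h1 : x ∈ Qf E) (h2 : x ∈ Vn G) : x ∈ Wf E := ex.QV (Subgroup.mem_inf.2 ⟨h1, h2⟩)

theorem Qcube {q : G} (hq : q ∈ Qf E) : q ^ 3 ∈ Wf E := by
  obtain ⟨ρ, ψ, c⟩ := exists_crd ex.a2
  have h1 : ψ (⟨q, hq⟩ ^ 3) = 1 := by
    apply Multiplicative.toAdd.injective
    rw [map_pow]
    show 3 • Multiplicative.toAdd (ψ ⟨q, hq⟩) = 0
    have h3 := three_zero ex.hF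
    ext i
    rw [Pi.smul_apply, nsmul_eq_mul]
    push_cast
    rw [h3, zero_mul]
    rfl
  exact (c.ker _).1 h1

theorem QU : Qf E ≤ Uf G := by
  intro q hq
  rw [mem_Uf]
  exact ⟨ex.QN hq, ex.WVn (ex.Qcube hq), fun n hn => ex.WVn (ex.qn hq hn)⟩

theorem vE {v e : G} (hv : v ∈ Vn G) (he : e ∈ E) : v * e * v⁻¹ * e⁻¹ ∈ ⁅Wf E, E⁆ := by
  rw [← ex.WE_eq]
  exact Subgroup.commutator_mem_commutator hv he

/-- `V = [W, E] C_V(E)` -/
theorem Vdec {z : G} (hz : Zet E z) {v : G} (hv : v ∈ Vn G) :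
    ∃ a ∈ ⁅Wf E, E⁆, ∃ c ∈ Vn G, (∀ e ∈ E, e * c = c * e) ∧ v = a * c := by
  have hVn : (Vn G).Normal := inferInstance
  -- `C_V(z)`
  let D : Subgroup G :=
    { carrier := {x | x ∈ Vn G ∧ z * x * z⁻¹ = x}
      one_mem' := ⟨one_mem _, by group⟩
      mul_mem' := by
        rintro x y ⟨hx, hx'⟩ ⟨hy, hy'⟩
        refine ⟨mul_mem hx hy, ?_⟩
        have : z * (x * y) * z⁻¹ = (z * x * z⁻¹) * (z * y * z⁻¹) := by group
        rw [this, hx', hy']
      inv_mem' := by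
        rintro x ⟨hx, hx'⟩
        refine ⟨inv_mem hx, ?_⟩
        have : z * x⁻¹ * z⁻¹ = (z * x * z⁻¹)⁻¹ := by group
        rw [this, hx'] }
  have hDmem : ∀ x, x ∈ D ↔ x ∈ Vn G ∧ z * x * z⁻¹ = x := fun x => Iff.rfl
  have hDE : ∀ e ∈ E, ∀ x ∈ D, e * x * e⁻¹ ∈ D := by
    intro e he x hx
    obtain ⟨h1, h2⟩ := (hDmem x).1 hx
    refine (hDmem _).2 ⟨hVn.conj_mem x h1 e, ?_⟩
    have h3 := hz.zc e⁻¹ (inv_mem he)
    rw [inv_inv] at h3
    set q := e⁻¹ * z * e * z⁻¹ with hq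
    have e1 : z * (e * x * e⁻¹) * z⁻¹ = e * (q * (z * x * z⁻¹) * q⁻¹) * e⁻¹ := by rw [hq]; group
    rw [e1, h2]
    have h4 := Vn_cen h1 (ex.QN h3)
    rw [h4]
    group
  have hEn : E ≤ normalizer (D : Set G) := by
    intro e he
    rw [mem_normalizer_iff]
    intro x
    refine ⟨hDE e he x, fun h => ?_⟩
    have := hDE e⁻¹ (inv_mem he) _ h
    have e2 : e⁻¹ * (e * x * e⁻¹) * e⁻¹⁻¹ = x := by group
    rwa [e2] at this
  have hDp : IsPGroup 3 D := isPGroup_pCore.to_le (fun x hx => Vn_le ((hDmem x).1 hx).1)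
  have hDEZ : ⁅D, E⁆ ≤ Zf E := by
    rw [Subgroup.commutator_le]
    intro x hx e he
    have h1 : ⁅x, e⁆ ∈ D := by
      rw [commutatorElement_def]
      have : x * e * x⁻¹ * e⁻¹ = x * (e * x⁻¹ * e⁻¹) := by group
      rw [this]
      exact mul_mem hx (hDE e he _ (inv_mem hx))
    have h2 : ⁅x, e⁆ ∈ Wf E := ex.WE_W (ex.vE ((hDmem x).1 hx).1 he)
    have h3 := hz.zw _ h2
    rw [((hDmem _).1 h1).2] at h3
    have h4 := W3 h2
    have h5 : ⁅x, e⁆ = (⁅x, e⁆ * ⁅x, e⁆)⁻¹ := by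
      rw [eq_inv_iff_mul_eq_one, ← h4]
      rw [pow_succ, pow_succ, pow_one, mul_assoc]
    rw [h5]
    exact inv_mem h3
  have hDE0 : ⁅D, E⁆ = ⊥ := by
    rw [eq_bot_iff]
    refine (H52.Cop.commutator_le_of_resOf_eq hDp hEn ex.hE.1).trans ?_
    refine (Subgroup.commutator_mono hDEZ le_rfl).trans ?_
    rw [le_bot_iff, Subgroup.commutator_eq_bot_iff_le_centralizer]
    exact inf_le_right
  have hDc : ∀ x ∈ D, ∀ e ∈ E, e * x = x * e := by
    intro x hx e he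
    have h1 : D ≤ centralizer (E : Set G) := by
      rwa [← Subgroup.commutator_eq_bot_iff_le_centralizer]
    exact mem_centralizer_iff.1 (h1 hx) e he
  have hv' : z * v * z⁻¹ ∈ Vn G := hVn.conj_mem v hv z
  have hx : v * (z * v * z⁻¹) ∈ D := by
    refine (hDmem _).2 ⟨mul_mem hv hv', ?_⟩
    have e1 : z * (v * (z * v * z⁻¹)) * z⁻¹ = (z * v * z⁻¹) * ((z * z) * v * (z * z)⁻¹) := by group
    rw [e1, Vn_cen hv (ex.QN hz.zz), mul_inv_cancel_right, Vn_abel hv' hv]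
  refine ⟨z * v * z⁻¹ * v⁻¹, ?_, (v * (z * v * z⁻¹))⁻¹, inv_mem ((hDmem _).1 hx).1,
    fun e he => hDc _ (inv_mem hx) e he, ?_⟩
  · have h1 := inv_mem (ex.vE hv hz.zE)
    have e1 : (v * z * v⁻¹ * z⁻¹)⁻¹ = z * v * z⁻¹ * v⁻¹ := by group
    rwa [e1] at h1
  · have h3 := Vn_three hv
    have e1 : z * v * z⁻¹ * v⁻¹ * (v * (z * v * z⁻¹))⁻¹ = (z * v * z⁻¹) * (v⁻¹ * (z * v * z⁻¹)⁻¹) * v⁻¹ := by group
    rw [e1, Vn_abel (inv_mem hv) (inv_mem hv'), ← mul_assoc, mul_inv_cancel, one_mul]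
    rw [eq_comm, ← mul_inv_eq_one]
    have e2 : v⁻¹ * v⁻¹ * v⁻¹ = (v ^ 3)⁻¹ := by group
    rw [e2, h3, inv_one]

variable {ρ : ↥E →* SL(2, F)} {ψ : ↥(Qf E) →* Multiplicative (Fin 2 → F)}

/-- commutators in `Q` only depend on the coordinates -/
theorem comm_eq (c : Crd F E (Qf E) (Wf E) ρ ψ) {a a' b b' : ↥(Qf E)} (h1 : ψ a = ψ a') (h2 : ψ b = ψ b') :
    (a : G) * b * (a : G)⁻¹ * (b : G)⁻¹ = (a' : G) * b' * (a' : G)⁻¹ * (b' : G)⁻¹ := by
  obtain ⟨w, hw, h3⟩ := (c.eq_iff a a').1 h1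
  obtain ⟨w', hw', h4⟩ := (c.eq_iff b b').1 h2
  have e1 : (a : G) = w * a' := by rw [h3]; exact Wcen hw a'.2
  have e2 : (b : G) = w' * b' := by rw [h4]; exact Wcen hw' b'.2
  rw [e1, e2]
  exact comm_cen (Wcen hw a'.2).symm (Wcen hw b'.2).symm (Wcen hw (Wle hw')).symm (Wcen hw' a'.2).symm (Wcen hw' b'.2).symm

theorem comm_Z (a b : ↥(Qf E)) : (a : G) * b * (a : G)⁻¹ * (b : G)⁻¹ ∈ Zf E := by
  rw [← ex.qq]
  have := Subgroup.commutator_mem_commutator a.2 b.2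
  rwa [commutatorElement_def] at this

theorem exists_theta (c : Crd F E (Qf E) (Wf E) ρ ψ) : ∃ θ : F → G, Function.Injective θ ∧
    ∀ a b : ↥(Qf E), (a : G) * b * (a : G)⁻¹ * (b : G)⁻¹ = θ (dt (Multiplicative.toAdd (ψ a)) (Multiplicative.toAdd (ψ b))) := by
  classical
  let _ : CommGroup ↥(Wf E) := { (inferInstance : Group ↥(Wf E)) with mul_comm := Wel.1.is_comm.comm }
  choose s hs using fun v : Fin 2 → F => c.sur (Multiplicative.ofAdd v)
  let cc : (Fin 2 → F) → (Fin 2 → F) → Additive ↥(Wf E) := fun v w =>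
    Additive.ofMul ⟨(s v : G) * s w * (s v : G)⁻¹ * (s w : G)⁻¹, Zle (ex.comm_Z _ _)⟩
  have hcc : ∀ a b : ↥(Qf E), (((cc (Multiplicative.toAdd (ψ a)) (Multiplicative.toAdd (ψ b))).toMul : ↥(Wf E)) : G) =
      (a : G) * b * (a : G)⁻¹ * (b : G)⁻¹ := by
    intro a b
    show (s _ : G) * s _ * (s _ : G)⁻¹ * (s _ : G)⁻¹ = _
    exact ex.comm_eq c (hs _) (hs _)
  have hext : ∀ x y : Additive ↥(Wf E), ((x.toMul : ↥(Wf E)) : G) = ((y.toMul : ↥(Wf E)) : G) → x = y := by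
    intro x y h
    exact Additive.toMul.injective (Subtype.ext h)
  have hsur : ∀ v : Fin 2 → F, ∃ a : ↥(Qf E), Multiplicative.toAdd (ψ a) = v := fun v => ⟨s v, by rw [hs]; rfl⟩
  have hmul : ∀ a b : ↥(Qf E), Multiplicative.toAdd (ψ (a * b)) = Multiplicative.toAdd (ψ a) + Multiplicative.toAdd (ψ b) := by
    intro a b; rw [map_mul]; rfl
  obtain ⟨θ, hθ1, hθ2⟩ := form_eq ex.hF cc
    (by
      intro v v' w
      obtain ⟨a, rfl⟩ := hsur v
      obtain ⟨a', rfl⟩ := hsur v'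
      obtain ⟨b, rfl⟩ := hsur w
      rw [← hmul]
      apply hext
      rw [hcc]
      show _ = (((cc _ _).toMul : ↥(Wf E)) : G) * (((cc _ _).toMul : ↥(Wf E)) : G)
      rw [hcc, hcc]
      have h1 := ex.comm_Z a' b
      have h2 := Wcen (Zle h1) a.2
      show (a : G) * a' * b * ((a : G) * a')⁻¹ * (b : G)⁻¹ = _
      have e1 : (a : G) * a' * b * ((a : G) * a')⁻¹ * (b : G)⁻¹ =
          (a : G) * ((a' : G) * b * (a' : G)⁻¹ * (b : G)⁻¹) * b * (a : G)⁻¹ * (b : G)⁻¹ := by group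
      rw [e1, h2]
      have h3 := Wcen (Zle h1) (show (a : G) * b * (a : G)⁻¹ * (b : G)⁻¹ ∈ Qf E from Wle (Zle (ex.comm_Z a b)))
      rw [h3]
      group)
    (by
      intro v w w'
      obtain ⟨a, rfl⟩ := hsur v
      obtain ⟨b, rfl⟩ := hsur w
      obtain ⟨b', rfl⟩ := hsur w'
      rw [← hmul]
      apply hext
      rw [hcc]
      show _ = (((cc _ _).toMul : ↥(Wf E)) : G) * (((cc _ _).toMul : ↥(Wf E)) : G)
      rw [hcc, hcc]
      have h1 := ex.comm_Z a b'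
      have h2 := Wcen (Zle h1) b.2
      show (a : G) * (b * b') * (a : G)⁻¹ * ((b : G) * b')⁻¹ = _
      have e1 : (a : G) * (b * b') * (a : G)⁻¹ * ((b : G) * b')⁻¹ =
          ((a : G) * b * (a : G)⁻¹ * (b : G)⁻¹) * (b * ((a : G) * b' * (a : G)⁻¹ * (b' : G)⁻¹)) * (b : G)⁻¹ := by group
      rw [e1, h2]
      group)
    (by
      intro v
      obtain ⟨a, rfl⟩ := hsur v
      apply hext
      rw [hcc]
      show (a : G) * a * (a : G)⁻¹ * (a : G)⁻¹ = 1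
      group)
    (by
      intro g hg v w
      obtain ⟨a, rfl⟩ := hsur v
      obtain ⟨b, rfl⟩ := hsur w
      rw [← c.rng] at hg
      obtain ⟨e, rfl⟩ := hg
      obtain ⟨a', ha1, ha2⟩ := c.act e a
      obtain ⟨b', hb1, hb2⟩ := c.act e b
      rw [← ha2, ← hb2]
      apply hext
      rw [hcc, hcc, ha1, hb1]
      have e1 : (e : G) * a * (e : G)⁻¹ * ((e : G) * b * (e : G)⁻¹) * ((e : G) * a * (e : G)⁻¹)⁻¹ * ((e : G) * b * (e : G)⁻¹)⁻¹ =
        (e : G) * ((a : G) * b * (a : G)⁻¹ * (b : G)⁻¹) * (e : G)⁻¹ := by group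
      rw [e1, Zcen (ex.comm_Z a b) e.2]
      group)
  have hθZ : ∀ x : F, (((θ x).toMul : ↥(Wf E)) : G) ∈ Zf E := by
    intro x
    have h1 := hθ2 ![1, 0] ![0, x]
    have h2 : dt ![1, 0] ![0, x] = x := by simp [dt]
    rw [h2] at h1
    rw [← h1]
    exact ex.comm_Z _ _
  refine ⟨fun x => (((θ x).toMul : ↥(Wf E)) : G), ?_, fun a b => ?_⟩
  · -- surjective onto `Z`, hence injective
    let f : F → ↥(Zf E) := fun x => ⟨_, hθZ x⟩
    have hθ0 : θ 0 = 0 := by have := hθ1 0 0; rwa [sub_zero, sub_self] at this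
    have hneg : ∀ x, θ (-x) = - θ x := by
      intro x; have := hθ1 0 x; rwa [hθ0, zero_sub, zero_sub] at this
    have hadd : ∀ x y, θ (x + y) = θ x + θ y := by
      intro x y; have := hθ1 x (-y); rwa [sub_neg_eq_add, hneg, sub_neg_eq_add] at this
    let I : Subgroup G :=
      { carrier := {y | ∃ x : F, (((θ x).toMul : ↥(Wf E)) : G) = y}
        one_mem' := ⟨0, by rw [hθ0]; rfl⟩
        mul_mem' := by
          rintro _ _ ⟨x, rfl⟩ ⟨y, rfl⟩
          exact ⟨x + y, by rw [hadd]; rfl⟩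
        inv_mem' := by
          rintro _ ⟨x, rfl⟩
          exact ⟨-x, by rw [hneg]; rfl⟩ }
    have hI : Zf E ≤ I := by
      rw [← ex.qq, Subgroup.commutator_le]
      intro a ha b hb
      refine ⟨dt (Multiplicative.toAdd (ψ ⟨a, ha⟩)) (Multiplicative.toAdd (ψ ⟨b, hb⟩)), ?_⟩
      rw [← hθ2, hcc]
      rfl
    have hfs : Function.Surjective f := by
      intro y
      obtain ⟨x, hx⟩ := hI y.2
      exact ⟨x, Subtype.ext hx⟩
    have hfb : Function.Bijective f := by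
      have _ : Fintype ↥(Zf E) := Fintype.ofFinite _
      rw [Fintype.bijective_iff_surjective_and_card]
      refine ⟨hfs, ?_⟩
      rw [← ex.hZ, Nat.card_eq_fintype_card]
    intro x y hxy
    exact hfb.1 (Subtype.ext hxy)
  · show _ = (((θ _).toMul : ↥(Wf E)) : G)
    rw [← hθ2, hcc]

end Ex

end H51.Bau
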