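import Cfsg.Agent.Lib.H51.BauExD

/-!
The exceptional blocks (`p = 3`): the group induced on `Q V / V`.
-/

set_option autoImplicit false
set_option linter.unusedSectionVars false
set_option linter.unusedVariables false

namespace H51.Bau

open Subgroup Cfsg H51.FF H51.OG H52.PRes H52.PCore H53.PU
open scoped commutatorElement MatrixGroups

attribute [local instance] three_prime

variable {G : Type*} [Group G] [Finite G]
variable {T : Sylow 3 G} {E : Subgroup G} {F : Type} [Field F] [Fintype F]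

/-- `d` induces `g` on `Q V / V` -/
def Ind (E : Subgroup G) (ψ : ↥(Qf E) →* Multiplicative (Fin 2 → F)) (d : G) (g : SL(2, F)) : Prop :=
  ∀ q : ↥(Qf E), ∃ q' : ↥(Qf E), ∃ v ∈ Vn G, d * q * d⁻¹ = q' * v ∧
    Multiplicative.toAdd (ψ q') = (g : Matrix (Fin 2) (Fin 2) F).mulVec (Multiplicative.toAdd (ψ q))

namespace Ex

variable (ex : Ex T E F)

include ex

theorem Zcenter {z : G} (h : z ∈ Zf E) : z ∈ Vn G := ex.WVn (Zle h)

variable {ρ : ↥E →* SL(2, F)} {ψ : ↥(Qf E) →* Multiplicative (Fin 2 → F)}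

/-- uniqueness of the coordinates modulo `V` -/
theorem psi_eq (c : Crd F E (Qf E) (Wf E) ρ ψ) {a b : ↥(Qf E)} {v w : G} (hv : v ∈ Vn G) (hw : w ∈ Vn G)
    (h : (a : G) * v = b * w) : ψ a = ψ b := by
  rw [c.eq_iff]
  refine ⟨(b : G)⁻¹ * a, ?_, by group⟩
  apply ex.QVn
  · exact mul_mem (inv_mem b.2) a.2
  · have : (b : G)⁻¹ * a = w * v⁻¹ := by
      rw [inv_mul_eq_iff_eq_mul, ← mul_assoc, ← h]; group
    rw [this]
    exact mul_mem hw (inv_mem hv)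

theorem exists_ind (c : Crd F E (Qf E) (Wf E) ρ ψ) {d : G} (hd : ∀ v ∈ Vn G, d * v = v * d)
    (hn : ∀ q ∈ Qf E, ∃ q' ∈ Qf E, ∃ v ∈ Vn G, d * q * d⁻¹ = q' * v) : ∃ g : SL(2, F), Ind E ψ d g := by
  classical
  obtain ⟨θ, hθ, hθc⟩ := ex.exists_theta c
  choose s hs using fun v : Fin 2 → F => c.sur (Multiplicative.ofAdd v)
  have hn' : ∀ q : ↥(Qf E), ∃ q' : ↥(Qf E), ∃ v ∈ Vn G, d * q * d⁻¹ = q' * v := by
    intro q
    obtain ⟨q', hq', v, hv, h⟩ := hn q q.2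
    exact ⟨⟨q', hq'⟩, v, hv, h⟩
  choose r vv hvv hr using hn'
  let x : (Fin 2 → F) → (Fin 2 → F) := fun v => Multiplicative.toAdd (ψ (r (s v)))
  have hx : ∀ q q' : ↥(Qf E), ∀ v ∈ Vn G, d * q * d⁻¹ = q' * v → Multiplicative.toAdd (ψ q') = x (Multiplicative.toAdd (ψ q)) := by
    intro q q' v hv h
    show _ = Multiplicative.toAdd (ψ (r (s _)))
    have h1 : ψ q = ψ (s (Multiplicative.toAdd (ψ q))) := by rw [hs]; rfl
    obtain ⟨w, hw, h2⟩ := (c.eq_iff _ _).1 h1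
    have h3 := hr (s (Multiplicative.toAdd (ψ q)))
    have hwV := ex.WVn hw
    have h4 : d * q * d⁻¹ = (r (s (Multiplicative.toAdd (ψ q))) : G) * (vv (s (Multiplicative.toAdd (ψ q))) * w) := by
      rw [← mul_assoc, ← h3, h2]
      have := hd w hwV
      calc d * (s (Multiplicative.toAdd (ψ q)) * w) * d⁻¹ = d * s (Multiplicative.toAdd (ψ q)) * d⁻¹ * (d * w) * d⁻¹ := by group
        _ = d * s (Multiplicative.toAdd (ψ q)) * d⁻¹ * w := by rw [this]; group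
    have h5 := ex.psi_eq c hv (mul_mem (hvv _) hwV) (h.symm.trans h4)
    rw [h5]
  have hdt : ∀ a b, dt (x a) (x b) = dt a b := by
    intro a b
    apply hθ
    have ha : Multiplicative.toAdd (ψ (s a)) = a := by rw [hs]; rfl
    have hb : Multiplicative.toAdd (ψ (s b)) = b := by rw [hs]; rfl
    have e1 := hθc (s a) (s b)
    rw [ha, hb] at e1
    have e2 := hθc (r (s a)) (r (s b))
    have e3 : Multiplicative.toAdd (ψ (r (s a))) = x a := rfl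
    have e4 : Multiplicative.toAdd (ψ (r (s b))) = x b := rfl
    rw [e3, e4] at e2
    rw [← e1, ← e2]
    have h1 := hr (s a)
    have h2 := hr (s b)
    -- `r = d s d⁻¹ v⁻¹`
    set v := vv (s a)
    set w := vv (s b)
    have hv := hvv (s a)
    have hw := hvv (s b)
    have hrv : ∀ {u : G} (y : ↥(Qf E)), u ∈ Vn G → u * (y : G) = y * u := fun y hu => (Vn_cen hu (ex.QN y.2)).symm
    have k1 := comm_cen (a := (r (s a) : G)) (b := (r (s b) : G)) (w := v) (w' := w) (hrv _ hv) (hrv _ hv)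
      (Vn_abel hv hw) (hrv _ hw) (hrv _ hw)
    rw [hrv _ hv, hrv _ hw, ← h1, ← h2] at k1
    rw [← k1]
    have e5 : d * (s a : G) * d⁻¹ * (d * (s b : G) * d⁻¹) * (d * (s a : G) * d⁻¹)⁻¹ * (d * (s b : G) * d⁻¹)⁻¹ =
      d * ((s a : G) * s b * (s a : G)⁻¹ * (s b : G)⁻¹) * d⁻¹ := by group
    rw [e5, hd _ (ex.Zcenter (ex.comm_Z _ _))]
    group
  obtain ⟨g, hg⟩ := exists_sl x hdt
  refine ⟨g, fun q => ⟨r q, vv q, hvv q, hr q, ?_⟩⟩
  rw [← hg]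
  exact hx q (r q) (vv q) (hvv q) (hr q)

theorem Ind_mul (c : Crd F E (Qf E) (Wf E) ρ ψ) {d e : G} {g h : SL(2, F)} (hd : Ind E ψ d g) (he : Ind E ψ e h)
    (hdV : ∀ v ∈ Vn G, d * v = v * d) : Ind E ψ (d * e) (g * h) := by
  intro q
  obtain ⟨q', v, hv, h1, h2⟩ := he q
  obtain ⟨q'', w, hw, h3, h4⟩ := hd q'
  refine ⟨q'', w * v, mul_mem hw hv, ?_, ?_⟩
  · have e1 : d * e * q * (d * e)⁻¹ = d * (e * q * e⁻¹) * d⁻¹ := by group
    rw [e1, h1]
    have := hdV v hv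
    calc d * (q' * v) * d⁻¹ = (d * q' * d⁻¹) * (d * v) * d⁻¹ := by group
      _ = q'' * (w * v) := by rw [this, h3]; group
  · rw [h4, h2, Matrix.SpecialLinearGroup.coe_mul, Matrix.mulVec_mulVec]

theorem Ind_inv (c : Crd F E (Qf E) (Wf E) ρ ψ) {d : G} {g : SL(2, F)} (hd : Ind E ψ d g)
    (hdV : ∀ v ∈ Vn G, d * v = v * d) : Ind E ψ d⁻¹ g⁻¹ := by
  intro q
  obtain ⟨q', hq'⟩ := c.sur (Multiplicative.ofAdd (((g⁻¹ : SL(2, F)) : Matrix (Fin 2) (Fin 2) F).mulVec (Multiplicative.toAdd (ψ q))))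
  have hq'' : Multiplicative.toAdd (ψ q') = ((g⁻¹ : SL(2, F)) : Matrix (Fin 2) (Fin 2) F).mulVec (Multiplicative.toAdd (ψ q)) := by
    rw [hq']; rfl
  obtain ⟨r, v, hv, h1, h2⟩ := hd q'
  rw [hq'', Matrix.mulVec_mulVec, ← Matrix.SpecialLinearGroup.coe_mul, mul_inv_cancel, Matrix.SpecialLinearGroup.coe_one,
    Matrix.one_mulVec] at h2
  obtain ⟨w, hw, h3⟩ := (c.eq_iff r q).1 (Multiplicative.toAdd.injective h2)
  have hwv : w * v ∈ Vn G := mul_mem (ex.WVn hw) hv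
  refine ⟨q', (w * v)⁻¹, inv_mem hwv, ?_, hq''⟩
  -- `d q' d⁻¹ = q w v`
  have h4 : d * q' * d⁻¹ = q * (w * v) := by rw [h1, h3, mul_assoc]
  have h5 := hdV _ (inv_mem hwv)
  have h6 : (q : G) = d * q' * d⁻¹ * (w * v)⁻¹ := by rw [h4]; group
  rw [h6]
  calc d⁻¹ * (d * q' * d⁻¹ * (w * v)⁻¹) * d⁻¹⁻¹ = q' * (d⁻¹ * ((w * v)⁻¹ * d)) := by group
    _ = q' * (w * v)⁻¹ := by rw [← h5]; group

/-- the group `J` is trivial -/
theorem J_bot (c : Crd F E (Qf E) (Wf E) ρ ψ) (hX : ∀ d ∈ D0 G, ¬ Ind E ψ d (-1)) {d : G} (hd : d ∈ D0 G) {g : SL(2, F)}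
    (hg : Ind E ψ d g) : g = 1 := by
  let J : Subgroup SL(2, F) :=
    { carrier := {g | ∃ d ∈ D0 G, Ind E ψ d g}
      one_mem' := ⟨1, one_mem _, fun q => ⟨q, 1, one_mem _, by group, by
        rw [Matrix.SpecialLinearGroup.coe_one, Matrix.one_mulVec]⟩⟩
      mul_mem' := by
        rintro x y ⟨a, ha, ha'⟩ ⟨b, hb, hb'⟩
        exact ⟨a * b, mul_mem ha hb, ex.Ind_mul c ha' hb' (mem_D0.1 ha).1⟩
      inv_mem' := by
        rintro x ⟨a, ha, ha'⟩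
        exact ⟨a⁻¹, inv_mem ha, ex.Ind_inv c ha' (mem_D0.1 ha).1⟩ }
  have hJ : J = ⊥ := by
    apply eq_bot_of_nz ex.hF J
    · intro x hx y hy
      rw [← c.rng] at hx
      obtain ⟨e, rfl⟩ := hx
      obtain ⟨a, ha, ha'⟩ := hy
      have hDn : (D0 G).Normal := inferInstance
      have hVn : (Vn G).Normal := inferInstance
      refine ⟨e * a * (e : G)⁻¹, hDn.conj_mem a ha e, fun q => ?_⟩
      obtain ⟨q1, h1, h2⟩ := c.act e⁻¹ q
      obtain ⟨q2, v, hv, h3, h4⟩ := ha' q1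
      obtain ⟨q3, h5, h6⟩ := c.act e q2
      refine ⟨q3, e * v * (e : G)⁻¹, hVn.conj_mem v hv e, ?_, ?_⟩
      · rw [h5]
        have e1 : (e : G) * a * (e : G)⁻¹ * q * ((e : G) * a * (e : G)⁻¹)⁻¹ =
            e * (a * ((e : G)⁻¹ * q * e) * a⁻¹) * (e : G)⁻¹ := by group
        have e2 : (e : G)⁻¹ * q * e = q1 := by
          rw [h1]; simp
        rw [e1, e2, h3]
        group
      · rw [h6, h4, h2, Matrix.mulVec_mulVec, Matrix.mulVec_mulVec, Matrix.SpecialLinearGroup.coe_mul,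
          Matrix.SpecialLinearGroup.coe_mul, map_inv]
    · rintro ⟨a, ha, ha'⟩
      exact hX a ha ha'
    · exact (q_mem (three_zero ex.hF)).1
  have : g ∈ J := ⟨d, hd, hg⟩
  rw [hJ, Subgroup.mem_bot] at this
  exact this

theorem fix_P (c : Crd F E (Qf E) (Wf E) ρ ψ) (hX : ∀ d ∈ D0 G, ¬ Ind E ψ d (-1)) {d : G} (hd : d ∈ D0 G)
    (hn : ∀ q ∈ Qf E, ∃ q' ∈ Qf E, ∃ v ∈ Vn G, d * q * d⁻¹ = q' * v) : ∀ q ∈ Qf E, d * q * d⁻¹ * q⁻¹ ∈ Vn G := by
  obtain ⟨g, hg⟩ := ex.exists_ind c (mem_D0.1 hd).1 hn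
  have h1 := ex.J_bot c hX hd hg
  subst h1
  intro q hq
  obtain ⟨q', v, hv, h2, h3⟩ := hg ⟨q, hq⟩
  rw [Matrix.SpecialLinearGroup.coe_one, Matrix.one_mulVec] at h3
  obtain ⟨w, hw, h4⟩ := (c.eq_iff q' ⟨q, hq⟩).1 (Multiplicative.toAdd.injective h3)
  have h5 : d * q * d⁻¹ = q * w * v := by rw [← h4]; exact h2
  have hwv : w * v ∈ Vn G := mul_mem (ex.WVn hw) hv
  have h6 : q * w * v = w * v * q := by rw [mul_assoc]; exact Vn_cen hwv (ex.QN hq)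
  rw [h5, h6, mul_inv_cancel_right]
  exact hwv

end Ex

end H51.Bau
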