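import Cfsg.Agent.Lib.H51.BauExE
import Cfsg.Agent.Lib.H51.SylowAmb

/-!
The exceptional blocks (`p = 3`): no element inverts `Q V / V` and centralizes `V`.
-/

set_option autoImplicit false
set_option linter.unusedSectionVars false
set_option linter.unusedVariables false

namespace H51.Bau

open Subgroup Cfsg H51.FF H51.OG H52.PRes H52.PCore H53.PU
open scoped commutatorElement MatrixGroups

attribute [local instance] three_prime

section gen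

variable {G : Type*} [Group G]

theorem comm_zpow_le {A B : Subgroup G} {b : G} (hB : b ∈ normalizer (B : Set G))
    (h : ∀ a ∈ A, b * a * b⁻¹ * a⁻¹ ∈ B) (hA : b ∈ normalizer (A : Set G)) : ⁅A, zpowers b⁆ ≤ B := by
  let X : Subgroup G :=
    { carrier := {x | x ∈ normalizer (B : Set G) ∧ x ∈ normalizer (A : Set G) ∧ ∀ a ∈ A, x * a * x⁻¹ * a⁻¹ ∈ B}
      one_mem' := ⟨one_mem _, one_mem _, fun a _ => by
        have : 1 * a * 1⁻¹ * a⁻¹ = 1 := by group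
        rw [this]; exact one_mem _⟩
      mul_mem' := by
        rintro x y ⟨hx, hx1, hx'⟩ ⟨hy, hy1, hy'⟩
        refine ⟨mul_mem hx hy, mul_mem hx1 hy1, fun a ha => ?_⟩
        have e : x * y * a * (x * y)⁻¹ * a⁻¹ = (x * (y * a * y⁻¹ * a⁻¹) * x⁻¹) * (x * a * x⁻¹ * a⁻¹) := by group
        rw [e]
        exact mul_mem ((mem_normalizer_iff.1 hx _).1 (hy' a ha)) (hx' a ha)
      inv_mem' := by
        rintro x ⟨hx, hx1, hx'⟩
        refine ⟨inv_mem hx, inv_mem hx1, fun a ha => ?_⟩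
        have e : x⁻¹ * a * x⁻¹⁻¹ * a⁻¹ = x⁻¹ * (x * a * x⁻¹ * a⁻¹)⁻¹ * x⁻¹⁻¹ := by group
        rw [e]
        exact (mem_normalizer_iff.1 (inv_mem hx) _).1 (inv_mem (hx' a ha)) }
  have hX : zpowers b ≤ X := by
    rw [zpowers_le]
    exact ⟨hB, hA, h⟩
  rw [Subgroup.commutator_comm, Subgroup.commutator_le]
  intro x hx a ha
  rw [commutatorElement_def]
  exact (hX hx).2.2 a ha

theorem cube_inv {w : G} (h : w ^ 3 = 1) : w = (w * w)⁻¹ := by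
  rw [eq_inv_iff_mul_eq_one, ← h, pow_succ, pow_succ, pow_one, mul_assoc]

theorem dd_mul {X : Type*} [Group X] {P : Subgroup X} (hP : ∀ a ∈ P, ∀ b ∈ P, a * b = b * a) {b : X}
    (hb : ∀ a ∈ P, b * a * b⁻¹ ∈ P) {y y' : X} (hy : y ∈ P) (hy' : y' ∈ P) :
    b * (y * y') * b⁻¹ * (y * y')⁻¹ = (b * y * b⁻¹ * y⁻¹) * (b * y' * b⁻¹ * y'⁻¹) := by
  have h1 := hb y hy
  have h2 := hb y' hy'
  have h3 := hP y⁻¹ (inv_mem hy) (b * y' * b⁻¹ * y'⁻¹) (mul_mem h2 (inv_mem hy'))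
  calc b * (y * y') * b⁻¹ * (y * y')⁻¹ = (b * y * b⁻¹) * ((b * y' * b⁻¹ * y'⁻¹) * y⁻¹) := by group
    _ = (b * y * b⁻¹ * y⁻¹) * (b * y' * b⁻¹ * y'⁻¹) := by rw [← h3]; group

end gen

variable {G : Type*} [Group G] [Finite G]
variable {T : Sylow 3 G} {E : Subgroup G} {F : Type} [Field F] [Fintype F]

/-- the normalizer of a 3-group containing `B(T)` normalizes `J(T)` -/
theorem nz_thompson (T : Sylow 3 G) {T₂ : Subgroup G} (hT₂ : IsPGroup 3 T₂)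
    (hB : baumannSubgroupOf 3 (T : Subgroup G) ≤ T₂) :
    normalizer (T₂ : Set G) ≤ normalizer (thompsonSubgroupOf 3 (T : Subgroup G) : Set G) := by
  intro x hx
  obtain ⟨S, hS⟩ := hT₂.exists_le_sylow
  have hJ : thompsonSubgroupOf 3 (T : Subgroup G) ≤ T₂ := (thompson_le_bau _).trans hB
  have h1 := thompson_eq (S := S) (T := T) (hJ.trans hS)
  have h2 : ((x • S : Sylow 3 G) : Subgroup G) = cg x (S : Subgroup G) := rfl
  have h3 : T₂ ≤ ((x • S : Sylow 3 G) : Subgroup G) := by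
    rw [h2, ← mem_nz_iff.1 hx]
    exact cg_mono hS
  have h4 := thompson_eq (S := x • S) (T := T) (hJ.trans h3)
  rw [mem_nz_iff]
  conv_lhs => rw [← h1]
  rw [thompson_cg, ← h2, h4]

/-- the quadratic action of `J(T)` -/
def Quad (T : Sylow 3 G) (E : Subgroup G) : Prop :=
  ∀ b ∈ thompsonSubgroupOf 3 (T : Subgroup G),
    (∀ w ∈ Wf E, b * (b * w * b⁻¹ * w⁻¹) * b⁻¹ * (b * w * b⁻¹ * w⁻¹)⁻¹ ∈ Zf E) ∧
    (∀ q ∈ Qf E, b * (b * q * b⁻¹ * q⁻¹) * b⁻¹ * (b * q * b⁻¹ * q⁻¹)⁻¹ ∈ Wf E)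

namespace Ex

variable (ex : Ex T E F)

include ex

theorem bE : baumannSubgroupOf 3 (T : Subgroup G) ≤ normalizer (E : Set G) := le_nz_of_comm ex.hE.2.1

theorem P_comm {x y : G} (hx : x ∈ Qf E ⊔ Vn G) (hy : y ∈ Qf E ⊔ Vn G) : x * y * x⁻¹ * y⁻¹ ∈ Zf E := by
  have hVn : (Vn G).Normal := inferInstance
  obtain ⟨q, hq, v, hv, rfl⟩ := Subgroup.mem_sup_of_normal_right.1 hx
  obtain ⟨q', hq', v', hv', rfl⟩ := Subgroup.mem_sup_of_normal_right.1 hy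
  have hrv : ∀ {u y : G}, y ∈ Qf E → u ∈ Vn G → u * y = y * u := fun hy hu => (Vn_cen hu (ex.QN hy)).symm
  rw [← hrv hq hv, ← hrv hq' hv', comm_cen (hrv hq hv) (hrv hq' hv) (Vn_abel hv hv') (hrv hq hv') (hrv hq' hv')]
  rw [← ex.qq]
  have := Subgroup.commutator_mem_commutator hq hq'
  rwa [commutatorElement_def] at this

theorem P_cen {x z : G} (hx : x ∈ Qf E ⊔ Vn G) (hz : z ∈ Vn G) : x * z = z * x := by
  have hVn : (Vn G).Normal := inferInstance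
  have h : x ∈ pCore 3 G := (sup_le ex.QN Vn_le) hx
  exact Vn_cen hz h

/-- the main computation -/
theorem quad_fix (quad : Quad T E) {z : G} (hz : Zet E z) {g b : G} (hgV : ∀ v ∈ Vn G, g * v = v * g)
    (hgP : ∀ q ∈ Qf E, q * (g * q * g⁻¹) ∈ Vn G) (hb : b ∈ thompsonSubgroupOf 3 (T : Subgroup G)) (hbg : b * g = g * b)
    {x : G} (hx : x ∈ Qf E) : b * (b * x * b⁻¹ * x⁻¹) * b⁻¹ * (b * x * b⁻¹ * x⁻¹)⁻¹ ∈ Zf E := by
  have hVn : (Vn G).Normal := inferInstance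
  set P := Qf E ⊔ Vn G with hP
  have hbE : b ∈ normalizer (E : Set G) := ex.bE (thompson_le_bau _ hb)
  have hbQ : b ∈ normalizer (Qf E : Set G) := nzEQ hbE
  have hbZ : b ∈ normalizer (Zf E : Set G) := nzEZ hbE
  have hbV : b ∈ normalizer (Vn G : Set G) := by rw [Subgroup.normalizer_eq_top]; exact Subgroup.mem_top b
  have hbP : ∀ a ∈ P, b * a * b⁻¹ ∈ P := by
    intro a ha
    obtain ⟨q, hq, v, hv, rfl⟩ := Subgroup.mem_sup_of_normal_right.1 ha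
    have e : b * (q * v) * b⁻¹ = (b * q * b⁻¹) * (b * v * b⁻¹) := by group
    rw [e]
    exact mul_mem (Subgroup.mem_sup_left ((mem_normalizer_iff.1 hbQ q).1 hq)) (Subgroup.mem_sup_right (hVn.conj_mem v hv b))
  have hZV : Zf E ≤ Vn G := fun y hy => ex.Zcenter hy
  -- the group `N(Z) / Z`
  set M := normalizer (Zf E : Set G) with hM
  have hZM : Zf E ≤ M := Subgroup.le_normalizer
  have hPM : P ≤ M := by
    intro y hy
    rw [hM, mem_normalizer_iff]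
    intro u
    constructor
    · intro hu
      rw [ex.P_cen hy (hZV hu), mul_inv_cancel_right]; exact hu
    · intro hu
      have h1 := ex.P_cen (inv_mem hy) (hZV hu)
      have e : u = y⁻¹ * (y * u * y⁻¹) * y := by group
      rw [e, h1, inv_mul_cancel_right]; exact hu
  have hZn : ((Zf E).subgroupOf M).Normal := (normal_subOf_iff hZM).2 le_rfl
  set π := QuotientGroup.mk' ((Zf E).subgroupOf M) with hπ
  set P' : Subgroup (↥M ⧸ (Zf E).subgroupOf M) := (P.subgroupOf M).map π with hP'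
  have hmem : ∀ y : ↥M, π y = 1 ↔ (y : G) ∈ Zf E := by
    intro y
    exact QuotientGroup.eq_one_iff y
  have hab : ∀ a ∈ P', ∀ b ∈ P', a * b = b * a := by
    rintro _ ⟨y, hy, rfl⟩ _ ⟨y', hy', rfl⟩
    have h1 : π (y * y' * y⁻¹ * y'⁻¹) = 1 := by
      rw [hmem]
      exact ex.P_comm hy hy'
    rw [map_mul, map_mul, map_mul, map_inv, map_inv, mul_inv_eq_one, mul_inv_eq_iff_eq_mul] at h1
    exact h1
  set b' : ↥M := ⟨b, hbZ⟩ with hb'
  have hbP' : ∀ a ∈ P', π b' * a * (π b')⁻¹ ∈ P' := by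
    rintro _ ⟨y, hy, rfl⟩
    exact ⟨b' * y * b'⁻¹, hbP y hy, by rw [map_mul, map_mul, map_inv]⟩
  -- `δ`
  let δ : G → G := fun y => b * y * b⁻¹ * y⁻¹
  have hδP : ∀ y ∈ P, δ y ∈ P := fun y hy => mul_mem (hbP y hy) (inv_mem hy)
  have hδ : ∀ y ∈ P, ∀ y' ∈ P, δ y * δ y' * (δ (y * y'))⁻¹ ∈ Zf E := by
    intro y hy y' hy'
    have h1 := dd_mul hab hbP' (y := π ⟨y, hPM hy⟩) (y' := π ⟨y', hPM hy'⟩) ⟨_, hy, rfl⟩ ⟨_, hy', rfl⟩
    have h2 : π (⟨δ y * δ y' * (δ (y * y'))⁻¹, mul_mem (mul_mem (hPM (hδP y hy)) (hPM (hδP y' hy')))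
        (inv_mem (hPM (hδP _ (mul_mem hy hy'))))⟩) = 1 := by
      have e : (⟨δ y * δ y' * (δ (y * y'))⁻¹, mul_mem (mul_mem (hPM (hδP y hy)) (hPM (hδP y' hy')))
        (inv_mem (hPM (hδP _ (mul_mem hy hy'))))⟩ : ↥M) =
        (b' * ⟨y, hPM hy⟩ * b'⁻¹ * (⟨y, hPM hy⟩)⁻¹) * (b' * ⟨y', hPM hy'⟩ * b'⁻¹ * (⟨y', hPM hy'⟩)⁻¹) *
        (b' * (⟨y, hPM hy⟩ * ⟨y', hPM hy'⟩) * b'⁻¹ * (⟨y, hPM hy⟩ * ⟨y', hPM hy'⟩)⁻¹)⁻¹ := rfl
      rw [e]
      simp only [map_mul, map_inv]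
      rw [← h1, mul_inv_cancel]
    exact (hmem _).1 h2
  have hδZ : ∀ y ∈ Zf E, δ y ∈ Zf E := fun y hy => mul_mem ((mem_normalizer_iff.1 hbZ y).1 hy) (inv_mem hy)
  -- `δ (y u) ≡ δ y` for `u ∈ Z`; `δ δ` is additive
  have hZc : ∀ {u y : G}, u ∈ Zf E → y ∈ P → y * u = u * y := fun hu hy => ex.P_cen hy (hZV hu)
  -- congruences modulo `Z`
  have hcong : ∀ y ∈ P, ∀ u ∈ Zf E, (δ y)⁻¹ * δ (y * u) ∈ Zf E := by
    intro y hy u hu
    have h1 := hδ y hy u (Subgroup.mem_sup_right (hZV hu))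
    have h2 := hδZ u hu
    -- `δ y * δ u * (δ (y u))⁻¹ = z` so `δ (y u) = z⁻¹ δ y δ u`
    set z₁ := δ y * δ u * (δ (y * u))⁻¹ with hz₁
    have e1 : δ (y * u) = z₁⁻¹ * (δ y * δ u) := by rw [hz₁]; group
    rw [e1, ← hZc (inv_mem h1) (mul_mem (hδP y hy) (hδP u (Subgroup.mem_sup_right (hZV hu))))]
    have e2 : (δ y)⁻¹ * (δ y * δ u * z₁⁻¹) = δ u * z₁⁻¹ := by group
    rw [e2]
    exact mul_mem h2 (inv_mem h1)
  have hδδ : ∀ y ∈ P, ∀ y' ∈ P, δ (δ y) * δ (δ y') * (δ (δ (y * y')))⁻¹ ∈ Zf E := by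
    intro y hy y' hy'
    have h1 := hδ y hy y' hy'
    set z₁ := δ y * δ y' * (δ (y * y'))⁻¹ with hz₁
    have h2 := hδ (δ y) (hδP y hy) (δ y') (hδP y' hy')
    have h3 := hcong (δ (y * y')) (hδP _ (mul_mem hy hy')) z₁ h1
    have e1 : δ (y * y') * z₁ = δ y * δ y' := by
      rw [hZc h1 (hδP _ (mul_mem hy hy')), hz₁]; group
    rw [e1] at h3
    have h4 := mul_mem h2 h3
    -- `h4 : δδy δδy' (δ(δy δy'))⁻¹ (δδ(yy'))⁻¹ δ(δy δy') ∈ Z`
    set A := δ (δ y) * δ (δ y')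
    set B := δ (δ y * δ y')
    set C := δ (δ (y * y'))
    -- `h2 : A B⁻¹ ∈ Z`, `h3 : C⁻¹ B ∈ Z`
    have hBP : B ∈ P := hδP _ (mul_mem (hδP y hy) (hδP y' hy'))
    have hCP : C ∈ P := hδP _ (hδP _ (mul_mem hy hy'))
    have e2 : A * C⁻¹ = (A * B⁻¹) * (C * (C⁻¹ * B) * C⁻¹) := by group
    rw [e2, hZc h3 hCP, mul_inv_cancel_right]
    exact mul_mem h2 h3
  -- the computation
  have hxP : x ∈ P := Subgroup.mem_sup_left hx
  set w := δ (δ x) with hw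
  have hwW : w ∈ Wf E := (quad b hb).2 x hx
  have hwV : w ∈ Vn G := ex.WVn hwW
  set v := x * (g * x * g⁻¹) with hv
  have hvV : v ∈ Vn G := hgP x hx
  have hvP : v ∈ P := Subgroup.mem_sup_right hvV
  -- `g w g⁻¹ = δ δ (g x g⁻¹)`
  have hgb : g * b * g⁻¹ = b := by rw [← hbg]; group
  have hgδ : ∀ y, g * δ y * g⁻¹ = δ (g * y * g⁻¹) := by
    intro y
    show g * (b * y * b⁻¹ * y⁻¹) * g⁻¹ = b * (g * y * g⁻¹) * b⁻¹ * (g * y * g⁻¹)⁻¹
    calc g * (b * y * b⁻¹ * y⁻¹) * g⁻¹ = (g * b * g⁻¹) * (g * y * g⁻¹) * (g * b * g⁻¹)⁻¹ * (g * y * g⁻¹)⁻¹ := by group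
      _ = b * (g * y * g⁻¹) * b⁻¹ * (g * y * g⁻¹)⁻¹ := by rw [hgb]
  have h1 : δ (δ (g * x * g⁻¹)) = w := by
    rw [← hgδ, ← hgδ, hgV w hwV]; group
  have hgx : g * x * g⁻¹ = x⁻¹ * v := by rw [hv]; group
  have h2 := hδδ x hxP (g * x * g⁻¹) (by rw [hgx]; exact mul_mem (inv_mem hxP) hvP)
  rw [h1, ← hv] at h2
  -- `h2 : w * w * (δ δ v)⁻¹ ∈ Z`
  obtain ⟨a, ha, c, hc, hcE, hvac⟩ := ex.Vdec hz hvV
  have haW : a ∈ Wf E := ex.WE_W ha
  have haP : a ∈ P := Subgroup.mem_sup_right (ex.WVn haW)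
  have hcP : c ∈ P := Subgroup.mem_sup_right hc
  have h3 := hδδ a haP c hcP
  rw [← hvac] at h3
  have h4 : δ (δ a) ∈ Zf E := (quad b hb).1 a haW
  -- `δ δ c` commutes with `E`
  have hEc : ∀ y, (∀ e ∈ E, e * y = y * e) → ∀ e ∈ E, e * δ y = δ y * e := by
    intro y hy e he
    have he' : b⁻¹ * e * b ∈ E := by
      have := (mem_normalizer_iff.1 (inv_mem hbE) e).1 he
      rwa [inv_inv] at this
    have h5 : e * (b * y * b⁻¹) = (b * y * b⁻¹) * e := by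
      have h6 := hy _ he'
      calc e * (b * y * b⁻¹) = b * ((b⁻¹ * e * b) * y) * b⁻¹ := by group
        _ = (b * y * b⁻¹) * e := by rw [h6]; group
    have h7 := hy e he
    show e * (b * y * b⁻¹ * y⁻¹) = b * y * b⁻¹ * y⁻¹ * e
    calc e * (b * y * b⁻¹ * y⁻¹) = (e * (b * y * b⁻¹)) * y⁻¹ := by group
      _ = b * y * b⁻¹ * (e * y⁻¹) := by rw [h5]; group
      _ = b * y * b⁻¹ * y⁻¹ * e := by
        have : e * y⁻¹ = y⁻¹ * e := by
          rw [eq_inv_mul_iff_mul_eq, ← mul_assoc, ← h7]; group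
        rw [this]; group
  have h5 := hEc _ (hEc c hcE)
  -- conclude
  have hZmem : ∀ y ∈ Wf E, (∀ e ∈ E, e * y = y * e) → y ∈ Zf E := by
    intro y hy hye
    refine Subgroup.mem_inf.2 ⟨hy, ?_⟩
    rw [mem_centralizer_iff]
    exact hye
  have hww : w * w ∈ Zf E := by
    apply hZmem _ (mul_mem hwW hwW)
    -- `w w = z₂ δδv`, `δδa δδc = z₃ δδv`
    set z₂ := w * w * (δ (δ v))⁻¹ with hz₂
    set z₃ := δ (δ a) * δ (δ c) * (δ (δ v))⁻¹ with hz₃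
    have e1 : w * w = z₂ * (z₃⁻¹ * (δ (δ a) * δ (δ c))) := by rw [hz₂, hz₃]; group
    intro e he
    have k1 := Zcen h2 he
    have k2 := Zcen (inv_mem h3) he
    have k3 := Zcen h4 he
    have k4 := h5 e he
    rw [e1]
    calc e * (z₂ * (z₃⁻¹ * (δ (δ a) * δ (δ c)))) = (e * z₂) * (z₃⁻¹ * (δ (δ a) * δ (δ c))) := by group
      _ = z₂ * (e * z₃⁻¹) * (δ (δ a) * δ (δ c)) := by rw [k1]; group
      _ = z₂ * z₃⁻¹ * (e * δ (δ a)) * δ (δ c) := by rw [k2]; group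
      _ = z₂ * z₃⁻¹ * δ (δ a) * (e * δ (δ c)) := by rw [k3]; group
      _ = z₂ * (z₃⁻¹ * (δ (δ a) * δ (δ c))) * e := by rw [k4]; group
  have hw3 := W3 hwW
  show w ∈ Zf E
  rw [cube_inv hw3]
  exact inv_mem hww

/-- LEMMA X -/
theorem lemX (quad : Quad T E) {ρ : ↥E →* SL(2, F)} {ψ : ↥(Qf E) →* Multiplicative (Fin 2 → F)}
    (c : Crd F E (Qf E) (Wf E) ρ ψ) {z : G} (hz : Zet E z) {g : G} (hg : g ∈ D0 G) : ¬ Ind E ψ g (-1) := by
  intro hind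
  have hVn : (Vn G).Normal := inferInstance
  have hDn : (D0 G).Normal := inferInstance
  set P := Qf E ⊔ Vn G with hP
  have hgV : ∀ v ∈ Vn G, g * v = v * g := (mem_D0.1 hg).1
  -- `x (g x g⁻¹) ∈ V` for `x ∈ Q`
  have hgQ : ∀ q ∈ Qf E, q * (g * q * g⁻¹) ∈ Vn G := by
    intro q hq
    obtain ⟨q', v, hv, h1, h2⟩ := hind ⟨q, hq⟩
    rw [Matrix.SpecialLinearGroup.coe_neg, Matrix.SpecialLinearGroup.coe_one, Matrix.neg_mulVec, Matrix.one_mulVec] at h2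
    have h3 : ψ q' = ψ (⟨q, hq⟩⁻¹) := by
      apply Multiplicative.toAdd.injective
      rw [h2, map_inv]; rfl
    obtain ⟨w, hw, h4⟩ := (c.eq_iff _ _).1 h3
    have h5 : g * q * g⁻¹ = q⁻¹ * w * v := by
      have : (q' : G) = q⁻¹ * w := h4
      rw [← this]; exact h1
    rw [h5]
    have e : q * (q⁻¹ * w * v) = w * v := by group
    rw [e]
    exact mul_mem (ex.WVn hw) hv
  have hgP : ∀ y ∈ P, y * (g * y * g⁻¹) ∈ Vn G := by
    intro y hy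
    obtain ⟨q, hq, v, hv, rfl⟩ := Subgroup.mem_sup_of_normal_right.1 hy
    have h1 := hgQ q hq
    have h2 : g * v * g⁻¹ = v := by rw [hgV v hv]; group
    have h3 : g * q * g⁻¹ ∈ P := by
      have : g * q * g⁻¹ = q⁻¹ * (q * (g * q * g⁻¹)) := by group
      rw [this]
      exact mul_mem (Subgroup.mem_sup_left (inv_mem hq)) (Subgroup.mem_sup_right h1)
    have e : q * v * (g * (q * v) * g⁻¹) = q * (v * (g * q * g⁻¹)) * (g * v * g⁻¹) := by group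
    rw [e, h2, ← ex.P_cen h3 hv]
    have e2 : q * (g * q * g⁻¹ * v) * v = (q * (g * q * g⁻¹)) * v * v := by group
    rw [e2]
    exact mul_mem (mul_mem h1 hv) hv
  -- `Γ₀`
  set Γ : Subgroup G := centralizer (Vn G : Set G) ⊓
    (centralizer (((P.map (QuotientGroup.mk' (Vn G)) : Subgroup (G ⧸ Vn G))) : Set (G ⧸ Vn G))).comap (QuotientGroup.mk' (Vn G)) with hΓ
  have hΓmem : ∀ x, x ∈ Γ ↔ (∀ v ∈ Vn G, x * v = v * x) ∧ ∀ y ∈ P, x * y * x⁻¹ * y⁻¹ ∈ Vn G := by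
    intro x
    rw [hΓ, Subgroup.mem_inf]
    constructor
    · rintro ⟨h1, h2⟩
      refine ⟨fun v hv => (mem_centralizer_iff.1 h1 v hv).symm, fun y hy => ?_⟩
      have h3 := mem_centralizer_iff.1 (show (x : G ⧸ Vn G) ∈ _ from h2) (y : G ⧸ Vn G) ⟨y, hy, rfl⟩
      rw [← QuotientGroup.eq_one_iff]
      have h4 : ((x * y * x⁻¹ * y⁻¹ : G) : G ⧸ Vn G) = (x : G ⧸ Vn G) * y * (x : G ⧸ Vn G)⁻¹ * (y : G ⧸ Vn G)⁻¹ := rfl
      rw [h4, ← h3]
      group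
    · rintro ⟨h1, h2⟩
      refine ⟨mem_centralizer_iff.2 fun v hv => (h1 v hv).symm, ?_⟩
      show (x : G ⧸ Vn G) ∈ centralizer _
      rw [mem_centralizer_iff]
      rintro _ ⟨y, hy, rfl⟩
      have h4 := (QuotientGroup.eq_one_iff _).2 (h2 y hy)
      have h5 : (x : G ⧸ Vn G) * y * (x : G ⧸ Vn G)⁻¹ * (y : G ⧸ Vn G)⁻¹ = 1 := h4
      show (y : G ⧸ Vn G) * x = x * y
      rw [mul_inv_eq_one, mul_inv_eq_iff_eq_mul] at h5
      exact h5.symm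
  -- `N(P) ≤ N(Γ₀)`
  have hPΓ : normalizer (P : Set G) ≤ normalizer (Γ : Set G) := by
    have hsub : ∀ n ∈ normalizer (P : Set G), ∀ x ∈ Γ, n * x * n⁻¹ ∈ Γ := by
      intro n hn x hx
      obtain ⟨h1, h2⟩ := (hΓmem x).1 hx
      refine (hΓmem _).2 ⟨fun v hv => ?_, fun y hy => ?_⟩
      · have hv' : n⁻¹ * v * n ∈ Vn G := by
          have := hVn.conj_mem v hv n⁻¹
          rwa [inv_inv] at this
        have h3 := h1 _ hv'
        calc n * x * n⁻¹ * v = n * (x * (n⁻¹ * v * n)) * n⁻¹ := by group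
          _ = v * (n * x * n⁻¹) := by rw [h3]; group
      · have hy' : n⁻¹ * y * n ∈ P := by
          have := (mem_normalizer_iff.1 (inv_mem hn) y).1 hy
          rwa [inv_inv] at this
        have h3 := hVn.conj_mem _ (h2 _ hy') n
        have e : n * x * n⁻¹ * y * (n * x * n⁻¹)⁻¹ * y⁻¹ = n * (x * (n⁻¹ * y * n) * x⁻¹ * (n⁻¹ * y * n)⁻¹) * n⁻¹ := by group
        rw [e]; exact h3
    intro n hn
    rw [mem_normalizer_iff]
    intro x
    refine ⟨hsub n hn x, fun h => ?_⟩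
    have := hsub n⁻¹ (inv_mem hn) _ h
    have e : n⁻¹ * (n * x * n⁻¹) * n⁻¹⁻¹ = x := by group
    rwa [e] at this
  have hgPn : g ∈ normalizer (P : Set G) := by
    rw [← H52.PCore.map_conj_eq_iff]
    apply Subgroup.eq_of_le_of_card_ge
    · rintro _ ⟨y, hy, rfl⟩
      have h1 := hgP y hy
      have e : g * y * g⁻¹ = y⁻¹ * (y * (g * y * g⁻¹)) := by group
      show g * y * g⁻¹ ∈ P
      rw [e]
      exact mul_mem (inv_mem hy) (Subgroup.mem_sup_right h1)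
    · rw [Subgroup.card_map_of_injective (MulAut.conj g).injective]
  have hBP : baumannSubgroupOf 3 (T : Subgroup G) ≤ normalizer (P : Set G) := by
    intro b hb
    have hbE : b ∈ normalizer (E : Set G) := ex.bE hb
    rw [mem_nz_iff, hP]
    show cg b (Qf E ⊔ Vn G) = _
    have h1 : cg b (Qf E) = Qf E := mem_nz_iff.1 (nzEQ hbE)
    have h2 : cg b (Vn G) = Vn G := cg_normal hVn
    show (Qf E ⊔ Vn G).map _ = _
    rw [Subgroup.map_sup]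
    show cg b (Qf E) ⊔ cg b (Vn G) = _
    rw [h1, h2]
  set B := baumannSubgroupOf 3 (T : Subgroup G) with hB
  -- `[g, b] ∈ Γ₀`
  have hgb : ∀ b ∈ B, g * b * g⁻¹ * b⁻¹ ∈ Γ := by
    intro b hb
    have hbn := hBP hb
    refine (hΓmem _).2 ⟨fun v hv => ?_, fun y hy => ?_⟩
    · have h1 : g * b * g⁻¹ * b⁻¹ ∈ D0 G := by
        have e : g * b * g⁻¹ * b⁻¹ = g * (b * g⁻¹ * b⁻¹) := by group
        rw [e]
        exact mul_mem hg (hDn.conj_mem _ (inv_mem hg) b)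
      exact (mem_D0.1 h1).1 v hv
    · -- in the quotient by `V`
      have hbar : ∀ y ∈ P, (g : G ⧸ Vn G) * y * (g : G ⧸ Vn G)⁻¹ = (y : G ⧸ Vn G)⁻¹ := by
        intro y hy
        have h1 := (QuotientGroup.eq_one_iff _).2 (hgP y hy)
        have h2 : (y : G ⧸ Vn G) * ((g : G ⧸ Vn G) * y * (g : G ⧸ Vn G)⁻¹) = 1 := h1
        exact (inv_eq_of_mul_eq_one_right h2).symm
      have hbar' : ∀ y ∈ P, (g : G ⧸ Vn G)⁻¹ * y * (g : G ⧸ Vn G) = (y : G ⧸ Vn G)⁻¹ := by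
        intro y hy
        have h1 := hbar _ (inv_mem hy)
        have h2 : ((y⁻¹ : G) : G ⧸ Vn G) = (y : G ⧸ Vn G)⁻¹ := rfl
        rw [h2, inv_inv] at h1
        calc (g : G ⧸ Vn G)⁻¹ * y * (g : G ⧸ Vn G) = (g : G ⧸ Vn G)⁻¹ * ((g : G ⧸ Vn G) * (y : G ⧸ Vn G)⁻¹ * (g : G ⧸ Vn G)⁻¹) * g := by
              rw [h1]
          _ = (y : G ⧸ Vn G)⁻¹ := by group
      have hy1 : b⁻¹ * y * b ∈ P := by
        have := (mem_normalizer_iff.1 (inv_mem hbn) y).1 hy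
        rwa [inv_inv] at this
      rw [← QuotientGroup.eq_one_iff]
      have e : ((g * b * g⁻¹ * b⁻¹ * y * (g * b * g⁻¹ * b⁻¹)⁻¹ * y⁻¹ : G) : G ⧸ Vn G) =
          (g : G ⧸ Vn G) * (b * ((g : G ⧸ Vn G)⁻¹ * ((b⁻¹ * y * b : G) : G ⧸ Vn G) * g) * (b : G ⧸ Vn G)⁻¹) * (g : G ⧸ Vn G)⁻¹ *
            (y : G ⧸ Vn G)⁻¹ := by
        have e0 : ((b⁻¹ * y * b : G) : G ⧸ Vn G) = (b : G ⧸ Vn G)⁻¹ * y * b := rfl
        have e1 : ((g * b * g⁻¹ * b⁻¹ * y * (g * b * g⁻¹ * b⁻¹)⁻¹ * y⁻¹ : G) : G ⧸ Vn G) =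
          (g : G ⧸ Vn G) * b * (g : G ⧸ Vn G)⁻¹ * (b : G ⧸ Vn G)⁻¹ * y *
            ((g : G ⧸ Vn G) * b * (g : G ⧸ Vn G)⁻¹ * (b : G ⧸ Vn G)⁻¹)⁻¹ * (y : G ⧸ Vn G)⁻¹ := rfl
        rw [e0, e1]
        group
      rw [e, hbar' _ hy1]
      have e2 : (b : G ⧸ Vn G) * ((b⁻¹ * y * b : G) : G ⧸ Vn G)⁻¹ * (b : G ⧸ Vn G)⁻¹ = ((y⁻¹ : G) : G ⧸ Vn G) := by
        have e0 : ((b⁻¹ * y * b : G) : G ⧸ Vn G) = (b : G ⧸ Vn G)⁻¹ * y * b := rfl
        have e3 : ((y⁻¹ : G) : G ⧸ Vn G) = (y : G ⧸ Vn G)⁻¹ := rfl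
        rw [e0, e3]; group
      rw [e2, hbar _ (inv_mem hy)]
      have e3 : ((y⁻¹ : G) : G ⧸ Vn G) = (y : G ⧸ Vn G)⁻¹ := rfl
      rw [e3]; group
  -- Frattini
  set K := Γ ⊔ B with hK
  have hBp : IsPGroup 3 B := T.2.to_le (bau_le _)
  have hgΓ : g ∈ normalizer (Γ : Set G) := hPΓ hgPn
  have hBΓ : B ≤ normalizer (Γ : Set G) := hBP.trans hPΓ
  have hgK : g ∈ normalizer (K : Set G) := by
    rw [← H52.PCore.map_conj_eq_iff]
    apply Subgroup.eq_of_le_of_card_ge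
    · rw [hK, Subgroup.map_sup]
      apply sup_le
      · rintro _ ⟨y, hy, rfl⟩
        exact Subgroup.mem_sup_left ((mem_normalizer_iff.1 hgΓ y).1 hy)
      · rintro _ ⟨b, hb, rfl⟩
        have e : g * b * g⁻¹ = (g * b * g⁻¹ * b⁻¹) * b := by group
        show g * b * g⁻¹ ∈ _
        rw [e]
        exact mul_mem (Subgroup.mem_sup_left (hgb b hb)) (Subgroup.mem_sup_right hb)
    · rw [Subgroup.card_map_of_injective (MulAut.conj g).injective]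
  obtain ⟨T₂, hBT, hTK, hTp, hTi⟩ := H51.SylowAmb.exists_sylow_ge (p := 3) (K := K) (le_sup_right : B ≤ K) hBp
  obtain ⟨m, hm, hmg⟩ := H51.SylowAmb.frattini hTK hTp hTi hgK
  obtain ⟨γ, hγ, b₁, hb₁, rfl⟩ := (H13.Norm.mem_sup_of_le_normalizer' hBΓ).1 hm
  -- `g² ∈ Γ`
  have hg2 : g * g ∈ Γ := by
    refine (hΓmem _).2 ⟨fun v hv => ?_, fun y hy => ?_⟩
    · rw [mul_assoc, hgV v hv, ← mul_assoc, hgV v hv, mul_assoc]
    · have h1 := hgP y hy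
      have hy1 : g * y * g⁻¹ ∈ P := by
        have e : g * y * g⁻¹ = y⁻¹ * (y * (g * y * g⁻¹)) := by group
        rw [e]
        exact mul_mem (inv_mem hy) (Subgroup.mem_sup_right h1)
      have h2 := hgP _ hy1
      -- `y y₁ ∈ V`, `y₁ y₂ ∈ V`
      have e : g * g * y * (g * g)⁻¹ * y⁻¹ =
          (g * y * g⁻¹)⁻¹ * ((g * y * g⁻¹ * (g * (g * y * g⁻¹) * g⁻¹)) * (y * (g * y * g⁻¹))⁻¹) * (g * y * g⁻¹) *
            ((g * y * g⁻¹)⁻¹ * y * (g * y * g⁻¹) * y⁻¹) := by group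
      have h3 := ex.P_comm (inv_mem hy1) hy
      rw [inv_inv] at h3
      rw [e]
      refine mul_mem ?_ (ex.Zcenter h3)
      have := hVn.conj_mem _ (mul_mem h2 (inv_mem h1)) (g * y * g⁻¹)⁻¹
      rwa [inv_inv] at this
  -- the power
  set g₁ := γ * b₁ * g with hg₁
  obtain ⟨s, t, ht, hst⟩ := Nat.exists_eq_pow_mul_and_not_dvd (orderOf_pos g₁).ne' 2 (by norm_num)
  obtain ⟨l, hl⟩ := hBp ⟨b₁, hb₁⟩
  have hl' : b₁ ^ 3 ^ l = 1 := congrArg Subtype.val hl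
  set k := t * 3 ^ l with hk
  have hkodd : Odd k := by
    rw [hk]
    refine Odd.mul ?_ (Odd.pow (by decide))
    rw [← Nat.not_even_iff_odd, even_iff_two_dvd]
    exact ht
  -- in the quotient
  set N1 := normalizer (Γ : Set G) with hN1
  have hΓN : Γ ≤ N1 := Subgroup.le_normalizer
  have hΓn : (Γ.subgroupOf N1).Normal := (normal_subOf_iff hΓN).2 le_rfl
  set π := QuotientGroup.mk' (Γ.subgroupOf N1) with hπ
  have hπ1 : ∀ y : ↥N1, π y = 1 ↔ (y : G) ∈ Γ := by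
    intro y
    exact QuotientGroup.eq_one_iff y
  set γ' : ↥N1 := ⟨γ, hΓN hγ⟩
  set b' : ↥N1 := ⟨b₁, hBΓ hb₁⟩
  set g' : ↥N1 := ⟨g, hgΓ⟩
  have hcom : Commute (π b') (π g') := by
    have h1 : π (g' * b' * g'⁻¹ * b'⁻¹) = 1 := by
      rw [hπ1]
      exact hgb b₁ hb₁
    rw [map_mul, map_mul, map_mul, map_inv, map_inv, mul_inv_eq_one, mul_inv_eq_iff_eq_mul] at h1
    exact h1.symm
  have hpow : π ((γ' * b' * g') ^ k) = π (g' ^ k) := by
    have h1 : π γ' = 1 := (hπ1 _).2 hγ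
    have h2 : π b' ^ k = 1 := by
      rw [← map_pow]
      have : b' ^ k = 1 := by
        apply Subtype.ext
        show b₁ ^ k = 1
        rw [hk, mul_comm, pow_mul, hl', one_pow]
      rw [this, map_one]
    rw [map_pow, map_mul, map_mul, h1, one_mul, hcom.mul_pow, h2, one_mul, map_pow]
  have hg₂g : g₁ ^ k * (g ^ k)⁻¹ ∈ Γ := by
    have h1 : π ((γ' * b' * g') ^ k * (g' ^ k)⁻¹) = 1 := by
      rw [map_mul, hpow, map_inv, mul_inv_cancel]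
    exact (hπ1 _).1 h1
  obtain ⟨j, hj⟩ := hkodd
  have hg₂ : g₁ ^ k * g⁻¹ ∈ Γ := by
    have h1 : (g * g) ^ j ∈ Γ := pow_mem hg2 j
    have h2 : g ^ k = (g * g) ^ j * g := by rw [hj, pow_succ, ← pow_two, ← pow_mul]
    have e : g₁ ^ k * g⁻¹ = (g₁ ^ k * (g ^ k)⁻¹) * (g * g) ^ j := by rw [h2]; group
    rw [e]
    exact mul_mem hg₂g h1
  set g₂ := g₁ ^ k with hg₂def
  obtain ⟨i, hi⟩ : ∃ i, orderOf g₂ = 2 ^ i := by
    have h1 : orderOf g₂ ∣ 2 ^ s := by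
      apply orderOf_dvd_of_pow_eq_one
      rw [hg₂def, ← pow_mul]
      have h2 : k * 2 ^ s = orderOf g₁ * 3 ^ l := by rw [hst, hk]; ring
      rw [h2, pow_mul, pow_orderOf_eq_one, one_pow]
    obtain ⟨i, -, hi⟩ := (Nat.dvd_prime_pow Nat.prime_two).1 h1
    exact ⟨i, hi⟩
  obtain ⟨hγV, hγP⟩ := (hΓmem _).1 hg₂
  have hg₂V : ∀ v ∈ Vn G, g₂ * v = v * g₂ := by
    intro v hv
    have h1 := hγV v hv
    have h2 := hgV v hv
    calc g₂ * v = (g₂ * g⁻¹) * (g * v) := by group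
      _ = ((g₂ * g⁻¹) * v) * g := by rw [h2]; group
      _ = v * g₂ := by rw [h1]; group
  have hg₂Q : ∀ q ∈ Qf E, q * (g₂ * q * g₂⁻¹) ∈ Vn G := by
    intro q hq
    have h1 := hgQ q hq
    have hy1 : g * q * g⁻¹ ∈ P := (mem_normalizer_iff.1 hgPn q).1 (Subgroup.mem_sup_left hq)
    have h2 := hγP _ hy1
    have e : q * (g₂ * q * g₂⁻¹) = (q * ((g₂ * g⁻¹) * (g * q * g⁻¹) * (g₂ * g⁻¹)⁻¹ * (g * q * g⁻¹)⁻¹) * q⁻¹) * (q * (g * q * g⁻¹)) := by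
      group
    rw [e]
    exact mul_mem (hVn.conj_mem _ h2 q) h1
  set J := thompsonSubgroupOf 3 (T : Subgroup G) with hJ
  have hg₂J : g₂ ∈ normalizer (J : Set G) := pow_mem (nz_thompson T hTp hBT hmg) k
  -- an element of `J(T)` commuting with `g₂`
  obtain ⟨b, hb, hbg, hbW⟩ : ∃ b ∈ J, b * g₂ = g₂ * b ∧ b ∉ centralizer (Wf E : Set G) := by
    by_contra hcon
    push Not at hcon
    have hJW : J ≤ centralizer (Wf E : Set G) := by
      intro r hr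
      set M := J ⊓ centralizer (Vn G : Set G) with hM
      have hJp : IsPGroup 3 J := hBp.to_le (thompson_le_bau _)
      have hMp : IsPGroup 3 M := hJp.to_le inf_le_left
      have hg₂M : g₂ ∈ normalizer (M : Set G) := by
        rw [mem_nz_iff, hM, cg_inf, mem_nz_iff.1 hg₂J, cg_normal (by infer_instance)]
      have hrx : ⁅r, g₂⁆ ∈ M := by
        rw [commutatorElement_def]
        refine Subgroup.mem_inf.2 ⟨?_, ?_⟩
        · have e : r * g₂ * r⁻¹ * g₂⁻¹ = r * (g₂ * r⁻¹ * g₂⁻¹) := by group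
          rw [e]
          exact mul_mem hr ((mem_normalizer_iff.1 hg₂J _).1 (inv_mem hr))
        · have h1 : g₂ ∈ centralizer (Vn G : Set G) := mem_centralizer_iff.2 fun v hv => (hg₂V v hv).symm
          exact mul_mem ((inferInstance : (centralizer (Vn G : Set G)).Normal).conj_mem g₂ h1 r) (inv_mem h1)
      obtain ⟨m', hm', c', hc', hmc⟩ := H52.Cop.exists_fixed_of_primePow (R := (⊥ : Subgroup G)) hMp Nat.prime_two (by norm_num) hi hg₂M hrx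
      have hc'J : c' ∈ J := by
        have : c' = m'⁻¹ * r := by rw [hmc]; group
        rw [this]
        exact mul_mem (inv_mem (Subgroup.mem_inf.1 hm').1) hr
      have h1 := hcon c' hc'J hc'
      have h2 : m' ∈ centralizer (Wf E : Set G) := by
        rw [mem_centralizer_iff]
        intro w hw
        exact mem_centralizer_iff.1 (Subgroup.mem_inf.1 hm').2 w (ex.WVn hw)
      rw [hmc]
      exact mul_mem h2 h1
    apply block_thompson ex.hG ex.hE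
    rw [Subgroup.commutator_comm, Subgroup.commutator_eq_bot_iff_le_centralizer]
    exact hJW.trans (Subgroup.centralizer_le ex.WE_W)
  have hfix := fun x (hx : x ∈ Qf E) => ex.quad_fix quad hz hg₂V hg₂Q hb hbg hx
  have hbE : b ∈ normalizer (E : Set G) := ex.bE (thompson_le_bau _ hb)
  have hbQ : b ∈ normalizer (Qf E : Set G) := nzEQ hbE
  have hbZ : b ∈ normalizer (Zf E : Set G) := nzEZ hbE
  have hZconj : ∀ {y u : G}, y ∈ Qf E → u ∈ Zf E → y * u * y⁻¹ = u := by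
    intro y u hy hu
    rw [Wcen (Zle hu) hy]; group
  let Y : Subgroup G :=
    { carrier := {y | y ∈ Qf E ∧ b * y * b⁻¹ * y⁻¹ ∈ Zf E}
      one_mem' := ⟨one_mem _, by
        have : b * 1 * b⁻¹ * 1⁻¹ = 1 := by group
        rw [this]; exact one_mem _⟩
      mul_mem' := by
        rintro x y ⟨hx, hx'⟩ ⟨hy, hy'⟩
        refine ⟨mul_mem hx hy, ?_⟩
        have e : b * (x * y) * b⁻¹ * (x * y)⁻¹ = (b * x * b⁻¹ * x⁻¹) * (x * (b * y * b⁻¹ * y⁻¹) * x⁻¹) := by group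
        rw [e, hZconj hx hy']
        exact mul_mem hx' hy'
      inv_mem' := by
        rintro x ⟨hx, hx'⟩
        refine ⟨inv_mem hx, ?_⟩
        have e : b * x⁻¹ * b⁻¹ * x⁻¹⁻¹ = x⁻¹ * (x * (b * x⁻¹ * b⁻¹)) * x⁻¹⁻¹ := by group
        have e2 : x * (b * x⁻¹ * b⁻¹) = (b * x * b⁻¹ * x⁻¹)⁻¹ := by group
        rw [e, e2, hZconj (inv_mem hx) (inv_mem hx')]
        exact inv_mem hx' }
  have hYmem : ∀ y, y ∈ Y ↔ y ∈ Qf E ∧ b * y * b⁻¹ * y⁻¹ ∈ Zf E := fun y => Iff.rfl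
  have hbY : b ∈ normalizer (Y : Set G) := by
    rw [mem_normalizer_iff]
    intro y
    constructor
    · intro hy
      obtain ⟨h1, h2⟩ := (hYmem y).1 hy
      refine (hYmem _).2 ⟨(mem_normalizer_iff.1 hbQ y).1 h1, ?_⟩
      have e : b * (b * y * b⁻¹) * b⁻¹ * (b * y * b⁻¹)⁻¹ = b * (b * y * b⁻¹ * y⁻¹) * b⁻¹ := by group
      rw [e]
      exact (mem_normalizer_iff.1 hbZ _).1 h2
    · intro hy
      obtain ⟨h1, h2⟩ := (hYmem _).1 hy
      refine (hYmem _).2 ⟨(mem_normalizer_iff.1 hbQ y).2 h1, ?_⟩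
      have e : b * (b * y * b⁻¹) * b⁻¹ * (b * y * b⁻¹)⁻¹ = b * (b * y * b⁻¹ * y⁻¹) * b⁻¹ := by group
      rw [e] at h2
      exact (mem_normalizer_iff.1 hbZ _).2 h2
  apply ex.bq b (thompson_le_bau _ hb) hbW
  refine (Subgroup.commutator_mono (comm_zpow_le (A := Qf E) (B := Y) hbY ?_ hbQ) le_rfl).trans
    (comm_zpow_le (A := Y) (B := Zf E) hbZ (fun a ha => ((hYmem a).1 ha).2) hbY)
  intro a ha
  refine (hYmem _).2 ⟨mul_mem ((mem_normalizer_iff.1 hbQ a).1 ha) (inv_mem ha), ?_⟩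
  exact hfix a ha

end Ex

end H51.Bau
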