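import Cfsg.Agent.Lib.H51.BauExF

/-!
The exceptional blocks (`p = 3`): the final argument.
-/

set_option autoImplicit false
set_option linter.unusedSectionVars false
set_option linter.unusedVariables false

namespace H51.Bau

open Subgroup Cfsg H51.FF H51.OG H52.PRes H52.PCore H53.PU
open scoped commutatorElement MatrixGroups

attribute [local instance] three_prime

section gen

variable {X : Type*} [Group X]

theorem quat_pgroup {a b z : X} (h1 : a * a = z) (h2 : b * b = z) (h3 : z * z = 1) (h4 : a * b = z * (b * a)) :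
    IsPGroup 2 ↥(closure {a, b}) ∧ (∀ k ∈ closure {a, b}, k * z = z * k) ∧ z ∈ ⁅closure {a, b}, closure {a, b}⁆ := by
  have haz : a * z = z * a := by rw [← h1, mul_assoc]
  have hbz : b * z = z * b := by rw [← h2, mul_assoc]
  have hc : ∀ k ∈ closure {a, b}, k * z = z * k := by
    intro k hk
    have : closure {a, b} ≤ centralizer {z} := by
      rw [closure_le]
      rintro x (rfl | rfl)
      · exact mem_centralizer_singleton_iff.2 haz
      · exact mem_centralizer_singleton_iff.2 hbz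
    exact mem_centralizer_singleton_iff.1 (this hk)
  have hzi : z⁻¹ = z := inv_eq_of_mul_eq_one_left h3
  have ha : a ∈ closure {a, b} := subset_closure (by simp)
  have hb : b ∈ closure {a, b} := subset_closure (by simp)
  have hab : a * b * a⁻¹ * b⁻¹ = z := by rw [h4]; group
  have hba : b * a * b⁻¹ * a⁻¹ = z := by
    have : b * a * b⁻¹ * a⁻¹ = (a * b * a⁻¹ * b⁻¹)⁻¹ := by group
    rw [this, hab, hzi]
  refine ⟨?_, hc, ?_⟩
  · set C := zpowers z with hC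
    have hCc : ∀ y ∈ C, ∀ k ∈ closure {a, b}, k * y = y * k := by
      rintro _ ⟨n, rfl⟩ k hk
      exact (Commute.zpow_right (hc k hk : Commute k z) n).eq
    -- commutators with a fixed element
    have key : ∀ x ∈ closure {a, b}, (∀ l ∈ ({a, b} : Set X), x * l * x⁻¹ * l⁻¹ ∈ C) → ∀ l ∈ closure {a, b}, x * l * x⁻¹ * l⁻¹ ∈ C := by
      intro x hx h l hl
      induction hl using closure_induction with
      | mem y hy => exact h y hy
      | one =>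
        have : x * 1 * x⁻¹ * 1⁻¹ = 1 := by group
        rw [this]; exact one_mem _
      | mul y w hy hw ihy ihw =>
        have e : x * (y * w) * x⁻¹ * (y * w)⁻¹ = (x * y * x⁻¹ * y⁻¹) * (y * (x * w * x⁻¹ * w⁻¹) * y⁻¹) := by group
        rw [e, hCc _ ihw y hy, mul_inv_cancel_right]
        exact mul_mem ihy ihw
      | inv y hy ihy =>
        have e : x * y⁻¹ * x⁻¹ * y⁻¹⁻¹ = y⁻¹ * (y * (x * y⁻¹ * x⁻¹)) * y⁻¹⁻¹ := by group
        have e2 : y * (x * y⁻¹ * x⁻¹) = (x * y * x⁻¹ * y⁻¹)⁻¹ := by group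
        rw [e, e2, hCc _ (inv_mem ihy) y⁻¹ (inv_mem hy), mul_inv_cancel_right]
        exact inv_mem ihy
    have hzC : z ∈ C := mem_zpowers z
    have hsq : ∀ k ∈ closure {a, b}, k * k ∈ C ∧ ∀ l ∈ closure {a, b}, k * l * k⁻¹ * l⁻¹ ∈ C := by
      intro k hk
      induction hk using closure_induction with
      | mem y hy =>
        refine ⟨?_, key y (subset_closure hy) ?_⟩
        · rcases hy with rfl | rfl
          · rw [h1]; exact hzC
          · rw [h2]; exact hzC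
        · rintro l hl
          rcases hy with rfl | rfl <;> rcases hl with rfl | rfl
          · have : l * l * l⁻¹ * l⁻¹ = 1 := by group
            rw [this]; exact one_mem _
          · rw [hab]; exact hzC
          · rw [hba]; exact hzC
          · have : l * l * l⁻¹ * l⁻¹ = 1 := by group
            rw [this]; exact one_mem _
      | one =>
        refine ⟨by rw [mul_one]; exact one_mem _, fun l _ => ?_⟩
        have : 1 * l * 1⁻¹ * l⁻¹ = 1 := by group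
        rw [this]; exact one_mem _
      | mul y w hy hw ihy ihw =>
        constructor
        · have e : y * w * (y * w) = (y * y) * (y⁻¹ * (w * y * w⁻¹ * y⁻¹) * y) * (w * w) := by group
          have h5 := ihw.2 y hy
          have h6 := hCc _ h5 y⁻¹ (inv_mem hy)
          rw [e, h6, inv_mul_cancel_right]
          exact mul_mem (mul_mem ihy.1 h5) ihw.1
        · intro l hl
          have e : y * w * l * (y * w)⁻¹ * l⁻¹ = (y * (w * l * w⁻¹ * l⁻¹) * y⁻¹) * (y * l * y⁻¹ * l⁻¹) := by group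
          rw [e, hCc _ (ihw.2 l hl) y hy, mul_inv_cancel_right]
          exact mul_mem (ihw.2 l hl) (ihy.2 l hl)
      | inv y hy ihy =>
        constructor
        · have e : y⁻¹ * y⁻¹ = (y * y)⁻¹ := by group
          rw [e]; exact inv_mem ihy.1
        · intro l hl
          have e : y⁻¹ * l * y⁻¹⁻¹ * l⁻¹ = y⁻¹ * (y * l * y⁻¹ * l⁻¹)⁻¹ * y⁻¹⁻¹ := by group
          rw [e, hCc _ (inv_mem (ihy.2 l hl)) y⁻¹ (inv_mem hy), mul_inv_cancel_right]
          exact inv_mem (ihy.2 l hl)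
    intro k
    refine ⟨2, ?_⟩
    have h5 := (hsq k k.2).1
    have h6 : ∀ y ∈ C, y * y = 1 := by
      rintro _ ⟨n, rfl⟩
      show z ^ n * z ^ n = 1
      rw [← (Commute.refl z).mul_zpow, h3, one_zpow]
    apply Subtype.ext
    show (k : X) ^ 2 ^ 2 = 1
    have h7 := h6 _ h5
    have e : (k : X) ^ 2 ^ 2 = (k * k) * (k * k) := by
      show (k : X) ^ 4 = _
      rw [pow_succ, pow_succ, pow_succ, pow_one]; group
    rw [e, h7]
  · have := Subgroup.commutator_mem_commutator ha hb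
    rw [commutatorElement_def, hab] at this
    exact this

/-- LEMMA M -/
def LemM : Prop := ∀ {A : Type u_1} [Group A] [Finite A] (hc : ∀ a b : A, a * b = b * a) (h3 : ∀ a : A, a ^ 3 = 1)
  (D K : Subgroup (MulAut A)) (z : MulAut A) (hz : z * z = 1) (hzK : z ∈ ⁅K, K⁆) (hzc : ∀ k ∈ K, k * z = z * k)
  (hK2 : IsPGroup 2 K) (hKD : K ≤ normalizer (D : Set (MulAut A))) (hKf : ∀ k ∈ K, ∀ a, z a = a → k a = a)
  (hD : ∀ x ∈ D, x * z = z * x → ∀ a, x (z a * a⁻¹) = z a * a⁻¹)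
  (hO : ∀ R ≤ D, D ≤ normalizer (R : Set (MulAut A)) → IsPGroup 3 R → R = ⊥), ∀ x ∈ D, x * z = z * x

end gen

variable {G : Type*} [Group G] [Finite G]
variable {T : Sylow 3 G} {E : Subgroup G} {F : Type} [Field F] [Fintype F]

namespace Ex

variable (ex : Ex T E F)

include ex

variable {ρ : ↥E →* SL(2, F)} {ψ : ↥(Qf E) →* Multiplicative (Fin 2 → F)}

theorem al_Q {q : G} (hq : q ∈ Qf E) : al G q = 1 := al_N (ex.QN hq)

theorem al_eq (c : Crd F E (Qf E) (Wf E) ρ ψ) {e e' : ↥E} (h : ρ e = ρ e') : al G (e : G) = al G (e' : G) := by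
  have h1 : ρ (e * e'⁻¹) = 1 := by rw [map_mul, map_inv, h, mul_inv_cancel]
  have h2 := (ex.ker2 c (e * e'⁻¹).2).1 h1
  have h3 := ex.al_Q h2
  have h4 : al G ((e * e'⁻¹ : ↥E) : G) = al G (e : G) * (al G (e' : G))⁻¹ := by
    show al G ((e : G) * (e' : G)⁻¹) = _
    rw [map_mul, map_inv]
  rw [h4, mul_inv_eq_one] at h3
  exact h3

theorem sqQ {z : G} (hz : Zet E z) {q : G} (hq : q ∈ Qf E) : z * q * z⁻¹ * q⁻¹ * q⁻¹ ∈ Vn G := by
  -- `z q z⁻¹ = q⁻¹ w`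
  have h1 := ex.WVn (hz.zq q hq)
  have h2 := ex.WVn (ex.Qcube hq)
  have e : z * q * z⁻¹ * q⁻¹ * q⁻¹ = q⁻¹ * (q * (z * q * z⁻¹)) * q⁻¹⁻¹ * (q ^ 3)⁻¹ := by
    have : (q ^ 3)⁻¹ = q⁻¹ * q⁻¹ * q⁻¹ := by group
    rw [this]; group
  rw [e]
  exact mul_mem ((Vn_normal G).conj_mem _ h1 q⁻¹) (inv_mem h2)

theorem normQ {z : G} (hz : Zet E z) {d : G} (hc : al G d * al G z = al G z * al G d) :
    ∀ q ∈ Qf E, ∃ q' ∈ Qf E, ∃ v ∈ Vn G, d * q * d⁻¹ = q' * v := by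
  intro q hq
  have hU := ex.QU hq
  have hdU : d * q * d⁻¹ ∈ Uf G := (Uf_normal G).conj_mem q hU d
  -- `[z, d q d⁻¹] ∈ Q`
  have h1 : z * (d * q * d⁻¹) * z⁻¹ * (d * q * d⁻¹)⁻¹ ∈ Qf E := by
    have := inv_mem (ex.ne (Uf_le hdU) hz.zE)
    have e : (d * q * d⁻¹ * z * (d * q * d⁻¹)⁻¹ * z⁻¹)⁻¹ = z * (d * q * d⁻¹) * z⁻¹ * (d * q * d⁻¹)⁻¹ := by group
    rwa [e] at this
  refine ⟨_, h1, (z * (d * q * d⁻¹) * z⁻¹ * (d * q * d⁻¹)⁻¹)⁻¹ * (d * q * d⁻¹), ?_, by group⟩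
  -- in the quotient
  have h2 := (QuotientGroup.eq_one_iff _).2 (ex.sqQ hz hq)
  have h2' : (z : G ⧸ Vn G) * q * (z : G ⧸ Vn G)⁻¹ * (q : G ⧸ Vn G)⁻¹ * (q : G ⧸ Vn G)⁻¹ = 1 := h2
  have h3 := congrArg (fun f : MulAut ↥(Ab G) => ((f ⟨(q : G ⧸ Vn G), mk_mem_Ab hU⟩ : ↥(Ab G)) : G ⧸ Vn G)) hc
  have h3' : (d : G ⧸ Vn G) * ((z : G ⧸ Vn G) * q * (z : G ⧸ Vn G)⁻¹) * (d : G ⧸ Vn G)⁻¹ =
      (z : G ⧸ Vn G) * ((d : G ⧸ Vn G) * q * (d : G ⧸ Vn G)⁻¹) * (z : G ⧸ Vn G)⁻¹ := by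
    have k1 := al_apply d (al G z ⟨(q : G ⧸ Vn G), mk_mem_Ab hU⟩)
    have k2 := al_apply z (al G d ⟨(q : G ⧸ Vn G), mk_mem_Ab hU⟩)
    rw [al_apply] at k1 k2
    exact k1.symm.trans (h3.trans k2)
  rw [← QuotientGroup.eq_one_iff]
  have e : (((z * (d * q * d⁻¹) * z⁻¹ * (d * q * d⁻¹)⁻¹)⁻¹ * (d * q * d⁻¹) : G) : G ⧸ Vn G) =
      ((z : G ⧸ Vn G) * ((d : G ⧸ Vn G) * q * (d : G ⧸ Vn G)⁻¹) * (z : G ⧸ Vn G)⁻¹ * ((d : G ⧸ Vn G) * q * (d : G ⧸ Vn G)⁻¹)⁻¹)⁻¹ *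
        ((d : G ⧸ Vn G) * q * (d : G ⧸ Vn G)⁻¹) := rfl
  rw [e, ← h3']
  have h4 : (z : G ⧸ Vn G) * q * (z : G ⧸ Vn G)⁻¹ = (q : G ⧸ Vn G) * q := by
    rw [mul_inv_eq_one, mul_inv_eq_iff_eq_mul] at h2'
    exact h2'
  rw [h4]
  group

theorem fixE {z : G} (hz : Zet E z) {e : G} (he : e ∈ E) {a : ↥(Ab G)} (ha : al G z a = a) : al G e a = a := by
  obtain ⟨u, hu, hau⟩ := Ab_ind (a := a)
  have hVn := Vn_normal G
  have key : ∀ (g : G) (y : ↥(Ab G)) (w : G), w ∈ Uf G → (y : G ⧸ Vn G) = w → (al G g y = y ↔ g * w * g⁻¹ * w⁻¹ ∈ Vn G) := by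
    intro g y w hw hy
    rw [← QuotientGroup.eq_one_iff]
    have e1 : ((g * w * g⁻¹ * w⁻¹ : G) : G ⧸ Vn G) = (g : G ⧸ Vn G) * w * (g : G ⧸ Vn G)⁻¹ * (w : G ⧸ Vn G)⁻¹ := rfl
    rw [e1, mul_inv_eq_one, ← hy, ← al_apply]
    constructor
    · intro h; rw [h]
    · intro h; exact Subtype.ext h
  rw [key e a u hu hau]
  have hzu := (key z a u hu hau).1 ha
  -- `y = [e, u] ∈ Q`
  set y := e * u * e⁻¹ * u⁻¹ with hy
  have hyQ : y ∈ Qf E := by
    have := inv_mem (ex.ne (Uf_le hu) he)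
    have e1 : (u * e * u⁻¹ * e⁻¹)⁻¹ = e * u * e⁻¹ * u⁻¹ := by group
    rwa [e1] at this
  -- `[z, e u e⁻¹] ∈ V`
  have h1 : z * (e * u * e⁻¹) * z⁻¹ * (e * u * e⁻¹)⁻¹ ∈ Vn G := by
    have h3 := hz.zc e⁻¹ (inv_mem he)
    rw [inv_inv] at h3
    set q := e⁻¹ * z * e * z⁻¹ with hq
    have hzu' : z * u * z⁻¹ ∈ Uf G := (Uf_normal G).conj_mem u hu z
    have h4 := inv_mem ((mem_Uf.1 hzu').2.2 q (ex.QN h3))
    -- `q (z u z⁻¹) q⁻¹ (z u z⁻¹)⁻¹ ∈ V`
    have e2 : (z * u * z⁻¹ * q * (z * u * z⁻¹)⁻¹ * q⁻¹)⁻¹ = q * (z * u * z⁻¹) * q⁻¹ * (z * u * z⁻¹)⁻¹ := by group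
    rw [e2] at h4
    have e3 : z * (e * u * e⁻¹) * z⁻¹ * (e * u * e⁻¹)⁻¹ =
        e * ((q * (z * u * z⁻¹) * q⁻¹ * (z * u * z⁻¹)⁻¹) * (z * u * z⁻¹ * u⁻¹)) * e⁻¹ := by
      rw [hq]; group
    rw [e3]
    exact hVn.conj_mem _ (mul_mem h4 hzu) e
  -- `[z, y] ∈ V`
  have h2 : z * y * z⁻¹ * y⁻¹ ∈ Vn G := by
    have e4 : z * y * z⁻¹ * y⁻¹ = (z * (e * u * e⁻¹) * z⁻¹ * (e * u * e⁻¹)⁻¹) *
        ((e * u * e⁻¹) * (u⁻¹ * (z * u * z⁻¹ * u⁻¹)⁻¹ * u⁻¹⁻¹) * (e * u * e⁻¹)⁻¹) := by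
      rw [hy]; group
    rw [e4]
    exact mul_mem h1 (hVn.conj_mem _ (by
      have := hVn.conj_mem _ (inv_mem hzu) u⁻¹
      exact this) _)
  have h3 := ex.sqQ hz hyQ
  have e5 : y = (z * y * z⁻¹ * y⁻¹ * y⁻¹)⁻¹ * (z * y * z⁻¹ * y⁻¹) := by group
  rw [e5]
  exact mul_mem (inv_mem h3) h2

theorem fixD0 (hM : LemM.{u_1}) (quad : Quad T E) : ∀ d ∈ D0 G, ∀ q ∈ Qf E, d * q * d⁻¹ * q⁻¹ ∈ Vn G := by
  obtain ⟨ρ, ψ, c⟩ := exists_crd ex.a2
  have hF := ex.hF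
  have h30 := three_zero hF
  obtain ⟨z, hz⟩ : ∃ z : ↥E, ρ z = -1 := by
    have := neg_mem hF
    rwa [← c.rng] at this
  obtain ⟨i, hi⟩ : ∃ z : ↥E, ρ z = qi := by
    have := (q_mem h30).1
    rwa [← c.rng] at this
  obtain ⟨j, hj⟩ : ∃ z : ↥E, ρ z = qj h30 := by
    have := (q_mem h30).2
    rwa [← c.rng] at this
  have hzet := ex.zet c hz
  have hX : ∀ d ∈ D0 G, ¬ Ind E ψ d (-1) := fun d hd => ex.lemX quad c hzet hd
  have hmul : ∀ x y : ↥E, al G (x : G) * al G (y : G) = al G ((x * y : ↥E) : G) := by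
    intro x y
    rw [← map_mul]; rfl
  have h1 : al G (i : G) * al G (i : G) = al G (z : G) := by
    rw [hmul]; apply ex.al_eq c; rw [map_mul, hi, hz, qi_sq]
  have h2 : al G (j : G) * al G (j : G) = al G (z : G) := by
    rw [hmul]; apply ex.al_eq c; rw [map_mul, hj, hz, qj_sq]
  have h3 : al G (z : G) * al G (z : G) = 1 := by
    rw [← map_mul]; exact ex.al_Q hzet.zz
  have h4 : al G (i : G) * al G (j : G) = al G (z : G) * (al G (j : G) * al G (i : G)) := by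
    rw [hmul, hmul, hmul]; apply ex.al_eq c
    rw [map_mul, map_mul, map_mul, hi, hj, hz, qij, neg_mul, one_mul]
  obtain ⟨k1, k2, k3⟩ := quat_pgroup h1 h2 h3 h4
  have hAe := H13.Omega.isElementaryAbelian_omegaZ (p := 3) (Nb G)
  have hDn : ∀ g : G, al G g ∈ normalizer (((D0 G).map (al G) : Subgroup (MulAut ↥(Ab G))) : Set (MulAut ↥(Ab G))) := by
    have hsub : ∀ g : G, ∀ x ∈ (D0 G).map (al G), al G g * x * (al G g)⁻¹ ∈ (D0 G).map (al G) := by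
      rintro g _ ⟨d, hd, rfl⟩
      exact ⟨g * d * g⁻¹, (D0_normal G).conj_mem d hd g, by rw [map_mul, map_mul, map_inv]⟩
    intro g
    rw [mem_normalizer_iff]
    intro x
    refine ⟨hsub g x, fun h => ?_⟩
    have := hsub g⁻¹ _ h
    rw [map_inv] at this
    have e : (al G g)⁻¹ * (al G g * x * (al G g)⁻¹) * (al G g)⁻¹⁻¹ = x := by group
    rwa [e] at this
  have hfin := hM (A := ↥(Ab G)) (fun a b => hAe.1.is_comm.comm a b) (fun a => Subtype.ext (hAe.2 a a.2))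
    ((D0 G).map (al G)) (closure {al G (i : G), al G (j : G)}) (al G (z : G)) h3 k3 k2 k1
    (by
      rw [closure_le]
      rintro x (rfl | rfl)
      · exact hDn _
      · exact hDn _)
    (by
      intro k hk a ha
      let S : Subgroup (MulAut ↥(Ab G)) :=
        { carrier := {f | f a = a}
          one_mem' := rfl
          mul_mem' := by
            rintro f g (hf : f a = a) (hg : g a = a)
            show (f * g) a = a
            rw [MulAut.mul_apply, hg, hf]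
          inv_mem' := by
            rintro f (hf : f a = a)
            show f⁻¹ a = a
            rw [MulAut.inv_apply, MulEquiv.symm_apply_eq, hf] }
      have : closure {al G (i : G), al G (j : G)} ≤ S := by
        rw [closure_le]
        rintro x (rfl | rfl)
        · exact ex.fixE hzet i.2 ha
        · exact ex.fixE hzet j.2 ha
      exact this hk)
    (by
      rintro _ ⟨d, hd, rfl⟩ hc a
      have hfix := ex.fix_P c hX hd (ex.normQ hzet hc)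
      obtain ⟨u, hu, hau⟩ := Ab_ind (a := a)
      have hq : (z : G) * u * (z : G)⁻¹ * u⁻¹ ∈ Qf E := by
        have := inv_mem (ex.ne (Uf_le hu) hzet.zE)
        have e : (u * z * u⁻¹ * (z : G)⁻¹)⁻¹ = (z : G) * u * (z : G)⁻¹ * u⁻¹ := by group
        rwa [e] at this
      have h5 := (QuotientGroup.eq_one_iff _).2 (hfix _ hq)
      apply Subtype.ext
      rw [al_apply]
      have e1 : ((al G (z : G) a * a⁻¹ : ↥(Ab G)) : G ⧸ Vn G) = (((z : G) * u * (z : G)⁻¹ * u⁻¹ : G) : G ⧸ Vn G) := by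
        show ((al G (z : G) a : ↥(Ab G)) : G ⧸ Vn G) * (a : G ⧸ Vn G)⁻¹ = _
        rw [al_apply, hau]; rfl
      rw [e1]
      have h6 : ((d * ((z : G) * u * (z : G)⁻¹ * u⁻¹) * d⁻¹ * ((z : G) * u * (z : G)⁻¹ * u⁻¹)⁻¹ : G) : G ⧸ Vn G) =
          (d : G ⧸ Vn G) * (((z : G) * u * (z : G)⁻¹ * u⁻¹ : G) : G ⧸ Vn G) * (d : G ⧸ Vn G)⁻¹ *
            ((((z : G) * u * (z : G)⁻¹ * u⁻¹ : G) : G ⧸ Vn G))⁻¹ := rfl
      rw [h6, mul_inv_eq_one] at h5
      exact h5)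
    (fun R hR hn hp => O3_triv ex.hG R hR hn hp)
  intro d hd
  exact ex.fix_P c hX hd (ex.normQ hzet (hfin _ ⟨d, hd, rfl⟩))

end Ex

end H51.Bau
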