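import Cfsg.Agent.Lib.H51.BauExG
import Cfsg.Agent.Lib.H56.BmM

/-!
The exceptional blocks (`p = 3`): `[C(W_E), E]` is a 3-group.
-/

set_option autoImplicit false
set_option linter.unusedSectionVars false
set_option linter.unusedVariables false

namespace H51.Bau

open Subgroup Cfsg H51.FF H51.OG H52.PRes H52.PCore H53.PU
open scoped commutatorElement MatrixGroups

attribute [local instance] three_prime

universe u

theorem lemM : LemM.{u} := by
  intro A _ _ hc h3 D K z hz hzK hzc hK2 hKD hKf hD hO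
  exact H56.BmM.lemM hc h3 D K z hz hzK hzc hK2 hKD hKf hD hO

variable {G : Type u} [Group G] [Finite G]
variable {T : Sylow 3 G} {E : Subgroup G} {F : Type} [Field F] [Fintype F]

section gen

/-- elements centralizing a section -/
theorem mem_comap_cen {N Y : Subgroup G} [hY : Y.Normal] {x : G} :
    x ∈ (centralizer (((N.map (QuotientGroup.mk' Y) : Subgroup (G ⧸ Y))) : Set (G ⧸ Y))).comap (QuotientGroup.mk' Y) ↔
      ∀ n ∈ N, x * n * x⁻¹ * n⁻¹ ∈ Y := by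
  constructor
  · intro h n hn
    have h3 := mem_centralizer_iff.1 (show (x : G ⧸ Y) ∈ _ from h) (n : G ⧸ Y) ⟨n, hn, rfl⟩
    rw [← QuotientGroup.eq_one_iff]
    have h4 : ((x * n * x⁻¹ * n⁻¹ : G) : G ⧸ Y) = (x : G ⧸ Y) * n * (x : G ⧸ Y)⁻¹ * (n : G ⧸ Y)⁻¹ := rfl
    rw [h4, ← h3]
    group
  · intro h
    show (x : G ⧸ Y) ∈ centralizer _
    rw [mem_centralizer_iff]
    rintro _ ⟨n, hn, rfl⟩
    have h4 := (QuotientGroup.eq_one_iff _).2 (h n hn)
    have h5 : (x : G ⧸ Y) * n * (x : G ⧸ Y)⁻¹ * (n : G ⧸ Y)⁻¹ = 1 := h4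
    show (n : G ⧸ Y) * x = x * n
    rw [mul_inv_eq_one, mul_inv_eq_iff_eq_mul] at h5
    exact h5.symm

theorem comap_cen_normal (N Y : Subgroup G) [hN : N.Normal] [hY : Y.Normal] :
    ((centralizer (((N.map (QuotientGroup.mk' Y) : Subgroup (G ⧸ Y))) : Set (G ⧸ Y))).comap (QuotientGroup.mk' Y)).Normal := by
  have : (N.map (QuotientGroup.mk' Y)).Normal := Subgroup.Normal.map hN _ (QuotientGroup.mk'_surjective _)
  infer_instance

/-- a normal subgroup containing `E` contains `[C, E]` -/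
theorem comm_le_of {C E X : Subgroup G} [hX : X.Normal] (h : E ≤ X) : ⁅C, E⁆ ≤ X := by
  refine (Subgroup.commutator_mono le_rfl h).trans ?_
  rw [← le_normalizer_iff_commutator_le_right, Subgroup.normalizer_eq_top]
  exact le_top

end gen

namespace Ex

variable (ex : Ex T E F)

include ex

theorem comm_pgroup (quad : Quad T E) : IsPGroup 3 ↥⁅centralizer ((⁅Wf E, E⁆ : Subgroup G) : Set G), E⁆ := by
  set C := centralizer ((⁅Wf E, E⁆ : Subgroup G) : Set G) with hC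
  set L := ⁅C, E⁆ with hL
  set Ξ := resOf 3 L with hΞ
  have hVn := Vn_normal G
  have hUn := Uf_normal G
  have hDn := D0_normal G
  have hfix := ex.fixD0 lemM quad
  have hnz : ∀ (X : Subgroup G), X.Normal → Ξ ≤ normalizer (X : Set G) := by
    intro X hX
    rw [Subgroup.normalizer_eq_top]; exact le_top
  have hEC : E ≤ normalizer (C : Set G) := by
    have h1 : E ≤ normalizer ((⁅Wf E, E⁆ : Subgroup G) : Set G) := normalizer_commutator_ge_right _ _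
    intro e he
    have h2 := mem_nz_iff.1 (h1 he)
    rw [mem_nz_iff, hC, map_centralizer, h2]
  have hLC : L ≤ C := le_normalizer_iff_commutator_le_left.1 hEC
  have hΞL : Ξ ≤ L := resOf_le L
  have hΞr : resOf 3 Ξ = Ξ := resOf_resOf L
  have hNp : IsPGroup 3 (pCore 3 G) := isPGroup_pCore
  -- `[V, L] ≤ W_E`
  have hVW : ⁅Vn G, E⁆ = ⁅Wf E, E⁆ := ex.WE_eq
  let XV : Subgroup G :=
    { carrier := {x | x ∈ normalizer ((⁅Wf E, E⁆ : Subgroup G) : Set G) ∧ ∀ v ∈ Vn G, x * v * x⁻¹ * v⁻¹ ∈ ⁅Wf E, E⁆}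
      one_mem' := ⟨one_mem _, fun v _ => by
        have : 1 * v * 1⁻¹ * v⁻¹ = 1 := by group
        rw [this]; exact one_mem _⟩
      mul_mem' := by
        rintro x y ⟨hx, hx'⟩ ⟨hy, hy'⟩
        refine ⟨mul_mem hx hy, fun v hv => ?_⟩
        have e : x * y * v * (x * y)⁻¹ * v⁻¹ = (x * (y * v * y⁻¹ * v⁻¹) * x⁻¹) * (x * v * x⁻¹ * v⁻¹) := by group
        rw [e]
        exact mul_mem ((mem_normalizer_iff.1 hx _).1 (hy' v hv)) (hx' v hv)
      inv_mem' := by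
        rintro x ⟨hx, hx'⟩
        refine ⟨inv_mem hx, fun v hv => ?_⟩
        have e : x⁻¹ * v * x⁻¹⁻¹ * v⁻¹ = x⁻¹ * (x * v * x⁻¹ * v⁻¹)⁻¹ * x⁻¹⁻¹ := by group
        rw [e]
        exact (mem_normalizer_iff.1 (inv_mem hx) _).1 (inv_mem (hx' v hv)) }
  have hEX : E ≤ XV := by
    intro e he
    refine ⟨normalizer_commutator_ge_right _ _ he, fun v hv => ?_⟩
    have h1 := inv_mem (ex.vE hv he)
    have e1 : (v * e * v⁻¹ * e⁻¹)⁻¹ = e * v * e⁻¹ * v⁻¹ := by group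
    rwa [e1] at h1
  have hLX : L ≤ XV := by
    rw [hL, Subgroup.commutator_le]
    intro c hc e he
    rw [commutatorElement_def]
    have hcW : ∀ w ∈ ⁅Wf E, E⁆, c * w * c⁻¹ = w := by
      intro w hw
      rw [← mem_centralizer_iff.1 hc w hw]; group
    have hcn : c ∈ normalizer ((⁅Wf E, E⁆ : Subgroup G) : Set G) := by
      rw [mem_normalizer_iff]
      intro w
      constructor
      · intro hw; rw [hcW w hw]; exact hw
      · intro hw
        have h1 : c⁻¹ ∈ C := inv_mem hc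
        have h2 := mem_centralizer_iff.1 h1 _ hw
        have e1 : w = c⁻¹ * (c * w * c⁻¹) * c := by group
        rw [e1, ← h2]
        have e2 : c * w * c⁻¹ * c⁻¹ * c = c * w * c⁻¹ := by group
        rw [e2]; exact hw
    refine mul_mem (?_ : c * e * c⁻¹ ∈ XV) (inv_mem (hEX he))
    refine ⟨mul_mem (mul_mem hcn (hEX he).1) (inv_mem hcn), fun v hv => ?_⟩
    have hv' : c⁻¹ * v * c ∈ Vn G := by
      have := hVn.conj_mem v hv c⁻¹
      rwa [inv_inv] at this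
    have h1 := (hEX he).2 _ hv'
    have e1 : c * e * c⁻¹ * v * (c * e * c⁻¹)⁻¹ * v⁻¹ = c * (e * (c⁻¹ * v * c) * e⁻¹ * (c⁻¹ * v * c)⁻¹) * c⁻¹ := by group
    rw [e1, hcW _ h1]
    exact h1
  -- `Ξ` centralizes `V`
  have hΞV : ⁅Vn G, Ξ⁆ = ⊥ := by
    rw [eq_bot_iff]
    refine (H52.Cop.commutator_le_of_resOf_eq (hNp.to_le Vn_le) (hnz _ hVn) hΞr).trans ?_
    have h1 : ⁅Vn G, Ξ⁆ ≤ ⁅Wf E, E⁆ := by
      rw [Subgroup.commutator_comm, Subgroup.commutator_le]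
      intro x hx v hv
      rw [commutatorElement_def]
      exact (hLX (hΞL hx)).2 v hv
    refine (Subgroup.commutator_mono h1 le_rfl).trans ?_
    rw [le_bot_iff, Subgroup.commutator_comm, Subgroup.commutator_eq_bot_iff_le_centralizer]
    exact hΞL.trans hLC
  -- `Ξ` centralizes `N / U`
  have hXN := comap_cen_normal (pCore 3 G) (Uf G)
  have hEN : E ≤ (centralizer ((((pCore 3 G).map (QuotientGroup.mk' (Uf G)) : Subgroup (G ⧸ Uf G))) : Set (G ⧸ Uf G))).comap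
      (QuotientGroup.mk' (Uf G)) := by
    intro e he
    rw [mem_comap_cen]
    intro n hn
    have h1 := inv_mem (ex.ne hn he)
    have e1 : (n * e * n⁻¹ * e⁻¹)⁻¹ = e * n * e⁻¹ * n⁻¹ := by group
    rw [e1] at h1
    exact ex.QU h1
  have hLN := comm_le_of (C := C) hEN
  have hΞN : ∀ x ∈ Ξ, ∀ n ∈ pCore 3 G, x * n * x⁻¹ * n⁻¹ ∈ Uf G := fun x hx => mem_comap_cen.1 (hLN (hΞL hx))
  have hΞV' : Ξ ≤ centralizer (Vn G : Set G) := by
    rw [← Subgroup.commutator_eq_bot_iff_le_centralizer, Subgroup.commutator_comm]; exact hΞV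
  have hΞD : Ξ ≤ D0 G := by
    intro x hx
    rw [mem_D0]
    exact ⟨fun v hv => (mem_centralizer_iff.1 (hΞV' hx) v hv).symm, hΞN x hx⟩
  -- the subgroup `Y`
  set Y : Subgroup G := Uf G ⊓ (centralizer ((((D0 G).map (QuotientGroup.mk' (Vn G)) : Subgroup (G ⧸ Vn G))) : Set (G ⧸ Vn G))).comap
      (QuotientGroup.mk' (Vn G)) with hY
  have hYn : Y.Normal := by
    have := comap_cen_normal (D0 G) (Vn G)
    rw [hY]; infer_instance
  have hYmem : ∀ y, y ∈ Y ↔ y ∈ Uf G ∧ ∀ d ∈ D0 G, y * d * y⁻¹ * d⁻¹ ∈ Vn G := by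
    intro y
    rw [hY, Subgroup.mem_inf, mem_comap_cen]
  have hQY : Qf E ≤ Y := by
    intro q hq
    refine (hYmem q).2 ⟨ex.QU hq, fun d hd => ?_⟩
    have h1 := inv_mem (hfix d hd q hq)
    have e1 : (d * q * d⁻¹ * q⁻¹)⁻¹ = q * d * q⁻¹ * d⁻¹ := by group
    rwa [e1] at h1
  have hXU := comap_cen_normal (Uf G) Y
  have hEU : E ≤ (centralizer ((((Uf G).map (QuotientGroup.mk' Y) : Subgroup (G ⧸ Y))) : Set (G ⧸ Y))).comap
      (QuotientGroup.mk' Y) := by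
    intro e he
    rw [mem_comap_cen]
    intro n hn
    have h1 := inv_mem (ex.ne (Uf_le hn) he)
    have e1 : (n * e * n⁻¹ * e⁻¹)⁻¹ = e * n * e⁻¹ * n⁻¹ := by group
    rw [e1] at h1
    exact hQY h1
  have hLU := comm_le_of (C := C) hEU
  have h1 : ⁅pCore 3 G, Ξ⁆ ≤ Uf G := by
    rw [Subgroup.commutator_comm, Subgroup.commutator_le]
    intro x hx n hn
    rw [commutatorElement_def]
    exact hΞN x hx n hn
  have h2 : ⁅Uf G, Ξ⁆ ≤ Y := by
    rw [Subgroup.commutator_comm, Subgroup.commutator_le]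
    intro x hx n hn
    rw [commutatorElement_def]
    exact mem_comap_cen.1 (hLU (hΞL hx)) n hn
  have h3 : ⁅Y, Ξ⁆ ≤ Vn G := by
    rw [Subgroup.commutator_le]
    intro y hy x hx
    rw [commutatorElement_def]
    exact ((hYmem y).1 hy).2 x (hΞD hx)
  have hYp : IsPGroup 3 Y := hNp.to_le (fun y hy => Uf_le ((hYmem y).1 hy).1)
  have h4 : ⁅pCore 3 G, Ξ⁆ ≤ ⊥ := by
    calc ⁅pCore 3 G, Ξ⁆ ≤ ⁅⁅pCore 3 G, Ξ⁆, Ξ⁆ := H52.Cop.commutator_le_of_resOf_eq hNp (hnz _ inferInstance) hΞr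
      _ ≤ ⁅Uf G, Ξ⁆ := Subgroup.commutator_mono h1 le_rfl
      _ ≤ ⁅⁅Uf G, Ξ⁆, Ξ⁆ := H52.Cop.commutator_le_of_resOf_eq (hNp.to_le Uf_le) (hnz _ hUn) hΞr
      _ ≤ ⁅Y, Ξ⁆ := Subgroup.commutator_mono h2 le_rfl
      _ ≤ ⁅⁅Y, Ξ⁆, Ξ⁆ := H52.Cop.commutator_le_of_resOf_eq hYp (hnz _ hYn) hΞr
      _ ≤ ⁅Vn G, Ξ⁆ := Subgroup.commutator_mono h3 le_rfl
      _ = ⊥ := hΞV
  rw [le_bot_iff, Subgroup.commutator_comm, Subgroup.commutator_eq_bot_iff_le_centralizer] at h4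
  have h5 : Ξ ≤ pCore 3 G := h4.trans ex.hG
  rw [← resOf_eq_bot_iff]
  have h6 : resOf 3 Ξ = ⊥ := resOf_eq_bot_iff.2 (hNp.to_le h5)
  rw [hΞr] at h6
  exact h6

end Ex

end H51.Bau
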