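import Cfsg.Agent.Lib.H51.OffT

/-!
The case of members of order greater than two: the line groups commute.
-/

set_option autoImplicit false
set_option linter.unusedSectionVars false
set_option linter.unusedVariables false

namespace H51.OG

open Cfsg Subgroup H51.FF H51.SylowAmb H53.PU H51.AmalgamBasic
open scoped MatrixGroups

section torus

variable {F : Type*} [Field F] [Fintype F]

theorem dg_pow (t : F) (ht : t ≠ 0) (n : ℕ) :
    ((dg t ht ^ n : SL(2, F)) : Matrix (Fin 2) (Fin 2) F) = !![t ^ n, 0; 0, t⁻¹ ^ n] := by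
  induction n with
  | zero =>
    rw [pow_zero, pow_zero, pow_zero, Matrix.SpecialLinearGroup.coe_one, Matrix.one_fin_two]
  | succ n ih =>
    rw [pow_succ, Matrix.SpecialLinearGroup.coe_mul, ih, dg_coe, Matrix.mul_fin_two]
    congr 1
    simp [pow_succ]

theorem exists_basis {w : Fin 2 → F} (hw : w ≠ 0) :
    ∃ P : SL(2, F), (P : Matrix (Fin 2) (Fin 2) F).mulVec ![1, 0] = w := by
  by_cases h : w 0 = 0
  · have h1 : w 1 ≠ 0 := by
      intro h1
      apply hw
      ext i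
      fin_cases i
      · exact h
      · exact h1
    refine ⟨⟨!![0, -(w 1)⁻¹; w 1, 0], by simp [Matrix.det_fin_two, h1]⟩, ?_⟩
    ext i
    fin_cases i
    · simp [h]
    · simp
  · refine ⟨⟨!![w 0, 0; w 1, (w 0)⁻¹], by simp [Matrix.det_fin_two, h]⟩, ?_⟩
    ext i
    fin_cases i
    · simp
    · simp

theorem dg_fix {t : F} (ht : t ≠ 0) (ht1 : t ≠ 1) {u : Fin 2 → F}
    (h1 : (dg t ht : Matrix (Fin 2) (Fin 2) F).mulVec u = u) : u = 0 := by
  rw [dg_coe] at h1
  have a0 := congrFun h1 0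
  have a1 := congrFun h1 1
  simp [Matrix.mulVec, dotProduct, Fin.sum_univ_two] at a0 a1
  have ht1' : t - 1 ≠ 0 := sub_ne_zero.2 ht1
  have ht2 : t⁻¹ - 1 ≠ 0 := by
    intro h
    apply ht1
    have h2 : t⁻¹ = 1 := sub_eq_zero.1 h
    rwa [inv_eq_one] at h2
  ext i
  fin_cases i
  · have h : (t - 1) * u 0 = 0 := by linear_combination a0
    exact (mul_eq_zero.1 h).resolve_left ht1'
  · have h : (t⁻¹ - 1) * u 1 = 0 := by linear_combination a1
    exact (mul_eq_zero.1 h).resolve_left ht2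

theorem sl_torus (hF : 2 < Fintype.card F) {w : Fin 2 → F} (hw : w ≠ 0) :
    ∃ (s : SL(2, F)) (t : F), (s : Matrix (Fin 2) (Fin 2) F).mulVec w = t • w ∧
      (∀ v, (s : Matrix (Fin 2) (Fin 2) F).mulVec v = v → v = 0) ∧ s ^ (Fintype.card F - 1) = 1 := by
  classical
  obtain ⟨P, hP⟩ := exists_basis hw
  obtain ⟨t, ht0, ht1⟩ : ∃ t : F, t ≠ 0 ∧ t ≠ 1 := by
    by_contra hcon
    push Not at hcon
    have h1 : (Finset.univ : Finset F) ⊆ {0, 1} := by
      intro t _
      by_cases h : t = 0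
      · simp [h]
      · simp [hcon t h]
    have h2 := Finset.card_le_card h1
    rw [Finset.card_univ] at h2
    have h3 := Finset.card_le_two (a := (0 : F)) (b := 1)
    omega
  have hPP : ∀ v : Fin 2 → F, ((P⁻¹ : SL(2, F)) : Matrix (Fin 2) (Fin 2) F).mulVec
      ((P : Matrix (Fin 2) (Fin 2) F).mulVec v) = v := by
    intro v
    rw [Matrix.mulVec_mulVec, ← Matrix.SpecialLinearGroup.coe_mul, inv_mul_cancel,
      Matrix.SpecialLinearGroup.coe_one, Matrix.one_mulVec]
  have hPP' : ∀ v : Fin 2 → F, (P : Matrix (Fin 2) (Fin 2) F).mulVec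
      (((P⁻¹ : SL(2, F)) : Matrix (Fin 2) (Fin 2) F).mulVec v) = v := by
    intro v
    rw [Matrix.mulVec_mulVec, ← Matrix.SpecialLinearGroup.coe_mul, mul_inv_cancel,
      Matrix.SpecialLinearGroup.coe_one, Matrix.one_mulVec]
  have hs : ∀ v : Fin 2 → F, ((P * dg t ht0 * P⁻¹ : SL(2, F)) : Matrix (Fin 2) (Fin 2) F).mulVec v =
      (P : Matrix (Fin 2) (Fin 2) F).mulVec ((dg t ht0 : Matrix (Fin 2) (Fin 2) F).mulVec
        (((P⁻¹ : SL(2, F)) : Matrix (Fin 2) (Fin 2) F).mulVec v)) := by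
    intro v
    rw [Matrix.SpecialLinearGroup.coe_mul, Matrix.SpecialLinearGroup.coe_mul, ← Matrix.mulVec_mulVec,
      ← Matrix.mulVec_mulVec]
  refine ⟨P * dg t ht0 * P⁻¹, t, ?_, ?_, ?_⟩
  · rw [hs]
    conv_lhs => rw [← hP, hPP]
    have h1 : (dg t ht0 : Matrix (Fin 2) (Fin 2) F).mulVec ![1, 0] = t • ![1, 0] := by
      rw [dg_coe]
      ext i
      fin_cases i
      · simp
      · simp
    rw [h1, Matrix.mulVec_smul, hP]
  · intro v hv
    rw [hs] at hv
    set u := ((P⁻¹ : SL(2, F)) : Matrix (Fin 2) (Fin 2) F).mulVec v with hu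
    have h1 : (dg t ht0 : Matrix (Fin 2) (Fin 2) F).mulVec u = u := by
      rw [← hPP ((dg t ht0 : Matrix (Fin 2) (Fin 2) F).mulVec u), hv]
    have h2 : u = 0 := dg_fix ht0 ht1 h1
    rw [← hPP' v, ← hu, h2, Matrix.mulVec_zero]
  · rw [conj_pow]
    have h1 : dg t ht0 ^ (Fintype.card F - 1) = 1 := by
      apply Subtype.ext
      rw [dg_pow, FiniteField.pow_card_sub_one_eq_one t ht0,
        FiniteField.pow_card_sub_one_eq_one t⁻¹ (inv_ne_zero ht0)]
      exact (Matrix.one_fin_two).symm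
    rw [h1, mul_one, mul_inv_cancel]

/-- a matrix fixing two independent vectors -/
theorem sl_eq_one {s : SL(2, F)} {w z : Fin 2 → F} (h1 : (s : Matrix (Fin 2) (Fin 2) F).mulVec w = w)
    (h2 : (s : Matrix (Fin 2) (Fin 2) F).mulVec z = z) (h : w 0 * z 1 - w 1 * z 0 ≠ 0) : s = 1 := by
  have a0 := congrFun h1 0
  have a1 := congrFun h1 1
  have b0 := congrFun h2 0
  have b1 := congrFun h2 1
  simp only [Matrix.mulVec, dotProduct, Fin.sum_univ_two] at a0 a1 b0 b1
  have e00 : ((s : Matrix (Fin 2) (Fin 2) F) 0 0 - 1) * (w 0 * z 1 - w 1 * z 0) = 0 := by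
    linear_combination z 1 * a0 - w 1 * b0
  have e01 : ((s : Matrix (Fin 2) (Fin 2) F) 0 1) * (w 0 * z 1 - w 1 * z 0) = 0 := by
    linear_combination w 0 * b0 - z 0 * a0
  have e10 : ((s : Matrix (Fin 2) (Fin 2) F) 1 0) * (w 0 * z 1 - w 1 * z 0) = 0 := by
    linear_combination z 1 * a1 - w 1 * b1
  have e11 : ((s : Matrix (Fin 2) (Fin 2) F) 1 1 - 1) * (w 0 * z 1 - w 1 * z 0) = 0 := by
    linear_combination w 0 * b1 - z 0 * a1
  apply Subtype.ext
  rw [Matrix.SpecialLinearGroup.coe_one, Matrix.one_fin_two]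
  ext i j
  fin_cases i <;> fin_cases j
  · exact sub_eq_zero.1 ((mul_eq_zero.1 e00).resolve_right h)
  · exact (mul_eq_zero.1 e01).resolve_right h
  · exact (mul_eq_zero.1 e10).resolve_right h
  · exact sub_eq_zero.1 ((mul_eq_zero.1 e11).resolve_right h)

theorem exists_smul {w z : Fin 2 → F} (hw : w ≠ 0) (h : w 0 * z 1 - w 1 * z 0 = 0) : ∃ c : F, z = c • w := by
  by_cases h0 : w 0 = 0
  · have h1 : w 1 ≠ 0 := by
      intro h1
      apply hw
      ext i
      fin_cases i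
      · exact h0
      · exact h1
    refine ⟨z 1 / w 1, ?_⟩
    ext i
    fin_cases i
    · show z 0 = z 1 / w 1 * w 0
      rw [h0, mul_zero]
      rw [h0, zero_mul, zero_sub, neg_eq_zero] at h
      exact (mul_eq_zero.1 h).resolve_left h1
    · show z 1 = z 1 / w 1 * w 1
      rw [div_mul_cancel₀ _ h1]
  · refine ⟨z 0 / w 0, ?_⟩
    ext i
    fin_cases i
    · show z 0 = z 0 / w 0 * w 0
      rw [div_mul_cancel₀ _ h0]
    · show z 1 = z 0 / w 0 * w 1
      field_simp
      linear_combination h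

end torus

section

variable {p : ℕ} [hp : Fact p.Prime] {H V : Type*} [Group H] [Finite H] [AddCommGroup V] [Finite V]
  [DistribMulAction H V]

/-- fixed vectors of a member, in coordinates -/
theorem PQ.fx_coord {A B : Subgroup H} (pq : PQ p V A B) {F : Type} [Field F] [Fintype F]
    (ρ : ↥(A ⊔ B) ≃* Matrix.SpecialLinearGroup (Fin 2) F) (Ψ : V →+ (Fin 2 → F)) (h1 : Function.Surjective Ψ)
    (h2 : ∀ v, Ψ v = 0 ↔ v ∈ fx V (A ⊔ B)) (h3 : ∀ (h : ↥(A ⊔ B)) (v : V),
      Ψ ((h : H) • v) = ((ρ h : Matrix.SpecialLinearGroup (Fin 2) F) : Matrix (Fin 2) (Fin 2) F).mulVec (Ψ v))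
    (h4 : Fintype.card F = Nat.card A) {u : V} (hu : u ∈ fx V A) (hu1 : u ∉ fx V (A ⊔ B)) {v : V} {t : F}
    (hv : Ψ v = t • Ψ u) : v ∈ fx V A := by
  classical
  have hw : Ψ u ≠ 0 := fun h => hu1 ((h2 u).1 h)
  -- the line
  let S : AddSubgroup V :=
    { carrier := {v | ∃ t : F, Ψ v = t • Ψ u}
      zero_mem' := ⟨0, by rw [map_zero, zero_smul]⟩
      add_mem' := by
        rintro x y ⟨a, ha⟩ ⟨b, hb⟩
        exact ⟨a + b, by rw [map_add, ha, hb, add_smul]⟩
      neg_mem' := by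
        rintro x ⟨a, ha⟩
        exact ⟨-a, by rw [map_neg, ha, neg_smul]⟩ }
  have hle : fx V A ≤ S := by
    intro x hx
    obtain ⟨a, ha1⟩ := Subgroup.ne_bot_iff_exists_ne_one.1 ((Subgroup.one_lt_card_iff_ne_bot A).1 pq.one_lt)
    by_contra hxS
    apply ha1
    have hdet : (Ψ u) 0 * (Ψ x) 1 - (Ψ u) 1 * (Ψ x) 0 ≠ 0 := by
      intro h
      obtain ⟨c, hc⟩ := exists_smul hw h
      exact hxS ⟨c, hc⟩
    let a' : ↥(A ⊔ B) := ⟨a, Subgroup.mem_sup_left a.2⟩
    have e1 : ρ a' = 1 := by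
      refine sl_eq_one (w := Ψ u) (z := Ψ x) ?_ ?_ hdet
      · rw [← h3]
        show Ψ ((a : H) • u) = _
        rw [hu a a.2]
      · rw [← h3]
        show Ψ ((a : H) • x) = _
        rw [hx a a.2]
    have e2 : a' = 1 := by rw [← ρ.map_one] at e1; exact ρ.injective e1
    exact Subtype.ext (congrArg (fun z : ↥(A ⊔ B) => (z : H)) e2)
  have hcard : Nat.card S ≤ Nat.card (fx V A) := by
    rw [pq.sp.cA, ← fx_sup]
    let f : S → F × fx V (A ⊔ B) := fun x => 
      (x.2.choose, ⟨(x : V) - (h1 (x.2.choose • Ψ u)).choose, by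
        rw [← h2, map_sub, (h1 (x.2.choose • Ψ u)).choose_spec, ← x.2.choose_spec, sub_self]⟩)
    have hf : Function.Injective f := by
      intro x y hxy
      have e1 : x.2.choose = y.2.choose := congrArg Prod.fst hxy
      have e2 : (x : V) - (h1 (x.2.choose • Ψ u)).choose = (y : V) - (h1 (y.2.choose • Ψ u)).choose :=
        congrArg (fun z : F × fx V (A ⊔ B) => (z.2 : V)) hxy
      rw [e1] at e2
      exact Subtype.ext (sub_left_injective e2)
    have := Nat.card_le_card_of_injective f hf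
    rwa [Nat.card_prod, Nat.card_eq_fintype_card (α := F), h4] at this
  have hS : fx V A = S := AddSubgroup.eq_of_le_of_card_ge hle hcard
  rw [hS]
  exact ⟨t, hv⟩

variable {T M : Subgroup H} (sit : Sit p V T M) (wd : Wd p H V) (fam : Fam p (offs p H V))

include sit wd fam

theorem exists_torus {X : Subgroup H} (hX : X ∈ AT p V T) (hq : 2 < Nat.card X) :
    ∃ h ∈ LX p V T X, cg h X = X ∧ (∀ v : V, h • v = v → v ∈ fx V (LX p V T X)) ∧
      ∃ n : ℕ, n.Coprime p ∧ h ^ n = 1 := by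
  obtain ⟨Z, hZ, hne, _⟩ := at_exZ sit wd fam hX
  have hXW := at_self sit wd fam hX
  have pq := at_pq sit wd fam hX hXW hZ hne.symm
  have hL := at_lx sit wd fam hX hXW hZ hne.symm
  obtain ⟨F, i1, i2, ρ, Ψ, h1, h2, h3, h4⟩ := pq.main
  obtain ⟨u, hu, huZ⟩ := pq.symm.exists_fx
  have huL : u ∉ fx V (X ⊔ Z) := fun h => huZ (fx_anti le_sup_right h)
  have hw : Ψ u ≠ 0 := fun h => huL ((h2 u).1 h)
  obtain ⟨s, t, s1, s2, s3⟩ := sl_torus (by rw [h4]; exact hq) hw
  set h := ρ.symm s with hh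
  have hρ : ρ h = s := ρ.apply_symm_apply s
  have hhu : (h : H) • u ∈ fx V X := by
    apply pq.fx_coord ρ Ψ h1 h2 h3 h4 hu huL (t := t)
    rw [h3, hρ, s1]
  refine ⟨h, by rw [hL]; exact h.2, ?_, ?_, Fintype.card F - 1, ?_, ?_⟩
  · by_contra hcon
    have hhN : (h : H) ∈ normalizer ((DX p V T X : Subgroup H) : Set H) := by
      apply (at_cmL sit wd fam hX).le_nz
      rw [hL]; exact h.2
    have hW := wm_cg hXW hhN
    have hL' := at_lx sit wd fam hX hXW hW (fun e => hcon e.symm)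
    apply huL
    have e1 : (h : H) • u ∈ fx V (LX p V T X) := by
      rw [hL', fx_sup]
      refine ⟨hhu, ?_⟩
      show (h : H) • u ∈ fx V (cg (h : H) X)
      rw [mem_fx_cg, inv_smul_smul]
      exact hu
    rw [hL] at e1
    have e2 := e1 (h : H)⁻¹ (inv_mem h.2)
    rw [inv_smul_smul] at e2
    rw [e2]; exact e1
  · intro v hv
    rw [hL, ← h2]
    apply s2
    rw [← hρ, ← h3, hv]
  · rw [h4]
    obtain ⟨k, hk⟩ := IsPGroup.iff_card.1 hX.1.1
    have hk0 : k ≠ 0 := by
      rintro rfl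
      rw [pow_zero] at hk
      omega
    rw [Nat.coprime_comm, hp.out.coprime_iff_not_dvd]
    intro hd
    have h5 : p ∣ Nat.card X := by rw [hk]; exact dvd_pow_self p hk0
    have h6 : p ∣ 1 := by
      have := Nat.dvd_sub h5 hd
      have e : Nat.card X - (Nat.card X - 1) = 1 := by omega
      rwa [e] at this
    exact hp.out.one_lt.ne' (Nat.dvd_one.1 h6)
  · have e1 : ρ (h ^ (Fintype.card F - 1)) = 1 := by rw [map_pow, hρ, s3]
    have e2 : h ^ (Fintype.card F - 1) = 1 := by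
      rw [← ρ.map_one] at e1; exact ρ.injective e1
    exact congrArg (fun z : ↥(X ⊔ Z) => (z : H)) e2

/-- **the line groups act trivially on each other's complements** -/
theorem big_comm {X Y : Subgroup H} (hX : X ∈ AT p V T) (hY : Y ∈ AT p V T) (hne : X ≠ Y) (hq : 2 < Nat.card X) :
    ∀ l ∈ LX p V T Y, ∀ v : V, l • v - v ∈ fx V (LX p V T X) := by
  obtain ⟨h, hhL, hhX, hhfix, n, hn, hhn⟩ := exists_torus sit wd fam hX hq
  have hYX : Cm (LX p V T X) Y := at_cm' sit wd fam hX hY hne.symm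
  have hhY : ∀ y ∈ Y, h * y = y * h := fun y hy => hYX h hhL y hy
  -- `h` normalizes all members of `T`
  have hAT : ∀ W ∈ AT p V T, cg h W = W := by
    intro W hW
    by_cases hWX : W = X
    · rw [hWX]; exact hhX
    · exact mem_nz_iff.1 ((at_cm' sit wd fam hX hW hWX).le_nz hhL)
  have hhD : cg h (DX p V T Y) = DX p V T Y := by
    unfold DX
    rw [sSup_cg]
    congr 1
    ext W
    constructor
    · rintro ⟨W', hW', rfl⟩
      rw [hAT W' hW'.1]; exact hW'
    · intro hW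
      exact ⟨W, hW, hAT W hW.1⟩
  have hhN : h ∈ normalizer ((DX p V T Y : Subgroup H) : Set H) := mem_nz_iff.2 hhD
  obtain ⟨Z, hZ, hZY, _⟩ := at_exZ sit wd fam hY
  have hYW := at_self sit wd fam hY
  have pq := at_pq sit wd fam hY hYW hZ hZY.symm
  have hL := at_lx sit wd fam hY hYW hZ hZY.symm
  have hYZ : Y ⊓ Z = ⊥ := wd.inf_bot hYW.1 hZ.1 hZY.symm
  have hYnZ : ¬ Y ≤ Z := by
    intro h1
    rw [inf_eq_left.2 h1] at hYZ
    exact hYW.1.2.2.1 hYZ
  have hZnY : ¬ Z ≤ Y := by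
    intro h1
    rw [inf_eq_right.2 h1] at hYZ
    exact hZ.1.2.2.1 hYZ
  have hcgY : cg h Y = Y := hAT Y hY
  -- `h` normalizes `Z`
  have hcgZ : cg h Z = Z := by
    rcases at_ln sit wd fam hY hYW hZ hZY.symm (wm_cg hZ hhN) with h1 | ⟨a, ha, h1⟩
    · exfalso
      apply hZY
      rw [← hcgY] at h1
      exact cg_inj.1 h1
    · have hpow : ∀ k : ℕ, cg (h ^ k) Z = cg (a ^ k) Z := by
        intro k
        induction k with
        | zero => rw [pow_zero, pow_zero]
        | succ k ih =>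
          rw [pow_succ, pow_succ', ← cg_cg, ← cg_cg, h1, ← ih, cg_cg, cg_cg]
          congr 1
          have hc : Commute h a := hhY a ha
          exact (hc.pow_left k).eq
      have h2 := hpow n
      rw [hhn, cg_one] at h2
      have h3 : a ^ n = 1 := by
        by_contra h4
        have h5 := pq.genA (a ^ n) (pow_mem ha n) h4
        rw [← h2, sup_idem] at h5
        apply hYnZ
        rw [h5]; exact le_sup_left
      have h4 : a = 1 := by
        obtain ⟨k, hk⟩ := (IsPGroup.iff_orderOf.1 hYW.1.1) ⟨a, ha⟩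
        rw [Subgroup.orderOf_mk] at hk
        have h5 : orderOf a ∣ n := orderOf_dvd_of_pow_eq_one h3
        rw [hk] at h5
        have h6 : p ^ k = 1 := Nat.Coprime.eq_one_of_dvd (Nat.Coprime.pow_left k hn.symm) h5
        rw [h6] at hk
        exact orderOf_eq_one_iff.1 hk
      rw [h1, h4, cg_one]
  have hcgW : ∀ W ∈ Wm p H V (DX p V T Y), cg h W = W := by
    intro W hW
    rcases at_ln sit wd fam hY hYW hZ hZY.symm hW with rfl | ⟨b, hb, rfl⟩
    · exact hcgY
    · rw [cg_cg, hhY b hb, ← cg_cg, hcgZ]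
  have hhZ : ∀ z ∈ Z, h * z = z * h := by
    intro z hz
    have hz' : h * z * h⁻¹ ∈ Z := by
      rw [← hcgZ, mem_cg]
      have e : h⁻¹ * (h * z * h⁻¹) * h = z := by group
      rw [e]; exact hz
    have hzL : z ∈ normalizer ((DX p V T Y : Subgroup H) : Set H) := hZ.2.1 hz
    have h1 : cg (h * z * h⁻¹) Y = cg z Y := by
      rw [← cg_cg, ← cg_cg]
      have e1 : cg h⁻¹ Y = Y := by
        conv_lhs => rw [← hcgY]
        rw [cg_inv_cg]
      rw [e1, hcgW _ (wm_cg hYW hzL)]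
    have h2 : z⁻¹ * (h * z * h⁻¹) = 1 := by
      by_contra h3
      have h4 := pq.genB _ (mul_mem (inv_mem hz) hz') h3
      rw [← cg_cg, h1, cg_inv_cg, sup_idem] at h4
      apply hZnY
      rw [h4]; exact le_sup_right
    have e : h * z = z * (z⁻¹ * (h * z * h⁻¹)) * h := by group
    rw [e, h2, mul_one]
  have hhL' : ∀ l ∈ LX p V T Y, h * l = l * h := by
    intro l hl
    have h1 : LX p V T Y ≤ centralizer ({h} : Set H) := by
      rw [hL]
      apply sup_le
      · intro y hy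
        rw [mem_centralizer_iff]
        rintro _ rfl
        exact hhY y hy
      · intro z hz
        rw [mem_centralizer_iff]
        rintro _ rfl
        exact hhZ z hz
    exact mem_centralizer_iff.1 (h1 hl) h rfl
  set U := fx V (LX p V T X) with hU
  have hUinv : ∀ l ∈ LX p V T Y, ∀ v ∈ U, l • v ∈ U := by
    intro l hl v hv
    apply hhfix
    rw [← mul_smul, hhL' l hl, mul_smul, hv h hhL]
  obtain ⟨ZX, hZX, hZXne, _⟩ := at_exZ sit wd fam hX
  have hXW := at_self sit wd fam hX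
  have hLX' := at_lx sit wd fam hX hXW hZX hZXne.symm
  have kY : ∀ y ∈ Y, ∀ v : V, y • v - v ∈ U := by
    intro y hy v
    rw [hU, hLX', fx_sup]
    refine ⟨wd.cmt_le hY.1 hX.1 ?_ y hy v, wd.cmt_le hY.1 hZX.1 ?_ y hy v⟩
    · exact (hYX.mono (le_sSup hXW) le_rfl).symm
    · exact (hYX.mono (le_sSup hZX) le_rfl).symm
  have kZ : ∀ z ∈ Z, ∀ v : V, z • v - v ∈ U := by
    intro z hz v
    obtain ⟨l, hl, hlZ⟩ := pq.conj
    have hl' : l ∈ LX p V T Y := by rw [hL]; exact hl
    have h1 : l⁻¹ * z * l ∈ Y := by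
      rw [hlZ] at hz
      exact mem_cg.1 hz
    have h2 := hUinv l hl' _ (kY _ h1 (l⁻¹ • v))
    rw [smul_sub, ← mul_smul, ← mul_smul, ← mul_smul] at h2
    have e1 : l * (l⁻¹ * z * l) * l⁻¹ = z := by group
    rw [e1, mul_inv_cancel, one_smul] at h2
    exact h2
  let K : Subgroup H :=
    { carrier := {g | g ∈ LX p V T Y ∧ ∀ v : V, g • v - v ∈ U}
      one_mem' := ⟨one_mem _, fun v => by rw [one_smul, sub_self]; exact AddSubgroup.zero_mem _⟩
      mul_mem' := by
        rintro g g' ⟨hg, hg'⟩ ⟨hk, hk'⟩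
        refine ⟨mul_mem hg hk, fun v => ?_⟩
        have e : (g * g') • v - v = g • (g' • v - v) + (g • v - v) := by rw [mul_smul, smul_sub]; abel
        rw [e]
        exact AddSubgroup.add_mem _ (hUinv g hg _ (hk' v)) (hg' v)
      inv_mem' := by
        rintro g ⟨hg, hg'⟩
        refine ⟨inv_mem hg, fun v => ?_⟩
        have e : g⁻¹ • v - v = -(g⁻¹ • (g • v - v)) := by rw [smul_sub, inv_smul_smul]; abel
        rw [e]
        exact AddSubgroup.neg_mem _ (hUinv g⁻¹ (inv_mem hg) _ (hg' v)) }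
  have hK : LX p V T Y ≤ K := by
    conv_lhs => rw [hL]
    apply sup_le
    · intro y hy
      exact ⟨by rw [hL]; exact Subgroup.mem_sup_left hy, kY y hy⟩
    · intro z hz
      exact ⟨by rw [hL]; exact Subgroup.mem_sup_right hz, kZ z hz⟩
  intro l hl v
  exact (hK hl).2 v

end

end H51.OG
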