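import Cfsg.Agent.Lib.H51.BauBasic
import Cfsg.Agent.Lib.H51.OffBig

/-!
Irreducibility of the natural modules of blocks.
-/

set_option autoImplicit false
set_option linter.unusedSectionVars false
set_option linter.unusedVariables false

namespace H51.Bau

open Subgroup Cfsg H51.FF H51.OG H52.PRes H52.PCore H53.PU
open scoped commutatorElement MatrixGroups

section sl

variable {F : Type*} [Field F] [Fintype F]

/-- every element of `SL₂(F)` is an upper unipotent modulo the derived subgroup -/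
theorem exists_up (g : SL(2, F)) : ∃ s : F, g * H85.SL2.up s ∈ commutator SL(2, F) := by
  let a : SL(2, F) →* Abelianization SL(2, F) := Abelianization.of
  have hker : ∀ x : SL(2, F), a x = 1 ↔ x ∈ commutator SL(2, F) := by
    intro x
    rw [← Abelianization.ker_of, MonoidHom.mem_ker]
  let U : Subgroup (Abelianization SL(2, F)) :=
    { carrier := {y | ∃ s : F, y = a (H85.SL2.up s)}
      one_mem' := ⟨0, by rw [H85.SL2.up_zero, map_one]⟩
      mul_mem' := by
        rintro _ _ ⟨s, rfl⟩ ⟨t, rfl⟩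
        exact ⟨s + t, by rw [H85.SL2.up_add, map_mul]⟩
      inv_mem' := by
        rintro _ ⟨s, rfl⟩
        exact ⟨-s, by rw [← map_inv, H85.SL2.up_inv]⟩ }
  have hU : ∀ g : SL(2, F), a g ∈ U := by
    intro g
    have hg : g ∈ lowerUnipotentSL2 F ⊔ upperUnipotentSL2 F := by
      rw [H85.SL2.sup_eq_top]; exact Subgroup.mem_top g
    have hle : lowerUnipotentSL2 F ⊔ upperUnipotentSL2 F ≤ U.comap a := by
      apply sup_le
      · intro x hx
        obtain ⟨t, rfl⟩ := H85.SL2.mem_lower.1 hx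
        refine ⟨-t, ?_⟩
        have h1 := wo_up (F := F) (-t)
        rw [neg_neg] at h1
        rw [← h1, map_mul, map_mul, map_inv, mul_comm (a wo), mul_inv_cancel_right]
      · intro x hx
        obtain ⟨t, rfl⟩ := H85.SL2.mem_upper.1 hx
        exact ⟨t, rfl⟩
    exact hle hg
  obtain ⟨s, hs⟩ := hU g
  refine ⟨-s, ?_⟩
  rw [← hker, map_mul, hs, ← H85.SL2.up_inv, map_inv, mul_inv_cancel]

/-- the derived subgroup is transitive on nonzero vectors -/
theorem exists_comm {v w : Fin 2 → F} (hv : v ≠ 0) (hw : w ≠ 0) :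
    ∃ r ∈ commutator SL(2, F), (r : Matrix (Fin 2) (Fin 2) F).mulVec v = w := by
  obtain ⟨P, hP⟩ := exists_basis hv
  obtain ⟨Q, hQ⟩ := exists_basis hw
  obtain ⟨s, hs⟩ := exists_up (P⁻¹ * Q)
  have h1 : P * (P⁻¹ * Q * H85.SL2.up s) * P⁻¹ ∈ commutator SL(2, F) :=
    Subgroup.Normal.conj_mem inferInstance _ hs P
  refine ⟨_, h1, ?_⟩
  have e : P * (P⁻¹ * Q * H85.SL2.up s) * P⁻¹ = Q * H85.SL2.up s * P⁻¹ := by group
  have hPP : ((P⁻¹ : SL(2, F)) : Matrix (Fin 2) (Fin 2) F).mulVec v = ![1, 0] := by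
    rw [← hP, Matrix.mulVec_mulVec, ← Matrix.SpecialLinearGroup.coe_mul, inv_mul_cancel,
      Matrix.SpecialLinearGroup.coe_one, Matrix.one_mulVec]
  rw [e, Matrix.SpecialLinearGroup.coe_mul, Matrix.SpecialLinearGroup.coe_mul, ← Matrix.mulVec_mulVec, hPP,
    ← Matrix.mulVec_mulVec, H85.SL2.up_coe]
  have h2 : (!![1, s; 0, 1] : Matrix (Fin 2) (Fin 2) F).mulVec ![1, 0] = ![1, 0] := by
    ext i
    fin_cases i
    · simp
    · simp
  rw [h2, hQ]

end sl

section perm

variable {n : ℕ}

theorem single_pair (M : AddSubgroup (Fin n → ZMod 2))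
    (hM : ∀ σ ∈ alternatingGroup (Fin n), ∀ v ∈ M, (fun i => v (σ⁻¹ i)) ∈ M) {a b : Fin n} (hab : a ≠ b)
    (h : Pi.single a 1 + Pi.single b 1 ∈ M) (c : Fin n) : (Pi.single a 1 + Pi.single c 1 : Fin n → ZMod 2) ∈ M := by
  classical
  have h2 : ∀ x : ZMod 2, x + x = 0 := by decide
  by_cases hca : c = a
  · rw [hca]
    have : (Pi.single a 1 + Pi.single a 1 : Fin n → ZMod 2) = 0 := by
      ext i; exact h2 _
    rw [this]; exact M.zero_mem
  by_cases hcb : c = b
  · rw [hcb]; exact h
  -- the 3-cycle sending `a` to `c`, `b` to `a`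
  have h3 : Equiv.swap a b * Equiv.swap b c ∈ alternatingGroup (Fin n) := by
    rw [Equiv.Perm.mem_alternatingGroup, map_mul, Equiv.Perm.sign_swap hab, Equiv.Perm.sign_swap (fun h => hcb h.symm)]
    rfl
  have key : ∀ σ : Equiv.Perm (Fin n), ∀ x : Fin n, (fun i => (Pi.single x 1 : Fin n → ZMod 2) (σ⁻¹ i)) = Pi.single (σ x) 1 := by
    intro σ x
    ext i
    by_cases hi : i = σ x
    · have h0 : σ⁻¹ (σ x) = x := σ.symm_apply_apply x
      rw [hi, Pi.single_eq_same, h0, Pi.single_eq_same]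
    · rw [Pi.single_eq_of_ne hi, Pi.single_eq_of_ne]
      intro h
      apply hi
      rw [← h]
      exact (σ.apply_symm_apply i).symm
  -- sends `b ↦ c`, `c ↦ b ↦ a`..., compute
  have h4 := hM _ h3 _ h
  have e1 : (fun i => (Pi.single a 1 + Pi.single b 1 : Fin n → ZMod 2) ((Equiv.swap a b * Equiv.swap b c)⁻¹ i)) =
      Pi.single ((Equiv.swap a b * Equiv.swap b c) a) 1 + Pi.single ((Equiv.swap a b * Equiv.swap b c) b) 1 := by
    rw [← key, ← key]
    rfl
  rw [e1, Equiv.Perm.mul_apply, Equiv.Perm.mul_apply, Equiv.swap_apply_of_ne_of_ne hab (fun h => hca h.symm),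
    Equiv.swap_apply_left, Equiv.swap_apply_left, Equiv.swap_apply_of_ne_of_ne hca hcb] at h4
  -- `e_b + e_c ∈ M`
  have h5 := M.add_mem h h4
  have e2 : (Pi.single a 1 + Pi.single b 1 + (Pi.single b 1 + Pi.single c 1) : Fin n → ZMod 2) =
      Pi.single a 1 + Pi.single c 1 := by
    ext i
    simp only [Pi.add_apply]
    have := h2 ((Pi.single b 1 : Fin n → ZMod 2) i)
    linear_combination this
  rwa [e2] at h5

/-- the even weight module is irreducible for the alternating group, `n` odd -/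
theorem even_irr (hn : Odd n) (M : AddSubgroup (Fin n → ZMod 2))
    (hM : ∀ σ ∈ alternatingGroup (Fin n), ∀ v ∈ M, (fun i => v (σ⁻¹ i)) ∈ M)
    {v : Fin n → ZMod 2} (hv : v ∈ M) (hv0 : v ≠ 0) (hvs : ∑ i, v i = 0) {w : Fin n → ZMod 2} (hw : ∑ i, w i = 0) :
    w ∈ M := by
  classical
  have h2 : ∀ x : ZMod 2, x + x = 0 := by decide
  have h01 : ∀ x : ZMod 2, x = 0 ∨ x = 1 := by decide
  obtain ⟨a, ha⟩ : ∃ a, v a = 1 := by
    by_contra hcon
    push Not at hcon
    apply hv0
    ext i
    exact (h01 (v i)).resolve_right (hcon i)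
  obtain ⟨b, hb⟩ : ∃ b, v b = 0 := by
    by_contra hcon
    push Not at hcon
    have h1 : ∑ i, v i = ∑ i : Fin n, (1 : ZMod 2) :=
      Finset.sum_congr rfl fun i _ => (h01 (v i)).resolve_left (hcon i)
    rw [hvs, Finset.sum_const, Finset.card_univ, Fintype.card_fin, nsmul_eq_mul, mul_one] at h1
    obtain ⟨k, hk⟩ := hn
    rw [hk] at h1
    push_cast at h1
    have h3 : (2 : ZMod 2) = 0 := by decide
    rw [h3, zero_mul, zero_add] at h1
    exact zero_ne_one h1
  obtain ⟨c, hca, hc⟩ : ∃ c, c ≠ a ∧ v c = 1 := by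
    by_contra hcon
    push Not at hcon
    have h1 : ∑ i, v i = v a := Finset.sum_eq_single a
      (fun i _ hi => (h01 (v i)).resolve_right (hcon i hi)) (fun h => absurd (Finset.mem_univ a) h)
    rw [hvs, ha] at h1
    exact zero_ne_one h1
  have hab : a ≠ b := by
    rintro rfl
    rw [ha] at hb
    exact one_ne_zero hb
  have hcb : c ≠ b := by
    rintro rfl
    rw [hc] at hb
    exact one_ne_zero hb
  -- 3-cycle on a, c, b
  have h3 : Equiv.swap a c * Equiv.swap c b ∈ alternatingGroup (Fin n) := by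
    rw [Equiv.Perm.mem_alternatingGroup, map_mul, Equiv.Perm.sign_swap hca.symm, Equiv.Perm.sign_swap hcb]
    rfl
  have h4 := M.add_mem hv (hM _ h3 _ hv)
  have e1 : v + (fun i => v ((Equiv.swap a c * Equiv.swap c b)⁻¹ i)) = Pi.single b 1 + Pi.single a 1 := by
    ext i
    simp only [Pi.add_apply, mul_inv_rev, Equiv.swap_inv, Equiv.Perm.mul_apply]
    by_cases hia : i = a
    · rw [hia, Equiv.swap_apply_left, Equiv.swap_apply_left, Pi.single_eq_of_ne hab, Pi.single_eq_same, ha, hb]
      rfl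
    · by_cases hic : i = c
      · rw [hic, Equiv.swap_apply_right, Equiv.swap_apply_of_ne_of_ne hca.symm hab, hc, ha,
          Pi.single_eq_of_ne hcb, Pi.single_eq_of_ne hca]
        decide
      · by_cases hib : i = b
        · rw [hib, Equiv.swap_apply_of_ne_of_ne hab.symm hcb.symm, Equiv.swap_apply_right, hb, hc,
            Pi.single_eq_same, Pi.single_eq_of_ne hab.symm]
          decide
        · rw [Equiv.swap_apply_of_ne_of_ne hia hic, Equiv.swap_apply_of_ne_of_ne hic hib, h2,
            Pi.single_eq_of_ne hib, Pi.single_eq_of_ne hia, add_zero]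
  rw [e1] at h4
  have h5 := single_pair M hM hab.symm h4
  -- `w = ∑ w i (e_b + e_i)`
  have h6 : w = ∑ i, (if w i = 1 then (Pi.single b 1 + Pi.single i 1 : Fin n → ZMod 2) else 0) := by
    have h7 : ∀ i, (if w i = 1 then (Pi.single b 1 + Pi.single i 1 : Fin n → ZMod 2) else 0) =
        Pi.single b (w i) + Pi.single i (w i) := by
      intro i
      rcases h01 (w i) with h | h
      · rw [h, if_neg (by decide)]
        simp
      · rw [h, if_pos rfl]
    rw [Finset.sum_congr rfl fun i _ => h7 i, Finset.sum_add_distrib]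
    have h8 : ∑ i, (Pi.single b (w i) : Fin n → ZMod 2) = 0 := by
      ext j
      rw [Finset.sum_apply]
      by_cases hj : j = b
      · rw [hj]
        simp only [Pi.single_eq_same]
        exact hw
      · simp only [Pi.single_eq_of_ne hj, Finset.sum_const_zero, Pi.zero_apply]
    rw [h8, zero_add]
    exact (Finset.univ_sum_single w).symm
  rw [h6]
  apply M.sum_mem
  intro i _
  split_ifs
  · exact h5 i
  · exact M.zero_mem

end perm

end H51.Bau
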