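import Cfsg.Agent.Lib.H51.BauBlock

/-!
`SL₂(F)`, characteristic 3: invariant forms and subgroups normalized by the derived subgroup.
-/

set_option autoImplicit false
set_option linter.unusedSectionVars false
set_option linter.unusedVariables false

namespace H51.Bau

open Subgroup Cfsg H51.FF H51.OG H52.PRes H52.PCore H53.PU
open scoped commutatorElement MatrixGroups

section sl

variable {F : Type*} [Field F] [Fintype F]

theorem comm_top (hF : 5 < Fintype.card F) : commutator SL(2, F) = ⊤ := by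
  classical
  -- an element with `s ^ 4 ≠ 1`
  obtain ⟨s, hs0, hs4⟩ : ∃ s : F, s ≠ 0 ∧ s ^ 4 ≠ 1 := by
    by_contra hcon
    push Not at hcon
    have h1 : (Polynomial.X ^ 5 - Polynomial.X : Polynomial F) = 0 := by
      apply Polynomial.eq_zero_of_natDegree_lt_card_of_eval_eq_zero _ (Function.injective_id (α := F))
      · intro i
        simp only [id, Polynomial.eval_sub, Polynomial.eval_pow, Polynomial.eval_X]
        by_cases h0 : i = 0
        · rw [h0]; ring
        · have := hcon i h0
          calc i ^ 5 - i = i * (i ^ 4 - 1) := by ring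
            _ = 0 := by rw [this]; ring
      · have : (Polynomial.X ^ 5 - Polynomial.X : Polynomial F).natDegree ≤ 5 := by
          refine (Polynomial.natDegree_sub_le _ _).trans ?_
          rw [Polynomial.natDegree_X_pow, Polynomial.natDegree_X]
          decide
        omega
    have h2 := congrArg (fun f => Polynomial.coeff f 5) h1
    simp [Polynomial.coeff_X] at h2
  have hs2 : s ^ 2 ≠ 1 := by
    intro h
    apply hs4
    calc s ^ 4 = (s ^ 2) ^ 2 := by ring
      _ = 1 := by rw [h]; ring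
  apply sl_normal (commutator SL(2, F)) inferInstance (t := s ^ 2 - 1) (sub_ne_zero.2 hs2)
  have h := Subgroup.commutator_mem_commutator (Subgroup.mem_top (dg s hs0)) (Subgroup.mem_top (H85.SL2.up (1 : F)))
  rw [commutatorElement_def, dg_up, H85.SL2.up_inv, ← H85.SL2.up_add] at h
  rw [mul_one, ← sub_eq_add_neg] at h
  exact h

/-- a normal subgroup of `SL₂(F)`, `|F| > 5`, which is not central is everything -/
theorem sl_normal_or (hF : 5 < Fintype.card F) (J : Subgroup SL(2, F)) (hJ : J.Normal) {g : SL(2, F)} (hg : g ∈ J)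
    (h1 : g ≠ 1) (h2 : g ≠ -1) : J = ⊤ := by
  classical
  obtain ⟨s, hs0, hs4⟩ : ∃ s : F, s ≠ 0 ∧ s ^ 4 ≠ 1 := by
    by_contra hcon
    push Not at hcon
    have h1 : (Polynomial.X ^ 5 - Polynomial.X : Polynomial F) = 0 := by
      apply Polynomial.eq_zero_of_natDegree_lt_card_of_eval_eq_zero _ (Function.injective_id (α := F))
      · intro i
        simp only [id, Polynomial.eval_sub, Polynomial.eval_pow, Polynomial.eval_X]
        by_cases h0 : i = 0
        · rw [h0]; ring
        · have := hcon i h0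
          calc i ^ 5 - i = i * (i ^ 4 - 1) := by ring
            _ = 0 := by rw [this]; ring
      · have : (Polynomial.X ^ 5 - Polynomial.X : Polynomial F).natDegree ≤ 5 := by
          refine (Polynomial.natDegree_sub_le _ _).trans ?_
          rw [Polynomial.natDegree_X_pow, Polynomial.natDegree_X]
          decide
        omega
    have h2 := congrArg (fun f => Polynomial.coeff f 5) h1
    simp [Polynomial.coeff_X] at h2
  -- a vector which is not an eigenvector
  obtain ⟨v, hv⟩ : ∃ v : Fin 2 → F, v 0 * (g.1.mulVec v) 1 - v 1 * (g.1.mulVec v) 0 ≠ 0 := by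
    by_contra hcon
    push Not at hcon
    have e1 := hcon ![1, 0]
    have e2 := hcon ![0, 1]
    have e3 := hcon ![1, 1]
    have hd := g.2
    rw [Matrix.det_fin_two] at hd
    simp [Matrix.mulVec, dotProduct, Fin.sum_univ_two] at e1 e2 e3
    have e4 : g.1 1 1 = g.1 0 0 := by linear_combination e3 - e1 + e2
    have e5 : g.1 0 0 * g.1 0 0 = 1 := by rw [e4, e1] at hd; linear_combination hd
    rcases mul_self_eq_one_iff.1 e5 with h | h
    · apply h1
      apply Subtype.ext
      ext i j
      fin_cases i <;> fin_cases j <;> simp [e1, e2, e4, h]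
    · apply h2
      apply Subtype.ext
      ext i j
      fin_cases i <;> fin_cases j <;> simp [e1, e2, e4, h]
  -- the basis `v, g v`
  set w := g.1.mulVec v with hw
  set δ := v 0 * w 1 - v 1 * w 0 with hδ
  let P : SL(2, F) := ⟨!![v 0, w 0 / δ; v 1, w 1 / δ], by
    rw [Matrix.det_fin_two_of]
    field_simp
    rw [hδ]; ring⟩
  -- `g P = P m`
  set m := P⁻¹ * g * P with hm
  have hmJ : m ∈ J := by
    have := hJ.conj_mem g hg P⁻¹
    rwa [inv_inv] at this
  have hm0 : m.1 0 0 = 0 := by
    have e : P * m = g * P := by rw [hm]; group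
    have hc : ∀ i, (g * P).1 i 0 = w i := by
      intro i
      rw [hw]
      show ((g * P : SL(2, F)) : Matrix (Fin 2) (Fin 2) F) i 0 = _
      rw [Matrix.SpecialLinearGroup.coe_mul, Matrix.mul_apply, Fin.sum_univ_two]
      simp [P, Matrix.mulVec, dotProduct, Fin.sum_univ_two]
    have hm' : m = P⁻¹ * (g * P) := by rw [hm]; group
    rw [hm', Matrix.SpecialLinearGroup.coe_mul, Matrix.mul_apply, Fin.sum_univ_two, hc, hc]
    rw [Matrix.SpecialLinearGroup.coe_inv, Matrix.adjugate_fin_two]
    simp only [P, Matrix.of_apply, Matrix.cons_val', Matrix.cons_val_zero, Matrix.cons_val_one, Matrix.cons_val_fin_one]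
    ring
  have hmd := m.2
  rw [Matrix.det_fin_two, hm0, zero_mul, zero_sub] at hmd
  -- the commutator with the torus
  have hn : m⁻¹ * (dg s hs0 * m * (dg s hs0)⁻¹) ∈ J := mul_mem (inv_mem hmJ) (hJ.conj_mem _ hmJ _)
  set N := m⁻¹ * (dg s hs0 * m * (dg s hs0)⁻¹) with hN
  have hb : m.1 0 1 * m.1 1 0 = -1 := by linear_combination -hmd
  have hNv : (N : Matrix (Fin 2) (Fin 2) F) = !![(s⁻¹) ^ 2, m.1 1 1 * m.1 0 1 * (s ^ 2 - 1); 0, s ^ 2] := by
    have hm11 : (m : Matrix (Fin 2) (Fin 2) F) = !![0, m.1 0 1; m.1 1 0, m.1 1 1] := by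
      ext i j
      fin_cases i <;> fin_cases j <;> simp [hm0]
    have hmi : ((m⁻¹ : SL(2, F)) : Matrix (Fin 2) (Fin 2) F) = !![m.1 1 1, -m.1 0 1; -m.1 1 0, 0] := by
      rw [Matrix.SpecialLinearGroup.coe_inv, Matrix.adjugate_fin_two, hm0]
    have hdi : (((dg s hs0)⁻¹ : SL(2, F)) : Matrix (Fin 2) (Fin 2) F) = !![s⁻¹, 0; 0, s] := by
      rw [Matrix.SpecialLinearGroup.coe_inv, Matrix.adjugate_fin_two, dg_coe]
      simp
    rw [hN, Matrix.SpecialLinearGroup.coe_mul, Matrix.SpecialLinearGroup.coe_mul, Matrix.SpecialLinearGroup.coe_mul,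
      hmi, hdi, dg_coe, hm11]
    generalize hB : m.1 0 1 = B at hb ⊢
    generalize hC : m.1 1 0 = C at hb ⊢
    generalize hD : m.1 1 1 = D at hb ⊢
    simp only [Matrix.mul_fin_two]
    have hs : s * s⁻¹ = 1 := mul_inv_cancel₀ hs0
    ext i j
    fin_cases i <;> fin_cases j
    · simp
      linear_combination (-(s⁻¹) ^ 2 : F) * hb
    · simp
      linear_combination (-(D * B) : F) * hs
    · simp
    · simp
      linear_combination (-s ^ 2 : F) * hb
  have hu : H85.SL2.up (1 : F) * (N * (H85.SL2.up (1 : F))⁻¹ * N⁻¹) ∈ J := by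
    have : H85.SL2.up (1 : F) * (N * (H85.SL2.up (1 : F))⁻¹ * N⁻¹) =
        (H85.SL2.up (1 : F) * N * (H85.SL2.up (1 : F))⁻¹) * N⁻¹ := by group
    rw [this]
    exact mul_mem (hJ.conj_mem _ hn _) (inv_mem hn)
  have hu2 : H85.SL2.up (1 : F) * (N * (H85.SL2.up (1 : F))⁻¹ * N⁻¹) = H85.SL2.up (1 - (s⁻¹) ^ 4) := by
    clear_value N
    rw [← mul_assoc, mul_inv_eq_iff_eq_mul, H85.SL2.up_inv]
    apply Matrix.SpecialLinearGroup.ext
    have h3 : ((H85.SL2.up (1 : F) * (N * H85.SL2.up (-1 : F)) : SL(2, F)) : Matrix (Fin 2) (Fin 2) F) =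
        ((H85.SL2.up (1 - (s⁻¹) ^ 4) * N : SL(2, F)) : Matrix (Fin 2) (Fin 2) F) := by
      rw [Matrix.SpecialLinearGroup.coe_mul, Matrix.SpecialLinearGroup.coe_mul, Matrix.SpecialLinearGroup.coe_mul, hNv,
        H85.SL2.up_coe, H85.SL2.up_coe, H85.SL2.up_coe]
      simp only [Matrix.mul_fin_two]
      ext i j
      fin_cases i <;> fin_cases j <;> simp
      field_simp
      ring
    intro i j
    exact congrFun (congrFun h3 i) j
  rw [hu2] at hu
  refine sl_normal J hJ (t := 1 - (s⁻¹) ^ 4) ?_ hu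
  intro h
  apply hs4
  have h3 : (s⁻¹) ^ 4 = 1 := by linear_combination -h
  rw [inv_pow, inv_eq_one] at h3
  exact h3

end sl

end H51.Bau
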