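import Cfsg.Agent.Lib.H51.BauSL

/-!
`SL₂(F)`, characteristic 3: invariant forms and subgroups normalized by the derived subgroup.
-/

set_option autoImplicit false
set_option linter.unusedSectionVars false
set_option linter.unusedVariables false

namespace H51.Bau

open Subgroup Cfsg H51.FF H51.OG H52.PRes H52.PCore H53.PU
open scoped commutatorElement MatrixGroups

section sl

variable {F : Type*} [Field F] [Fintype F]

/-- the symplectic form -/
def dt (a b : Fin 2 → F) : F := a 0 * b 1 - a 1 * b 0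

theorem dt_mulVec (g : SL(2, F)) (a b : Fin 2 → F) :
    dt ((g : Matrix (Fin 2) (Fin 2) F).mulVec a) ((g : Matrix (Fin 2) (Fin 2) F).mulVec b) = dt a b := by
  have hd := g.2
  rw [Matrix.det_fin_two] at hd
  simp only [dt, Matrix.mulVec, dotProduct, Fin.sum_univ_two]
  linear_combination (a 0 * b 1 - a 1 * b 0) * hd

/-- a map preserving the form is in `SL₂` -/
theorem exists_sl (x : (Fin 2 → F) → (Fin 2 → F)) (hx : ∀ a b, dt (x a) (x b) = dt a b) :
    ∃ g : SL(2, F), ∀ a, x a = (g : Matrix (Fin 2) (Fin 2) F).mulVec a := by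
  set u := x ![1, 0] with hu
  set w := x ![0, 1] with hw
  have hd : u 0 * w 1 - u 1 * w 0 = 1 := by
    have := hx ![1, 0] ![0, 1]
    simpa [dt] using this
  let g : SL(2, F) := ⟨!![u 0, w 0; u 1, w 1], by rw [Matrix.det_fin_two_of]; linear_combination hd⟩
  refine ⟨g, fun a => ?_⟩
  have h1 := hx a ![1, 0]
  have h2 := hx a ![0, 1]
  rw [← hu] at h1
  rw [← hw] at h2
  simp only [dt, Matrix.cons_val_zero, Matrix.cons_val_one, mul_zero, mul_one, sub_zero, zero_sub] at h1 h2
  -- `x a 0 * u 1 - x a 1 * u 0 = - a 1`, `x a 0 * w 1 - x a 1 * w 0 = a 0`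
  ext i
  fin_cases i
  · simp [g, Matrix.mulVec, dotProduct, Fin.sum_univ_two]
    linear_combination u 0 * h2 - w 0 * h1 - (x a 0) * hd
  · simp [g, Matrix.mulVec, dotProduct, Fin.sum_univ_two]
    linear_combination u 1 * h2 - w 1 * h1 - (x a 1) * hd

theorem f3_cases (h3 : Fintype.card F = 3) (x : F) : x = 0 ∨ x = 1 ∨ x = -1 := by
  by_cases h0 : x = 0
  · exact Or.inl h0
  right
  have h := FiniteField.pow_card_sub_one_eq_one x h0
  rw [h3] at h
  exact mul_self_eq_one_iff.1 (by rw [← h]; ring)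

theorem card_or (hF : ∃ n, Fintype.card F = 3 ^ n) : Fintype.card F = 3 ∨ 5 < Fintype.card F := by
  obtain ⟨n, hn⟩ := hF
  rcases n with _ | _ | n
  · have := Fintype.one_lt_card (α := F)
    rw [hn, pow_zero] at this
    omega
  · left; rw [hn]; norm_num
  · right
    rw [hn]
    have : 1 ≤ 3 ^ n := Nat.one_le_pow _ _ (by norm_num)
    calc 5 < 9 * 1 := by norm_num
      _ ≤ 9 * 3 ^ n := Nat.mul_le_mul_left _ this
      _ = 3 ^ (n + 1 + 1) := by ring

theorem three_zero (hF : ∃ n, Fintype.card F = 3 ^ n) : (3 : F) = 0 := by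
  obtain ⟨n, hn⟩ := hF
  have h1 : ((3 ^ n : ℕ) : F) = 0 := by rw [← hn]; exact FiniteField.cast_card_eq_zero F
  push_cast at h1
  by_contra h3
  exact pow_ne_zero n h3 h1

/-- the invariant alternating forms -/
theorem form_eq (hF : ∃ n, Fintype.card F = 3 ^ n) {A : Type*} [AddCommGroup A] (c : (Fin 2 → F) → (Fin 2 → F) → A)
    (hl : ∀ a a' b, c (a + a') b = c a b + c a' b) (hr : ∀ a b b', c a (b + b') = c a b + c a b')
    (ha : ∀ a, c a a = 0)
    (hi : ∀ g ∈ commutator SL(2, F), ∀ a b, c ((g : Matrix (Fin 2) (Fin 2) F).mulVec a)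
      ((g : Matrix (Fin 2) (Fin 2) F).mulVec b) = c a b) :
    ∃ θ : F → A, (∀ x y, θ (x - y) = θ x - θ y) ∧ ∀ a b, c a b = θ (dt a b) := by
  have hanti : ∀ a b, c b a = - c a b := by
    intro a b
    have := ha (a + b)
    rw [hl, hr, hr, ha, ha, zero_add, add_zero] at this
    rw [add_comm] at this
    exact eq_neg_of_add_eq_zero_left this
  have hl0 : ∀ b, c 0 b = 0 := by
    intro b
    have := hl 0 0 b
    rw [add_zero] at this
    exact left_eq_add.1 this
  have hr0 : ∀ b, c b 0 = 0 := by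
    intro b
    have := hr b 0 0
    rw [add_zero] at this
    exact left_eq_add.1 this
  have hlneg : ∀ a b, c (-a) b = - c a b := by
    intro a b
    have := hl a (-a) b
    rw [add_neg_cancel, hl0] at this
    exact (neg_eq_of_add_eq_zero_right this.symm).symm
  have hrneg : ∀ a b, c a (-b) = - c a b := by
    intro a b
    rw [hanti (-b) a, hlneg, hanti a b]; simp
  set e : F → (Fin 2 → F) := fun x => ![x, 0] with he
  set f : F → (Fin 2 → F) := fun x => ![0, x] with hf
  have he_add : ∀ x y, e (x + y) = e x + e y := by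
    intro x y; ext i; fin_cases i <;> simp [e]
  have hf_add : ∀ x y, f (x + y) = f x + f y := by
    intro x y; ext i; fin_cases i <;> simp [f]
  have he_neg : ∀ x, e (-x) = - e x := by
    intro x; ext i; fin_cases i <;> simp [e]
  have hf_neg : ∀ x, f (-x) = - f x := by
    intro x; ext i; fin_cases i <;> simp [f]
  have he0 : e 0 = 0 := by ext i; fin_cases i <;> simp [e]
  have hf0 : f 0 = 0 := by ext i; fin_cases i <;> simp [f]
  have hsum : ∀ a : Fin 2 → F, a = e (a 0) + f (a 1) := by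
    intro a; ext i; fin_cases i <;> simp [e, f]
  -- the main facts
  have key : (∀ x y, c (e x) (e y) = 0) ∧ (∀ x y, c (f x) (f y) = 0) ∧ (∀ x y, c (e x) (f y) = c (e 1) (f (x * y))) := by
    rcases card_or hF with h3 | h5
    · refine ⟨fun x y => ?_, fun x y => ?_, fun x y => ?_⟩
      · rcases f3_cases h3 x with rfl | rfl | rfl <;> rcases f3_cases h3 y with rfl | rfl | rfl <;>
          simp [he0, hl0, hr0, he_neg, hlneg, hrneg, ha]
      · rcases f3_cases h3 x with rfl | rfl | rfl <;> rcases f3_cases h3 y with rfl | rfl | rfl <;>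
          simp [hf0, hl0, hr0, hf_neg, hlneg, hrneg, ha]
      · rcases f3_cases h3 x with rfl | rfl | rfl <;> rcases f3_cases h3 y with rfl | rfl | rfl <;>
          simp [he0, hf0, hl0, hr0, he_neg, hf_neg, hlneg, hrneg]
    · have htop := comm_top h5
      have hi' : ∀ (g : SL(2, F)) a b, c ((g : Matrix (Fin 2) (Fin 2) F).mulVec a)
          ((g : Matrix (Fin 2) (Fin 2) F).mulVec b) = c a b := fun g => hi g (by rw [htop]; exact Subgroup.mem_top g)
      have hup : ∀ t x, ((H85.SL2.up t : SL(2, F)) : Matrix (Fin 2) (Fin 2) F).mulVec (e x) = e x := by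
        intro t x; rw [H85.SL2.up_coe]; ext i; fin_cases i <;> simp [e]
      have hup2 : ∀ t x, ((H85.SL2.up t : SL(2, F)) : Matrix (Fin 2) (Fin 2) F).mulVec (f x) = e (t * x) + f x := by
        intro t x; rw [H85.SL2.up_coe]; ext i; fin_cases i <;> simp [e, f, mul_comm]
      have hwe : ∀ x, ((wo : SL(2, F)) : Matrix (Fin 2) (Fin 2) F).mulVec (e x) = - f x := by
        intro x; rw [wo_coe]; ext i; fin_cases i <;> simp [e, f]
      have hwf : ∀ x, ((wo : SL(2, F)) : Matrix (Fin 2) (Fin 2) F).mulVec (f x) = e x := by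
        intro x; rw [wo_coe]; ext i; fin_cases i <;> simp [e, f]
      have h1 : ∀ x y, c (e x) (e y) = 0 := by
        intro x y
        have := hi' (H85.SL2.up y) (e x) (f 1)
        rw [hup, hup2, hr, mul_one] at this
        exact left_eq_add.1 (by rw [add_comm] at this; exact this.symm)
      have h2 : ∀ x y, c (f x) (f y) = 0 := by
        intro x y
        have := hi' wo (f x) (f y)
        rw [hwf, hwf, h1] at this
        exact this.symm
      have h3 : ∀ x y, c (e x) (f y) = c (e y) (f x) := by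
        intro x y
        have := hi' wo (e x) (f y)
        rw [hwe, hwf, hlneg, hanti (e y) (f x), neg_neg] at this
        exact this.symm
      refine ⟨h1, h2, fun x y => ?_⟩
      have h4 := hi' (H85.SL2.up y) (f 1) (f x)
      rw [hup2, hup2, h2, hl, hr, hr, h1, h2, mul_one, zero_add, add_zero] at h4
      -- `c (e y) (f x) + c (f 1) (e (y x)) = 0`
      rw [hanti (e (y * x)) (f 1)] at h4
      have h5 : c (e y) (f x) = c (e (y * x)) (f 1) := by
        have := eq_neg_of_add_eq_zero_left h4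
        rwa [neg_neg] at this
      rw [h3 x y, h5, h3, mul_comm]
  obtain ⟨k1, k2, k3⟩ := key
  refine ⟨fun x => c (e 1) (f x), fun x y => ?_, fun a b => ?_⟩
  · show c (e 1) (f (x - y)) = _
    rw [sub_eq_add_neg, hf_add, hf_neg, hr, hrneg, ← sub_eq_add_neg]
  · show c a b = c (e 1) (f (dt a b))
    conv_lhs => rw [hsum a, hsum b]
    rw [hl, hr, hr, k1, k2, k3 (a 0), hanti (e (b 0)) (f (a 1)), k3 (b 0), zero_add, add_zero, dt, sub_eq_add_neg, hf_add,
      hf_neg, hr, hrneg, mul_comm (a 1)]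

theorem f3_fin (h3 : Fintype.card F = 3) (h30 : (3 : F) = 0) {a b c d : F} (hdet : a * d - b * c = 1) (k1 : a + d ≠ 0)
    (k2 : a ^ 2 + b ^ 2 + (c ^ 2 + d ^ 2) ≠ 0) (k3 : ¬ (a = 1 ∧ b = 0 ∧ c = 0 ∧ d = 1))
    (k4 : ¬ (a = -1 ∧ b = 0 ∧ c = 0 ∧ d = -1)) : False := by
  have h1 : (1 : F) ≠ 0 := one_ne_zero
  rcases f3_cases h3 a with rfl | rfl | rfl <;> rcases f3_cases h3 b with rfl | rfl | rfl <;>
    rcases f3_cases h3 c with rfl | rfl | rfl <;> rcases f3_cases h3 d with rfl | rfl | rfl <;>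
    first
      | exact k3 ⟨rfl, rfl, rfl, rfl⟩
      | exact k4 ⟨rfl, rfl, rfl, rfl⟩
      | (refine k1 ?_; ring1)
      | (refine k2 ?_; linear_combination (exp := 1) h30)
      | (refine h1 ?_; linear_combination (exp := 1) hdet)
      | (refine h1 ?_; linear_combination (exp := 1) -hdet)

/-- subgroups normalized by the derived subgroup -/
theorem eq_bot_of_nz (hF : ∃ n, Fintype.card F = 3 ^ n) (J : Subgroup SL(2, F))
    (hJ : ∀ g ∈ commutator SL(2, F), ∀ j ∈ J, g * j * g⁻¹ ∈ J) (hneg : -1 ∉ J) (hi : (⟨!![0, 1; -1, 0], by simp⟩ : SL(2, F)) ∈ commutator SL(2, F)) :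
    J = ⊥ := by
  rw [Subgroup.eq_bot_iff_forall]
  intro g hg
  by_contra hg1
  have hg2 : g ≠ -1 := fun h => hneg (h ▸ hg)
  rcases card_or hF with h3 | h5
  · have h30 := three_zero hF
    set q : SL(2, F) := ⟨!![0, 1; -1, 0], by simp⟩ with hq
    have hJ2 : g * (q * g⁻¹ * q⁻¹) ∈ J := mul_mem hg (hJ q hi _ (inv_mem hg))
    set a := g.1 0 0 with ha
    set b := g.1 0 1 with hb
    set c := g.1 1 0 with hc
    set d := g.1 1 1 with hd
    have hgm : (g : Matrix (Fin 2) (Fin 2) F) = !![a, b; c, d] := by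
      ext i j; fin_cases i <;> fin_cases j <;> rfl
    have hdet : a * d - b * c = 1 := by
      have := g.2
      rwa [Matrix.det_fin_two] at this
    have hginv : ((g⁻¹ : SL(2, F)) : Matrix (Fin 2) (Fin 2) F) = !![d, -b; -c, a] := by
      rw [Matrix.SpecialLinearGroup.coe_inv, Matrix.adjugate_fin_two]
    have hqm : (q : Matrix (Fin 2) (Fin 2) F) = !![0, 1; -1, 0] := rfl
    have hqinv : ((q⁻¹ : SL(2, F)) : Matrix (Fin 2) (Fin 2) F) = !![0, -1; 1, 0] := by
      rw [Matrix.SpecialLinearGroup.coe_inv, Matrix.adjugate_fin_two, hqm]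
      simp
    have hm : ((g * (q * g⁻¹ * q⁻¹) : SL(2, F)) : Matrix (Fin 2) (Fin 2) F) =
        !![a ^ 2 + b ^ 2, a * c + b * d; a * c + b * d, c ^ 2 + d ^ 2] := by
      rw [Matrix.SpecialLinearGroup.coe_mul, Matrix.SpecialLinearGroup.coe_mul, Matrix.SpecialLinearGroup.coe_mul, hginv,
        hqinv, hqm, hgm]
      simp only [Matrix.mul_fin_two]
      ext i j
      fin_cases i <;> fin_cases j <;> simp <;> ring
    -- three cases
    have hneg' : ∀ x : SL(2, F), x ∈ J → (x : Matrix (Fin 2) (Fin 2) F) 0 0 + (x : Matrix (Fin 2) (Fin 2) F) 1 1 = 0 → False := by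
      intro x hx htr
      apply hneg
      have : x * x = -1 := by
        apply Subtype.ext
        have hxd := x.2
        rw [Matrix.det_fin_two] at hxd
        have h11 : x.1 1 1 = - x.1 0 0 := (neg_eq_of_add_eq_zero_right htr).symm
        rw [h11] at hxd
        show ((x * x : SL(2, F)) : Matrix (Fin 2) (Fin 2) F) = ((-1 : SL(2, F)) : Matrix (Fin 2) (Fin 2) F)
        rw [Matrix.SpecialLinearGroup.coe_mul, Matrix.SpecialLinearGroup.coe_neg, Matrix.SpecialLinearGroup.coe_one]
        ext i j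
        rw [Matrix.mul_apply, Fin.sum_univ_two]
        fin_cases i <;> fin_cases j <;> simp [h11]
        · linear_combination -hxd
        · ring
        · ring
        · linear_combination -hxd
      rw [← this]
      exact mul_mem hx hx
    have k1 : a + d ≠ 0 := fun h => hneg' g hg h
    have k2 : a ^ 2 + b ^ 2 + (c ^ 2 + d ^ 2) ≠ 0 := fun h => hneg' _ hJ2 (by rw [hm]; exact h)
    have k3 : ¬ (a = 1 ∧ b = 0 ∧ c = 0 ∧ d = 1) := by
      rintro ⟨h1, h2, h3, h4⟩
      apply hg1
      apply Subtype.ext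
      rw [hgm, h1, h2, h3, h4]
      ext i j; fin_cases i <;> fin_cases j <;> simp
    have k4 : ¬ (a = -1 ∧ b = 0 ∧ c = 0 ∧ d = -1) := by
      rintro ⟨h1, h2, h3, h4⟩
      apply hg2
      apply Subtype.ext
      rw [hgm, h1, h2, h3, h4]
      ext i j; fin_cases i <;> fin_cases j <;> simp
    have h2 : (2 : F) = -1 := by linear_combination h30
    have h1 : (1 : F) ≠ 0 := one_ne_zero
    have hm1 : (-1 : F) ≠ 0 := neg_ne_zero.2 one_ne_zero
    have hm2 : (-1 : F) ≠ 1 := by
      intro h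
      apply h1
      linear_combination h30 + h
    exact f3_fin h3 h30 hdet k1 k2 k3 k4
  · have htop := comm_top h5
    have hn : J.Normal := ⟨fun j hj g => hJ g (by rw [htop]; exact Subgroup.mem_top g) j hj⟩
    have := sl_normal_or h5 J hn hg hg1 hg2
    apply hneg
    rw [this]
    exact Subgroup.mem_top _

/-- the quaternion generators -/
def qi : SL(2, F) := ⟨!![0, 1; -1, 0], by simp⟩

theorem qj_aux (h3 : (3 : F) = 0) : (!![1, 1; 1, -1] : Matrix (Fin 2) (Fin 2) F).det = 1 := by
  rw [Matrix.det_fin_two_of]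
  linear_combination -h3

def qj (h3 : (3 : F) = 0) : SL(2, F) := ⟨!![1, 1; 1, -1], qj_aux h3⟩

theorem sl_ext {a b : SL(2, F)} (h : (a : Matrix (Fin 2) (Fin 2) F) = b) : a = b := Subtype.ext h

theorem qi_coe : ((qi : SL(2, F)) : Matrix (Fin 2) (Fin 2) F) = !![0, 1; -1, 0] := rfl
theorem qj_coe (h3 : (3 : F) = 0) : ((qj h3 : SL(2, F)) : Matrix (Fin 2) (Fin 2) F) = !![1, 1; 1, -1] := rfl

theorem qi_sq : (qi : SL(2, F)) * qi = -1 := by
  apply sl_ext
  rw [Matrix.SpecialLinearGroup.coe_mul, qi_coe, Matrix.SpecialLinearGroup.coe_neg, Matrix.SpecialLinearGroup.coe_one]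
  ext i j
  fin_cases i <;> fin_cases j <;> simp

theorem qj_sq (h3 : (3 : F) = 0) : qj h3 * qj h3 = -1 := by
  apply sl_ext
  rw [Matrix.SpecialLinearGroup.coe_mul, qj_coe, Matrix.SpecialLinearGroup.coe_neg, Matrix.SpecialLinearGroup.coe_one]
  ext i j
  fin_cases i <;> fin_cases j <;> simp
  · linear_combination h3
  · linear_combination h3

theorem qij (h3 : (3 : F) = 0) : qi * qj h3 = - (qj h3 * qi) := by
  apply sl_ext
  rw [Matrix.SpecialLinearGroup.coe_neg, Matrix.SpecialLinearGroup.coe_mul, Matrix.SpecialLinearGroup.coe_mul, qj_coe, qi_coe]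
  ext i j
  fin_cases i <;> fin_cases j <;> simp

theorem up_qi (h3 : (3 : F) = 0) : H85.SL2.up (1 : F) * qi = - (qj h3) * H85.SL2.up (1 : F) := by
  apply sl_ext
  rw [Matrix.SpecialLinearGroup.coe_mul, Matrix.SpecialLinearGroup.coe_mul, Matrix.SpecialLinearGroup.coe_neg, qj_coe, qi_coe,
    H85.SL2.up_coe]
  ext i j
  fin_cases i <;> fin_cases j <;> simp
  linear_combination h3

theorem up_qj (h3 : (3 : F) = 0) : H85.SL2.up (1 : F) * qj h3 = (qj h3 * qi) * H85.SL2.up (1 : F) := by
  apply sl_ext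
  rw [Matrix.SpecialLinearGroup.coe_mul, Matrix.SpecialLinearGroup.coe_mul, Matrix.SpecialLinearGroup.coe_mul, qj_coe, qi_coe,
    H85.SL2.up_coe]
  ext i j
  fin_cases i <;> fin_cases j <;> simp
  · linear_combination h3
  · linear_combination -h3

theorem qi_inv : (qi : SL(2, F))⁻¹ = -qi := by
  rw [inv_eq_iff_mul_eq_one, mul_neg, qi_sq, neg_neg]

theorem q_mem (h3 : (3 : F) = 0) : qi ∈ commutator SL(2, F) ∧ qj h3 ∈ commutator SL(2, F) := by
  have hn : (commutator SL(2, F)).Normal := inferInstance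
  set u := H85.SL2.up (1 : F) with hu
  have h1 : qj h3 * qi ∈ commutator SL(2, F) := by
    have h := Subgroup.commutator_mem_commutator (Subgroup.mem_top u) (Subgroup.mem_top (qi : SL(2, F)))
    rw [commutatorElement_def, up_qi h3, mul_assoc (-qj h3), mul_inv_cancel, mul_one, qi_inv, neg_mul_neg] at h
    exact h
  have h2 : qj h3 ∈ commutator SL(2, F) := by
    have h := hn.conj_mem _ h1 u⁻¹
    have e : u⁻¹ * (qj h3 * qi) * u⁻¹⁻¹ = qj h3 := by
      rw [inv_inv, mul_assoc, ← up_qj h3, inv_mul_cancel_left]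
    rwa [e] at h
  refine ⟨?_, h2⟩
  have := mul_mem (inv_mem h2) h1
  rwa [inv_mul_cancel_left] at this

end sl

end H51.Bau
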