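import Cfsg.Agent.Lib.H51.FFPair
import Cfsg.Agent.Lib.H13.SylowN
import Cfsg.Agent.Lib.H51.SylowAmb

/-!
`p`-minimal groups generated by two conjugates of a minimal offender: module version.
-/

set_option autoImplicit false

namespace H51.FF

open Subgroup H53.PU
open scoped MatrixGroups

/-- the situation -/
structure PM (p : ℕ) {H : Type*} (V : Type*) [Group H] [AddCommGroup V] [DistribMulAction H V]
    (T M A : Subgroup H) : Prop where
  pz : ∀ v : V, p • v = 0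
  faith : ∀ h : H, (∀ v : V, h • v = v) → h = 1
  pgT : IsPGroup p T
  Mne : M ≠ ⊤
  TM : T ≤ M
  huniq : ∀ N : Subgroup H, N ≠ ⊤ → T ≤ N → N ≤ M
  AT : A ≤ T
  comm : ∀ a ∈ A, ∀ b ∈ A, a * b = b * a
  ff : Nat.card V ≤ Nat.card A * Nat.card (fx V A)
  strict : ∀ Z ≤ A, Z ≠ ⊥ → Z ≠ A → vl V Z < vl V A
  cen : ∃ w ∈ fx V T, w ∉ fx V (⊤ : Subgroup H)
  gen : ∀ x ∉ M, A ⊔ cg x A = ⊤

section

variable {p : ℕ} {H V : Type*} [Group H] [AddCommGroup V] [DistribMulAction H V]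

theorem fx_top_le (B : Subgroup H) : fx V (⊤ : Subgroup H) ≤ fx V B := fx_anti le_top

theorem fx_top_smul {v : V} (g : H) (h : v ∈ fx V (⊤ : Subgroup H)) : g • v = v := h g (Subgroup.mem_top g)

theorem fx_top_smul_iff {v : V} (g : H) : g • v ∈ fx V (⊤ : Subgroup H) ↔ v ∈ fx V (⊤ : Subgroup H) := by
  constructor
  · intro h
    have h1 := fx_top_smul g⁻¹ h
    rw [inv_smul_smul] at h1
    rw [h1]; exact h
  · intro h
    rw [fx_top_smul g h]; exact h

theorem inv_mul_not_mem {g h : H} {M : Subgroup H} (hgh : g⁻¹ * h ∉ M) : h⁻¹ * g ∉ M := by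
  intro h1
  apply hgh
  have := inv_mem h1
  rwa [mul_inv_rev, inv_inv] at this

variable {T M A : Subgroup H} (pm : PM p V T M A)

include pm

theorem PM.exists_nM : ∃ x : H, x ∉ M := by
  by_contra hcon
  push Not at hcon
  exact pm.Mne (eq_top_iff.2 fun x _ => hcon x)

theorem PM.A_ne : A ≠ ⊥ := by
  intro h
  obtain ⟨x, hx⟩ := pm.exists_nM
  have h1 := pm.gen x hx
  have h2 : cg x A = ⊥ := by rw [h]; exact Subgroup.map_bot _
  rw [h2, h, sup_bot_eq] at h1
  have h3 : x ∈ (⊥ : Subgroup H) := h1 ▸ Subgroup.mem_top x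
  rw [Subgroup.mem_bot] at h3
  exact hx (h3 ▸ one_mem _)

theorem PM.pgA : IsPGroup p A := pm.pgT.to_le pm.AT

theorem PM.one_lt [Finite H] : 1 < Nat.card A := by
  rw [Subgroup.one_lt_card_iff_ne_bot]
  exact pm.A_ne

theorem PM.gen' {g h : H} (hgh : g⁻¹ * h ∉ M) : cg g A ⊔ cg h A = ⊤ := by
  have e : h = g * (g⁻¹ * h) := by group
  rw [e, ← cg_cg, ← cg_sup, pm.gen _ hgh, cg_top]

theorem PM.sep {g h : H} (hgh : g⁻¹ * h ∉ M) {v : V} (h1 : v ∈ fx V (cg g A)) (h2 : v ∈ fx V (cg h A)) :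
    v ∈ fx V (⊤ : Subgroup H) := by
  rw [← pm.gen' hgh, fx_sup]
  exact ⟨h1, h2⟩

theorem PM.sep1 {h : H} (hh : h ∉ M) {v : V} (h1 : v ∈ fx V A) (h2 : v ∈ fx V (cg h A)) :
    v ∈ fx V (⊤ : Subgroup H) := by
  rw [← pm.gen _ hh, fx_sup]
  exact ⟨h1, h2⟩

/-- witness vectors -/
theorem PM.wit (h : H) : ∃ w ∈ fx V (cg h T), w ∉ fx V (⊤ : Subgroup H) := by
  obtain ⟨w, hw, hw1⟩ := pm.cen
  refine ⟨h • w, ?_, ?_⟩
  · rw [mem_fx_cg, inv_smul_smul]; exact hw
  · rw [fx_top_smul_iff]; exact hw1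

theorem PM.fxT_le (h : H) : fx V (cg h T) ≤ fx V (cg h A) := fx_anti (Subgroup.map_mono pm.AT)

variable [hp : Fact p.Prime] [Finite H] [Finite V]

/-- `A` is quadratic -/
theorem PM.quad : ∀ a ∈ A, ∀ v : V, a • v - v ∈ fx V A := by
  classical
  have hV : PV p V := by
    obtain ⟨i1⟩ : Nonempty (Module (ZMod p) V) := ⟨AddCommGroup.zmodModule pm.pz⟩
    exact ⟨_, by rw [Module.natCard_eq_pow_finrank (K := ZMod p) (V := V), Nat.card_zmod]⟩
  have hbot : vl V (⊥ : Subgroup H) = Nat.card V := by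
    unfold vl
    have : fx V (⊥ : Subgroup H) = ⊤ := by
      rw [eq_top_iff]
      intro v _ a ha
      rw [Subgroup.mem_bot.1 ha, one_smul]
    rw [this, Subgroup.card_bot, one_mul]
    exact AddSubgroup.card_top
  have hmax : ∀ Z ≤ A, vl V Z ≤ vl V A := by
    intro Z hZ
    by_cases h1 : Z = ⊥
    · rw [h1, hbot]; exact pm.ff
    by_cases h2 : Z = A
    · rw [h2]
    exact (pm.strict Z hZ h1 h2).le
  obtain ⟨h1, h2⟩ := timm pm.comm hmax rfl
  set B := bs A (Set.univ : Set V) with hB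
  have hBA : B ≤ A := fun b hb => hb.1
  have hB1 : B ≠ ⊥ := by
    intro h3
    rw [h3] at h2
    refine exists_not_mem (X := fx V A) (W := cmt V A) hV pm.pgA le_rfl ?_ (fun t ht v => sub_mem_cmt ht v) ?_
      (fun U hU => cmt_le hU)
    · intro h4
      apply pm.A_ne
      rw [eq_bot_iff]
      intro t ht
      rw [Subgroup.mem_bot]
      apply pm.faith
      intro v
      exact h4 (AddSubgroup.mem_top v) t ht
    · rw [eq_top_iff]
      intro v _
      apply h2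
      intro a ha
      rw [Subgroup.mem_bot.1 ha, one_smul]
  have hBA' : B = A := by
    by_contra hne
    have := pm.strict B hBA hB1 hne
    rw [h1] at this
    exact lt_irrefl _ this
  intro a ha v
  rw [← hBA'] at ha
  exact ha.2 v (Set.mem_univ v)

theorem PM.off : Off p (Nat.card A) V A :=
  ⟨rfl, pm.pgA, pm.comm, pm.quad, pm.ff⟩

end

section

variable {H V : Type*} [Group H] [Finite H] [AddCommGroup V] [Finite V]

theorem card_mul_le_of_inj (C U : AddSubgroup V) (hCU : C ≤ U) {A A₁ : Subgroup H} (hA₁ : A₁ ≤ A) (f : H → V)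
    (hf : ∀ a ∈ A, f a ∈ U) (hinj : ∀ a ∈ A, ∀ b ∈ A, f a - f b ∈ C → b⁻¹ * a ∈ A₁) :
    Nat.card A * Nat.card C ≤ Nat.card A₁ * Nat.card U := by
  classical
  let Q := A ⧸ A₁.subgroupOf A
  have h1 : Function.Injective (fun x : Q × C => (⟨f ((x.1.out : A) : H) + (x.2 : V),
      AddSubgroup.add_mem _ (hf _ (x.1.out : A).2) (hCU x.2.2)⟩ : U)) := by
    rintro ⟨x, c⟩ ⟨y, d⟩ h
    have h2 : f ((x.out : A) : H) + (c : V) = f ((y.out : A) : H) + (d : V) := congrArg Subtype.val h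
    have h3 : f ((x.out : A) : H) - f ((y.out : A) : H) = (d : V) - c := by
      rw [sub_eq_sub_iff_add_eq_add, h2, add_comm]
    have h4 := hinj _ (x.out : A).2 _ (y.out : A).2 (by rw [h3]; exact AddSubgroup.sub_mem _ d.2 c.2)
    have h5 : y = x := by
      rw [← QuotientGroup.out_eq' y, ← QuotientGroup.out_eq' x, QuotientGroup.eq, Subgroup.mem_subgroupOf]
      exact h4
    subst h5
    have h6 : (c : V) = d := add_left_cancel h2
    rw [Subtype.ext h6]
  have h2 := Nat.card_le_card_of_injective _ h1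
  rw [Nat.card_prod] at h2
  have h3 : Nat.card A = Nat.card Q * Nat.card A₁ := by
    rw [Subgroup.card_eq_card_quotient_mul_card_subgroup (A₁.subgroupOf A),
      Nat.card_congr (Subgroup.subgroupOfEquivOfLe hA₁).toEquiv]
  calc Nat.card A * Nat.card C = Nat.card A₁ * (Nat.card Q * Nat.card C) := by rw [h3]; ring
    _ ≤ _ := Nat.mul_le_mul_left _ h2

end

section

variable {p : ℕ} [hp : Fact p.Prime] {H V : Type*} [Group H] [Finite H] [AddCommGroup V] [Finite V]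
  [DistribMulAction H V] {T : Sylow p H} {M A : Subgroup H} (pm : PM p V (T : Subgroup H) M A)

include pm

omit [Finite V] in
/-- the normal core of `M` meets `T` in a normal subgroup -/
theorem PM.core_inf_normal : ((T : Subgroup H) ⊓ M.normalCore).Normal := by
  by_contra hcon
  have h1 : normalizer ((((T : Subgroup H) ⊓ M.normalCore : Subgroup H)) : Set H) ≠ ⊤ := by
    intro h
    exact hcon (Subgroup.normalizer_eq_top_iff.1 h)
  have h2 : (T : Subgroup H) ≤ normalizer ((((T : Subgroup H) ⊓ M.normalCore : Subgroup H)) : Set H) := by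
    intro t ht
    rw [Subgroup.mem_normalizer_iff]
    intro x
    rw [Subgroup.mem_inf, Subgroup.mem_inf]
    constructor
    · rintro ⟨h3, h4⟩
      exact ⟨mul_mem (mul_mem ht h3) (inv_mem ht), Subgroup.Normal.conj_mem inferInstance x h4 t⟩
    · rintro ⟨h3, h4⟩
      have e : x = t⁻¹ * (t * x * t⁻¹) * t⁻¹⁻¹ := by group
      rw [e]
      exact ⟨mul_mem (mul_mem (inv_mem ht) h3) (inv_mem (inv_mem ht)), Subgroup.Normal.conj_mem inferInstance _ h4 t⁻¹⟩
  have h3 := pm.huniq _ h1 h2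
  have h4 := H13.SylowN.frattini T M.normalCore
  have h5 : (⊤ : Subgroup H) ≤ M := by
    rw [← h4]
    exact sup_le h3 (Subgroup.normalCore_le M)
  exact pm.Mne (eq_top_iff.2 h5)

omit [Finite V] in
theorem PM.normal_le {K : Subgroup H} (hK : K.Normal) (hKp : IsPGroup p K) : K ≤ T := by
  obtain ⟨S, hS⟩ := hKp.exists_le_sylow
  obtain ⟨g, rfl⟩ := MulAction.exists_smul_eq H T S
  intro k hk
  have h1 := hS (hK.conj_mem k hk g)
  rw [Sylow.coe_subgroup_smul] at h1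
  have h2 := mem_cg.1 h1
  have e : g⁻¹ * (g * k * g⁻¹) * g = k := by group
  rwa [e] at h2

/-- bijectivity of the commutator map -/
theorem PM.step4 {a : H} (ha : a ∈ A) {x' : H} (hx' : x'⁻¹ * a * x' ∉ M) {y : V} (hy : y ∈ fx V A) :
    ∃ w ∈ fx V (cg x' A), ∃ c ∈ fx V (⊤ : Subgroup H), y = a • w - w + c := by
  classical
  have hinj : ∀ w ∈ fx V (cg x' A), a • w - w ∈ fx V (⊤ : Subgroup H) → w ∈ fx V (⊤ : Subgroup H) := by
    intro w hw hc
    rw [← fx_top_smul_iff a]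
    refine pm.sep (g := x') (h := a * x') ?_ ?_ ?_
    · have e : x'⁻¹ * (a * x') = x'⁻¹ * a * x' := by group
      rw [e]; exact hx'
    · have e : a • w = (a • w - w) + w := by abel
      rw [e]
      exact AddSubgroup.add_mem _ (fx_top_le _ hc) hw
    · rw [← cg_cg, mem_fx_cg, inv_smul_smul]; exact hw
  -- count
  let Y' := fx V (cg x' A)
  let C := fx V (⊤ : Subgroup H)
  let φ : Y' →+ (V ⧸ C) := 
    { toFun := fun w => QuotientAddGroup.mk (a • (w : V) - w)
      map_zero' := by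
        show (QuotientAddGroup.mk (a • (0 : V) - 0) : V ⧸ C) = 0
        rw [smul_zero, sub_zero]; rfl
      map_add' := by
        intro u w
        show (QuotientAddGroup.mk (a • ((u : V) + w) - (u + w)) : V ⧸ C) = 
          QuotientAddGroup.mk (a • (u : V) - u) + QuotientAddGroup.mk (a • (w : V) - w)
        rw [← QuotientAddGroup.mk_add]
        congr 1
        rw [smul_add]; abel }
  let ψ : fx V A →+ (V ⧸ C) := (QuotientAddGroup.mk' C).comp (AddSubgroup.subtype _)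
  have h1 : φ.range ≤ ψ.range := by
    rintro _ ⟨w, rfl⟩
    exact ⟨⟨_, pm.quad a ha w⟩, rfl⟩
  have hcY : Nat.card Y' = Nat.card (fx V A) := card_fx_cg _ _
  have h2 : Nat.card φ.ker * Nat.card φ.range = Nat.card Y' := by
    have := AddSubgroup.card_mul_index φ.ker
    rwa [AddSubgroup.index_ker] at this
  have h3 : Nat.card ψ.ker * Nat.card ψ.range = Nat.card (fx V A) := by
    have := AddSubgroup.card_mul_index ψ.ker
    rwa [AddSubgroup.index_ker] at this
  have hφ : ∀ w : Y', w ∈ φ.ker → (w : V) ∈ C := by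
    intro w hw
    exact hinj _ w.2 ((QuotientAddGroup.eq_zero_iff _).1 (AddMonoidHom.mem_ker.1 hw))
  have h4 : Nat.card φ.ker ≤ Nat.card ψ.ker := by
    apply Nat.card_le_card_of_injective (fun w : φ.ker => (⟨⟨((w : Y') : V), fx_top_le _ (hφ _ w.2)⟩,
      AddMonoidHom.mem_ker.2 ((QuotientAddGroup.eq_zero_iff _).2 (hφ _ w.2))⟩ : ψ.ker))
    intro u w h
    have h5 : (((u : Y') : V)) = w := congrArg (fun z : ψ.ker => ((z : fx V A) : V)) h
    exact Subtype.ext (Subtype.ext h5)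
  have h5 : Nat.card ψ.range ≤ Nat.card φ.range := by
    have h6 : Nat.card ψ.ker * Nat.card ψ.range ≤ Nat.card ψ.ker * Nat.card φ.range := by
      rw [h3, ← hcY, ← h2]
      exact Nat.mul_le_mul_right _ h4
    exact Nat.le_of_mul_le_mul_left h6 Nat.card_pos
  have h6 : φ.range = ψ.range := AddSubgroup.eq_of_le_of_card_ge h1 h5
  have h7 : (QuotientAddGroup.mk y : V ⧸ C) ∈ φ.range := by
    rw [h6]; exact ⟨⟨y, hy⟩, rfl⟩
  obtain ⟨w, hw⟩ := h7
  have h8 : (QuotientAddGroup.mk (a • (w : V) - w) : V ⧸ C) = QuotientAddGroup.mk y := hw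
  rw [QuotientAddGroup.eq] at h8
  exact ⟨w, w.2, _, h8, by abel⟩

/-- every `h` moves vectors into `Y ⊔ Y'` -/
theorem PM.sub_mem {x' : H} (hx' : x' ∉ M) (h : H) (v : V) : h • v - v ∈ fx V A ⊔ fx V (cg x' A) := by
  set U := fx V A ⊔ fx V (cg x' A) with hU
  let K : Subgroup H :=
    { carrier := {h | ∀ v : V, h • v - v ∈ U}
      one_mem' := fun v => by rw [one_smul, sub_self]; exact AddSubgroup.zero_mem _
      mul_mem' := by
        intro g h hg hh v
        have e : (g * h) • v - v = (g • (h • v) - h • v) + (h • v - v) := by rw [mul_smul]; abel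
        rw [e]
        exact AddSubgroup.add_mem _ (hg _) (hh v)
      inv_mem' := by
        intro g hg v
        have e : g⁻¹ • v - v = -(g • (g⁻¹ • v) - g⁻¹ • v) := by rw [smul_inv_smul]; abel
        rw [e]
        exact AddSubgroup.neg_mem _ (hg _) }
  have h1 : A ⊔ cg x' A ≤ K := by
    apply sup_le
    · intro a ha v
      exact AddSubgroup.mem_sup_left (pm.quad a ha v)
    · intro a ha v
      exact AddSubgroup.mem_sup_right ((pm.off.cg x').quad a ha v)
  rw [pm.gen x' hx'] at h1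
  exact h1 (Subgroup.mem_top h) v

/-- all conjugates of `fx V A` lie in `Y ⊔ Y'` -/
theorem PM.conj_le {x' : H} (hx' : x' ∉ M) (x : H) : fx V (cg x A) ≤ fx V A ⊔ fx V (cg x' A) := by
  intro v hv
  rw [mem_fx_cg] at hv
  have e : v = (x • (x⁻¹ • v) - x⁻¹ • v) + x⁻¹ • v := by rw [smul_inv_smul]; abel
  rw [e]
  exact AddSubgroup.add_mem _ (pm.sub_mem hx' _ _) (AddSubgroup.mem_sup_left hv)

/-- (★) -/
theorem PM.star {a : H} (ha : a ∈ A) (haN : a ∉ M.normalCore) {x : H} (hx : x ∉ M) {w : V}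
    (hw : w ∈ fx V (cg x A)) (hc : a • w - w ∈ fx V (⊤ : Subgroup H)) : w ∈ fx V (⊤ : Subgroup H) := by
  obtain ⟨x', hx'⟩ : ∃ x' : H, x'⁻¹ * a * x' ∉ M := by
    by_contra hcon
    push Not at hcon
    apply haN
    intro g
    have := hcon g⁻¹
    rwa [inv_inv] at this
  have hx'M : x' ∉ M := by
    intro h
    exact hx' (mul_mem (mul_mem (inv_mem h) (pm.TM (pm.AT ha))) h)
  obtain ⟨y, hy, y', hy', rfl⟩ := AddSubgroup.mem_sup.1 (pm.conj_le hx'M x hw)
  have h1 : a • (y + y') - (y + y') = a • y' - y' := by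
    rw [smul_add, hy a ha]; abel
  rw [h1] at hc
  have h2 : y' ∈ fx V (⊤ : Subgroup H) := by
    rw [← fx_top_smul_iff a]
    refine pm.sep (g := x') (h := a * x') ?_ ?_ ?_
    · have e : x'⁻¹ * (a * x') = x'⁻¹ * a * x' := by group
      rw [e]; exact hx'
    · have e : a • y' = (a • y' - y') + y' := by abel
      rw [e]
      exact AddSubgroup.add_mem _ (fx_top_le _ hc) hy'
    · rw [← cg_cg, mem_fx_cg, inv_smul_smul]; exact hy'
  exact pm.sep1 hx (AddSubgroup.add_mem _ hy (fx_top_le _ h2)) hw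

/-- `A` meets the core trivially -/
theorem PM.inf_core : A ⊓ M.normalCore = ⊥ := by
  classical
  by_contra hne
  set A₁ := A ⊓ M.normalCore with hA₁
  have hA₁A : A₁ ≤ A := inf_le_left
  have hA₁ne : A₁ ≠ A := by
    intro h
    obtain ⟨x, hx⟩ := pm.exists_nM
    have h1 : A ≤ M.normalCore := by rw [← h]; exact inf_le_right
    have h2 : cg x A ≤ M.normalCore := by
      intro y hy
      have h3 := Subgroup.Normal.conj_mem (inferInstance : M.normalCore.Normal) _ (h1 (mem_cg.1 hy)) x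
      have e : x * (x⁻¹ * y * x) * x⁻¹ = y := by group
      rwa [e] at h3
    have h3 := pm.gen x hx
    have h4 : A ⊔ cg x A ≤ M := (sup_le h1 h2).trans (Subgroup.normalCore_le M)
    rw [h3] at h4
    exact pm.Mne (eq_top_iff.2 h4)
  obtain ⟨x, hx⟩ := pm.exists_nM
  obtain ⟨w₀, hw₀, hw₀C⟩ := pm.cen
  set R := (T : Subgroup H) ⊓ M.normalCore with hR
  have hRn := pm.core_inf_normal
  set V' := fx V R with hV'
  have hA₁R : A₁ ≤ R := inf_le_inf_right _ pm.AT
  have hV'inv : ∀ g : H, ∀ v ∈ V', g • v ∈ V' := by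
    intro g v hv r hr
    have h1 := hv (g⁻¹ * r * g) (by
      have := hRn.conj_mem r hr g⁻¹
      rwa [inv_inv] at this)
    rw [mul_smul, mul_smul, inv_smul_eq_iff] at h1
    exact h1
  set w := x • w₀ with hw
  have hw₀V' : w₀ ∈ V' := fx_anti inf_le_left hw₀
  have hwV' : w ∈ V' := hV'inv _ _ hw₀V'
  have hwY : w ∈ fx V (cg x A) := by
    rw [mem_fx_cg, hw, inv_smul_smul]
    exact fx_anti pm.AT hw₀
  have hwC : w ∉ fx V (⊤ : Subgroup H) := by rw [hw, fx_top_smul_iff]; exact hw₀C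
  set C := fx V (⊤ : Subgroup H) with hC
  have hCV' : C ≤ V' := fx_top_le _
  have h1 : Nat.card A * Nat.card C ≤ Nat.card A₁ * Nat.card ↥(V' ⊓ fx V A) := by
    apply card_mul_le_of_inj C (V' ⊓ fx V A) (le_inf hCV' (fx_top_le _)) hA₁A (fun a => a • w - w)
    · intro a ha
      exact ⟨AddSubgroup.sub_mem _ (hV'inv _ _ hwV') hwV', pm.quad a ha w⟩
    · intro a ha b hb hab
      have e : a • w - w - (b • w - w) = a • w - b • w := by abel
      rw [e] at hab
      have h2 : (b⁻¹ * a) • w - w ∈ C := by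
        have h3 : b⁻¹ • (a • w - b • w) ∈ C := (fx_top_smul_iff b⁻¹).2 hab
        rwa [smul_sub, inv_smul_smul, ← mul_smul] at h3
      by_contra h4
      apply hwC
      refine pm.star (mul_mem (inv_mem hb) ha) ?_ hx hwY h2
      intro h5
      exact h4 (Subgroup.mem_inf.2 ⟨mul_mem (inv_mem hb) ha, h5⟩)
  have h2 : Nat.card (fx V A) * Nat.card ↥(V' ⊓ fx V A) ≤ Nat.card (fx V A₁) * Nat.card C := by
    have h3 := add_card_sup_inf (fx V A) (V' ⊓ fx V (cg x A))
    have h4 : Nat.card ↥(V' ⊓ fx V (cg x A)) = Nat.card ↥(V' ⊓ fx V A) := by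
      apply Nat.card_congr
      refine ⟨fun v => ⟨x⁻¹ • (v : V), hV'inv _ _ v.2.1, mem_fx_cg.1 v.2.2⟩,
        fun v => ⟨x • (v : V), hV'inv _ _ v.2.1, ?_⟩, ?_, ?_⟩
      · exact mem_fx_cg.2 (by rw [inv_smul_smul]; exact v.2.2)
      · intro v; exact Subtype.ext (smul_inv_smul _ _)
      · intro v; exact Subtype.ext (inv_smul_smul _ _)
    rw [h4] at h3
    rw [← h3]
    apply Nat.mul_le_mul
    · apply card_le
      apply sup_le
      · exact fx_anti hA₁A
      · exact inf_le_left.trans (fx_anti hA₁R)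
    · apply card_le
      rintro v ⟨hv1, hv2, hv3⟩
      exact pm.sep1 hx hv1 hv3
  have h3 := pm.strict A₁ hA₁A hne hA₁ne
  have h4 : vl V A * Nat.card C ≤ vl V A₁ * Nat.card C := by
    unfold vl
    calc Nat.card A * Nat.card (fx V A) * Nat.card C = (Nat.card A * Nat.card C) * Nat.card (fx V A) := by ring
      _ ≤ (Nat.card A₁ * Nat.card ↥(V' ⊓ fx V A)) * Nat.card (fx V A) := Nat.mul_le_mul_right _ h1
      _ = Nat.card A₁ * (Nat.card (fx V A) * Nat.card ↥(V' ⊓ fx V A)) := by ring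
      _ ≤ Nat.card A₁ * (Nat.card (fx V A₁) * Nat.card C) := Nat.mul_le_mul_left _ h2
      _ = _ := by ring
  have h5 := Nat.le_of_mul_le_mul_right h4 Nat.card_pos
  omega

theorem PM.star' {a : H} (ha : a ∈ A) (ha1 : a ≠ 1) {x : H} (hx : x ∉ M) {w : V}
    (hw : w ∈ fx V (cg x A)) (hc : a • w - w ∈ fx V (⊤ : Subgroup H)) : w ∈ fx V (⊤ : Subgroup H) := by
  refine pm.star ha ?_ hx hw hc
  intro h
  have h1 : a ∈ A ⊓ M.normalCore := ⟨ha, h⟩
  rw [pm.inf_core, Subgroup.mem_bot] at h1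
  exact ha1 h1

/-- no nontrivial element of `A` lies in another conjugate of `M` -/
theorem PM.conj_not_mem {a : H} (ha : a ∈ A) (ha1 : a ≠ 1) {x : H} (hx : x ∉ M) : x⁻¹ * a * x ∉ M := by
  intro h
  have hTi : ¬ p ∣ (T : Subgroup H).relIndex M := by
    intro h1
    exact T.not_dvd_index (h1.trans (Subgroup.relIndex_dvd_index_of_le pm.TM))
  have hz : IsPGroup p (zpowers (x⁻¹ * a * x)) := by
    have h1 : IsPGroup p (cg x⁻¹ A) := pm.pgA.map _
    refine h1.to_le ?_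
    rw [zpowers_le, mem_cg]
    have e : x⁻¹⁻¹ * (x⁻¹ * a * x) * x⁻¹ = a := by group
    rw [e]; exact ha
  obtain ⟨m, hm, hmT⟩ := H51.SylowAmb.exists_conj_le pm.TM T.2 hTi (by rw [zpowers_le]; exact h) hz
  have h1 : m * (x⁻¹ * a * x) * m⁻¹ ∈ (T : Subgroup H) := hmT ⟨_, mem_zpowers _, rfl⟩
  obtain ⟨w₀, hw₀, hw₀C⟩ := pm.cen
  have hx₁ : x * m⁻¹ ∉ M := by
    intro h2
    apply hx
    have e : x = x * m⁻¹ * m := by group
    rw [e]; exact mul_mem h2 hm
  apply hw₀C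
  rw [← fx_top_smul_iff (x * m⁻¹)]
  refine pm.star' ha ha1 hx₁ ?_ ?_
  · rw [mem_fx_cg, inv_smul_smul]
    exact fx_anti pm.AT hw₀
  · have h2 : a • (x * m⁻¹) • w₀ = (x * m⁻¹) • w₀ := by
      have h3 := hw₀ _ h1
      have e : a * (x * m⁻¹) = (x * m⁻¹) * (m * (x⁻¹ * a * x) * m⁻¹) := by group
      rw [← mul_smul, e, mul_smul, h3]
    rw [h2, sub_self]
    exact AddSubgroup.zero_mem _

theorem PM.int {g h : H} (hgh : g⁻¹ * h ∉ M) : Int' V (cg g A) (cg h A) := by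
  intro a ha ha1 w hw haw
  have ha0 := mem_cg.1 ha
  have ha01 : g⁻¹ * a * g ≠ 1 := by
    intro h1
    apply ha1
    have e : a = g * (g⁻¹ * a * g) * g⁻¹ := by group
    rw [e, h1]; group
  have h1 := pm.conj_not_mem ha0 ha01 hgh
  have h2 : a • w ∈ fx V (⊤ : Subgroup H) := by
    refine pm.sep (g := h) (h := a * h) ?_ haw ?_
    · have e : (g⁻¹ * h)⁻¹ * (g⁻¹ * a * g) * (g⁻¹ * h) = h⁻¹ * (a * h) := by group
      rwa [e] at h1
    · rw [← cg_cg, mem_fx_cg, inv_smul_smul]; exact hw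
  exact fx_top_le _ ((fx_top_smul_iff a).1 h2)

theorem PM.wit' {g h : H} (hgh : g⁻¹ * h ∉ M) : ∃ w ∈ fx V (cg h A), w ∉ fx V (cg g A) := by
  obtain ⟨w, hw, hwC⟩ := pm.wit h
  exact ⟨w, pm.fxT_le h hw, fun h1 => hwC (pm.sep hgh h1 (pm.fxT_le h hw))⟩

theorem PM.sp {g h : H} (hgh : g⁻¹ * h ∉ M) : Sp (Nat.card A) V (cg g A) (cg h A) :=
  sp_of_int (pm.off.cg g) (pm.off.cg h) (pm.int hgh) (pm.int (inv_mul_not_mem hgh)) (pm.wit' hgh)
    (pm.wit' (inv_mul_not_mem hgh))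

omit [Finite V] in
theorem PM.fix_eq {g h : H} (hgh : g⁻¹ * h ∉ M) {a b b' : H} (hb : b ∈ cg h A) (hb' : b' ∈ cg h A)
    [Finite V] (h1 : (a * h)⁻¹ * (b * g) ∈ M) (h2 : (a * h)⁻¹ * (b' * g) ∈ M) : b = b' := by
  by_contra hne
  have h3 : (b * g)⁻¹ * (b' * g) ∈ M := by
    have e : (b * g)⁻¹ * (b' * g) = ((a * h)⁻¹ * (b * g))⁻¹ * ((a * h)⁻¹ * (b' * g)) := by group
    rw [e]; exact mul_mem (inv_mem h1) h2
  have h4 : h⁻¹ * (b⁻¹ * b') * h ∈ A := mem_cg.1 (mul_mem (inv_mem hb) hb')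
  have h5 : h⁻¹ * (b⁻¹ * b') * h ≠ 1 := by
    intro h6
    apply hne
    have e : b' = b * (h * (h⁻¹ * (b⁻¹ * b') * h) * h⁻¹) := by group
    rw [e, h6]; group
  apply pm.conj_not_mem h4 h5 (inv_mul_not_mem hgh)
  have e : (h⁻¹ * g)⁻¹ * (h⁻¹ * (b⁻¹ * b') * h) * (h⁻¹ * g) = (b * g)⁻¹ * (b' * g) := by group
  rw [e]; exact h3

/-- the switching property -/
theorem PM.switch {g h : H} (hgh : g⁻¹ * h ∉ M) {a : H} (ha : a ∈ cg g A) (ha1 : a ≠ 1) :
    ∃ b ∈ cg h A, ∀ y ∈ fx V (cg h A), b⁻¹ • a • y ∈ fx V (cg g A) := by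
  have hhg := inv_mul_not_mem hgh
  have key : ∀ y ∈ fx V (cg h A), y ∉ fx V (⊤ : Subgroup H) → ∃ b ∈ cg h A, a • y ∈ fx V (cg b (cg g A)) := by
    intro y hy hyC
    rcases (pm.sp hhg).cover (pm.off.cg h) (pm.int hhg) (a • y) with h1 | h1
    · exfalso
      apply hyC
      have h2 := pm.int hgh a ha ha1 y hy h1
      exact pm.sep hgh h2 hy
    · exact h1
  have key2 : ∀ y ∈ fx V (cg h A), y ∉ fx V (⊤ : Subgroup H) → ∀ b, a • y ∈ fx V (cg b (cg g A)) →
      (a * h)⁻¹ * (b * g) ∈ M := by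
    intro y hy hyC b hb
    by_contra hcon
    apply hyC
    rw [← fx_top_smul_iff a]
    refine pm.sep hcon ?_ ?_
    · rw [← cg_cg, mem_fx_cg, inv_smul_smul]; exact hy
    · rw [← cg_cg]; exact hb
  obtain ⟨y₁, hy₁, hy₁C⟩ := pm.wit h
  replace hy₁ := pm.fxT_le h hy₁
  obtain ⟨b, hb, hb1⟩ := key y₁ hy₁ hy₁C
  refine ⟨b, hb, fun y hy => ?_⟩
  by_cases hyC : y ∈ fx V (⊤ : Subgroup H)
  · rw [fx_top_smul a hyC, fx_top_smul b⁻¹ hyC]
    exact fx_top_le _ hyC
  · obtain ⟨b', hb', hb'1⟩ := key y hy hyC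
    have h1 : b = b' := pm.fix_eq hgh hb hb' (key2 _ hy₁ hy₁C _ hb1) (key2 _ hy hyC _ hb'1)
    subst h1
    exact mem_fx_cg.1 hb'1

/-- elements acting trivially modulo the fixed points -/
theorem PM.kern {g : H} (hg : ∀ v : V, g • v - v ∈ fx V (⊤ : Subgroup H)) : g = 1 := by
  classical
  set C := fx V (⊤ : Subgroup H) with hC
  have hCinv : ∀ g : H, ∀ w ∈ C, g • w ∈ C := fun g w hw => (fx_top_smul_iff g).2 hw
  let K : Subgroup H :=
    { carrier := {g | ∀ v : V, g • v - v ∈ C}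
      one_mem' := fun v => by rw [one_smul, sub_self]; exact AddSubgroup.zero_mem _
      mul_mem' := by
        intro g h hg hh v
        have e : (g * h) • v - v = (g • (h • v) - h • v) + (h • v - v) := by rw [mul_smul]; abel
        rw [e]
        exact AddSubgroup.add_mem _ (hg _) (hh v)
      inv_mem' := by
        intro g hg v
        have e : g⁻¹ • v - v = -(g • (g⁻¹ • v) - g⁻¹ • v) := by rw [smul_inv_smul]; abel
        rw [e]
        exact AddSubgroup.neg_mem _ (hg _) }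
  have hKn : K.Normal := by
    refine ⟨fun k hk g v => ?_⟩
    have e : (g * k * g⁻¹) • v - v = g • (k • (g⁻¹ • v) - g⁻¹ • v) := by
      rw [smul_sub, smul_inv_smul, mul_smul, mul_smul]
    rw [e]
    exact hCinv g _ (hk _)
  have hKpow : ∀ k ∈ K, ∀ n : ℕ, ∀ v : V, k ^ n • v = v + n • (k • v - v) := by
    intro k hk n v
    induction n with
    | zero => rw [pow_zero, one_smul, zero_smul, add_zero]
    | succ n ih =>
      rw [pow_succ', mul_smul, ih, smul_add, smul_comm k n, (hk v) k (Subgroup.mem_top k), succ_nsmul]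
      abel
  have hKp : IsPGroup p K := by
    intro ⟨k, hk⟩
    refine ⟨1, Subtype.ext ?_⟩
    rw [pow_one]
    show k ^ p = 1
    apply pm.faith
    intro v
    rw [hKpow k hk, pm.pz, add_zero]
  have hKT : K ≤ T := pm.normal_le hKn hKp
  obtain ⟨x, hx⟩ := pm.exists_nM
  -- the fixed points of `K`
  have hfK : ∀ g : H, ∀ v ∈ fx V K, g • v ∈ fx V K := by
    intro g v hv k hk
    have h1 := hv (g⁻¹ * k * g) (by
      have := hKn.conj_mem k hk g⁻¹
      rwa [inv_inv] at this)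
    rw [mul_smul, mul_smul, inv_smul_eq_iff] at h1
    exact h1
  obtain ⟨w₀, hw₀, hw₀C⟩ := pm.cen
  have hx' : (1 : H)⁻¹ * x ∉ M := by rwa [inv_one, one_mul]
  have hsp := pm.sp hx'
  rw [cg_one] at hsp
  have hI := pm.int hx'
  rw [cg_one] at hI
  have hCeq : C = fx V A ⊓ fx V (cg x A) := by rw [hC, ← pm.gen x hx, fx_sup]
  have hwx : x • w₀ ∈ fx V (cg x A) := by rw [mem_fx_cg, inv_smul_smul]; exact fx_anti pm.AT hw₀
  have hwA : x • w₀ ∉ fx V A := fun h1 => hw₀C ((fx_top_smul_iff x).1 (pm.sep1 hx h1 hwx))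
  have hwK : x • w₀ ∈ fx V K := hfK _ _ (fx_anti hKT hw₀)
  have hYK : fx V A ≤ fx V K := by
    intro y hy
    have hinj := int_inj hI pm.quad hwx hwA
    have hbij : Function.Bijective (fun z : A × ↥(fx V A ⊓ fx V (cg x A)) =>
        (⟨(z.1 : H) • (x • w₀) - x • w₀ + z.2, AddSubgroup.add_mem _ (pm.quad _ z.1.2 _) z.2.2.1⟩ : fx V A)) := by
      rw [Nat.bijective_iff_injective_and_card]
      refine ⟨hinj, ?_⟩
      rw [Nat.card_prod, hsp.cA]
    obtain ⟨⟨⟨a, ha⟩, ⟨c, hc⟩⟩, hac⟩ := hbij.2 ⟨y, hy⟩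
    have h2 : a • (x • w₀) - x • w₀ + c = y := congrArg Subtype.val hac
    rw [← h2]
    rw [← hCeq] at hc
    exact AddSubgroup.add_mem _ (AddSubgroup.sub_mem _ (hfK _ _ hwK) hwK) (fx_top_le _ hc)
  have hYK' : fx V (cg x A) ≤ fx V K := by
    intro y hy
    have h1 := hfK x _ (hYK (mem_fx_cg.1 hy))
    rwa [smul_inv_smul] at h1
  have hg' : g ∈ K := hg
  apply pm.faith
  intro v
  have h1 : v ∈ fx V K := by
    have h2 : v ∈ fx V A ⊔ fx V (cg x A) := by rw [hsp.sup_top]; exact AddSubgroup.mem_top _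
    exact (sup_le hYK hYK') h2
  exact h1 g hg'

/-- **the main theorem** -/
theorem PM.main : ∃ (F : Type) (_ : Field F) (_ : Fintype F)
    (ρ : H ≃* Matrix.SpecialLinearGroup (Fin 2) F) (Ψ : V →+ (Fin 2 → F)), Function.Surjective Ψ ∧
      (∀ v, Ψ v = 0 ↔ ∀ h : H, h • v = v) ∧ (∀ h v,
      Ψ (h • v) = ((ρ h : Matrix.SpecialLinearGroup (Fin 2) F) : Matrix (Fin 2) (Fin 2) F).mulVec (Ψ v)) ∧
      Fintype.card F = Nat.card A := by
  obtain ⟨x, hx⟩ := pm.exists_nM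
  have hx' : (1 : H)⁻¹ * x ∉ M := by rwa [inv_one, one_mul]
  have hx'' := inv_mul_not_mem hx'
  refine conf_main (A := cg 1 A) (B := cg x A) pm.pz pm.one_lt (pm.gen' hx') (pm.off.cg 1) (pm.off.cg x)
    (pm.int hx') (pm.int hx'') (pm.sp hx') (fun g hg => pm.kern hg) (fun a ha ha1 => pm.switch hx' ha ha1)
    (fun b hb hb1 => pm.switch hx'' hb hb1)

/-- fixed points of `A` are commutators modulo the fixed points of `H` -/
theorem PM.fx_eq {y : V} (hy : y ∈ fx V A) :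
    ∃ a ∈ A, ∃ w : V, ∃ c ∈ fx V (⊤ : Subgroup H), y = a • w - w + c := by
  obtain ⟨x, hx⟩ := pm.exists_nM
  obtain ⟨w₀, hw₀, hw₀C⟩ := pm.cen
  have hx' : (1 : H)⁻¹ * x ∉ M := by rwa [inv_one, one_mul]
  have hsp := pm.sp hx'
  rw [cg_one] at hsp
  have hI := pm.int hx'
  rw [cg_one] at hI
  have hwx : x • w₀ ∈ fx V (cg x A) := by rw [mem_fx_cg, inv_smul_smul]; exact fx_anti pm.AT hw₀
  have hwA : x • w₀ ∉ fx V A := fun h1 => hw₀C ((fx_top_smul_iff x).1 (pm.sep1 hx h1 hwx))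
  have hinj := int_inj hI pm.quad hwx hwA
  have hbij : Function.Bijective (fun z : A × ↥(fx V A ⊓ fx V (cg x A)) =>
      (⟨(z.1 : H) • (x • w₀) - x • w₀ + z.2, AddSubgroup.add_mem _ (pm.quad _ z.1.2 _) z.2.2.1⟩ : fx V A)) := by
    rw [Nat.bijective_iff_injective_and_card]
    refine ⟨hinj, ?_⟩
    rw [Nat.card_prod, hsp.cA]
  obtain ⟨⟨⟨a, ha⟩, ⟨c, hc⟩⟩, hac⟩ := hbij.2 ⟨y, hy⟩
  have h2 : a • (x • w₀) - x • w₀ + c = y := congrArg Subtype.val hac
  exact ⟨a, ha, x • w₀, c, pm.sep1 hx hc.1 hc.2, h2.symm⟩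

end

end H51.FF
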