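import Cfsg.Agent.Lib.H51.FFMain

/-!
Pairs of quadratic offenders: spread from the intersection property, and the resulting `Conf`.
-/

set_option autoImplicit false

namespace H51.FF

open Subgroup H53.PU

section

variable {p q : ℕ} [hp : Fact p.Prime] {H V : Type*} [Group H] [Finite H] [AddCommGroup V] [Finite V]
  [DistribMulAction H V]

omit [Finite H] hp in
theorem cg_cg (g h : H) (A : Subgroup H) : cg g (cg h A) = cg (g * h) A := by
  ext x
  rw [mem_cg, mem_cg, mem_cg]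
  have e : h⁻¹ * (g⁻¹ * x * g) * h = (g * h)⁻¹ * x * (g * h) := by group
  rw [e]

omit [Finite H] hp in
theorem cg_one (A : Subgroup H) : cg 1 A = A := by
  ext x
  rw [mem_cg]
  have e : (1 : H)⁻¹ * x * 1 = x := by group
  rw [e]

omit [Finite H] hp in
theorem cg_sup (g : H) (A B : Subgroup H) : cg g (A ⊔ B) = cg g A ⊔ cg g B := Subgroup.map_sup _ _ _

omit [Finite H] hp in
theorem cg_top (g : H) : cg g (⊤ : Subgroup H) = ⊤ := by
  rw [eq_top_iff]
  intro x _
  rw [mem_cg]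
  exact Subgroup.mem_top _

omit [Finite H] hp in
/-- the intersection property gives the numerical spread data -/
theorem sp_of_int {A B : Subgroup H} (hA : Off p q V A) (hB : Off p q V B) (hI : Int' V A B) (hI' : Int' V B A)
    (hw : ∃ w ∈ fx V B, w ∉ fx V A) (hw' : ∃ w ∈ fx V A, w ∉ fx V B) : Sp q V A B := by
  obtain ⟨w, hw, hwA⟩ := hw
  obtain ⟨w', hw', hwB⟩ := hw'
  have h1 : q * Nat.card ↥(fx V A ⊓ fx V B) ≤ Nat.card (fx V A) := by
    have := Nat.card_le_card_of_injective _ (int_inj hI hA.quad hw hwA)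
    rwa [Nat.card_prod, hA.card] at this
  have h2 : q * Nat.card ↥(fx V A ⊓ fx V B) ≤ Nat.card (fx V B) := by
    have := Nat.card_le_card_of_injective _ (int_inj hI' hB.quad hw' hwB)
    rwa [Nat.card_prod, hB.card, inf_comm (fx V B)] at this
  have h3 := add_card_sup_inf (fx V A) (fx V B)
  have h4 : Nat.card ↥(fx V A ⊔ fx V B) ≤ Nat.card V := Nat.card_le_card_of_injective _ (AddSubgroup.subtype_injective _)
  have hA0 : 0 < Nat.card (fx V A) := Nat.card_pos
  have hB0 : 0 < Nat.card (fx V B) := Nat.card_pos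
  set c := Nat.card ↥(fx V A ⊓ fx V B) with hc
  have hc0 : 0 < c := Nat.card_pos
  have h5 : Nat.card (fx V B) ≤ q * c := by
    apply Nat.le_of_mul_le_mul_left _ hA0
    calc Nat.card (fx V A) * Nat.card (fx V B) = Nat.card ↥(fx V A ⊔ fx V B) * c := h3.symm
      _ ≤ (q * Nat.card (fx V A)) * c := Nat.mul_le_mul_right _ (h4.trans hA.ff)
      _ = _ := by ring
  have h6 : Nat.card (fx V A) ≤ q * c := by
    apply Nat.le_of_mul_le_mul_left _ hB0
    calc Nat.card (fx V B) * Nat.card (fx V A) = Nat.card ↥(fx V A ⊔ fx V B) * c := by rw [h3, mul_comm]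
      _ ≤ (q * Nat.card (fx V B)) * c := Nat.mul_le_mul_right _ (h4.trans hB.ff)
      _ = _ := by ring
  have e1 : Nat.card (fx V A) = q * c := le_antisymm h6 h1
  have e2 : Nat.card (fx V B) = q * c := le_antisymm h5 h2
  refine ⟨e1, e2, ?_⟩
  apply le_antisymm
  · have := hA.ff
    rwa [e1] at this
  · have h7 : q * (q * c) * c ≤ Nat.card V * c := by
      calc q * (q * c) * c = Nat.card (fx V A) * Nat.card (fx V B) := by rw [e1, e2]; ring
        _ = Nat.card ↥(fx V A ⊔ fx V B) * c := h3.symm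
        _ ≤ _ := Nat.mul_le_mul_right _ h4
    exact Nat.le_of_mul_le_mul_right h7 hc0

section pair

variable {A B : Subgroup H} (h1 : Sp q V A B)

omit [Finite H] in
include h1 in
theorem Sp.sup_top : fx V A ⊔ fx V B = ⊤ := by
  apply AddSubgroup.eq_top_of_card_eq
  have h3 := add_card_sup_inf (fx V A) (fx V B)
  have hc0 : 0 < Nat.card ↥(fx V A ⊓ fx V B) := Nat.card_pos
  apply Nat.eq_of_mul_eq_mul_right hc0
  rw [h3]
  calc Nat.card (fx V A) * Nat.card (fx V B) = (q * Nat.card ↥(fx V A ⊓ fx V B)) * (q * Nat.card ↥(fx V A ⊓ fx V B)) :=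
        congrArg₂ (· * ·) h1.cA h1.cB
    _ = Nat.card V * Nat.card ↥(fx V A ⊓ fx V B) := by rw [h1.cV]; ring

omit [Finite H] in
include h1 in
theorem Sp.exists_add (v : V) : ∃ x ∈ fx V A, ∃ y ∈ fx V B, v = x + y := by
  have h2 : v ∈ fx V A ⊔ fx V B := by rw [h1.sup_top]; exact AddSubgroup.mem_top _
  obtain ⟨x, hx, y, hy, rfl⟩ := AddSubgroup.mem_sup.1 h2
  exact ⟨x, hx, y, hy, rfl⟩

omit [Finite H] in
include h1 in
/-- the spread covers everything -/
theorem Sp.cover (hA : Off p q V A) (hI : Int' V A B) (v : V) : v ∈ fx V A ∨ ∃ a ∈ A, v ∈ fx V (cg a B) := by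
  obtain ⟨x, hx, y, hy, rfl⟩ := h1.exists_add v
  by_cases hyA : y ∈ fx V A
  · exact Or.inl (AddSubgroup.add_mem _ hx hyA)
  right
  have hinj := int_inj hI hA.quad hy hyA
  have hfin : Finite A := Nat.finite_of_card_ne_zero (by
    rw [hA.card]
    intro h0
    have h2 := h1.cV
    rw [h0, Nat.zero_mul] at h2
    exact Nat.card_pos.ne' h2)
  have hbij : Function.Bijective (fun x : A × ↥(fx V A ⊓ fx V B) =>
      (⟨(x.1 : H) • y - y + x.2, AddSubgroup.add_mem _ (hA.quad _ x.1.2 y) x.2.2.1⟩ : fx V A)) := by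
    rw [Nat.bijective_iff_injective_and_card]
    refine ⟨hinj, ?_⟩
    rw [Nat.card_prod, hA.card, h1.cA]
  obtain ⟨⟨⟨a, ha⟩, ⟨c, hc⟩⟩, hac⟩ := hbij.2 ⟨x, hx⟩
  have h2 : a • y - y + c = x := congrArg Subtype.val hac
  refine ⟨a, ha, ?_⟩
  rw [mem_fx_cg, ← h2]
  have h3 : a⁻¹ • (a • y - y + c + y) = y + c := by
    have e : a • y - y + c + y = a • y + c := by abel
    rw [e, smul_add, inv_smul_smul, hc.1 _ (inv_mem ha)]
  rw [h3]
  exact AddSubgroup.add_mem _ hy hc.2

end pair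

/-- final configuration from a generating pair -/
theorem conf_main {A B : Subgroup H} (pz : ∀ v : V, p • v = 0) (hq : 1 < q) (htop : A ⊔ B = ⊤)
    (hA : Off p q V A) (hB : Off p q V B) (hI : Int' V A B) (hI' : Int' V B A) (hsp : Sp q V A B)
    (hK : ∀ g : H, (∀ v : V, g • v - v ∈ fx V (⊤ : Subgroup H)) → g = 1)
    (hsA : ∀ a ∈ A, a ≠ 1 → ∃ b ∈ B, ∀ y ∈ fx V B, b⁻¹ • a • y ∈ fx V A)
    (hsB : ∀ b ∈ B, b ≠ 1 → ∃ a ∈ A, ∀ y ∈ fx V A, a⁻¹ • b • y ∈ fx V B) :
    ∃ (F : Type) (_ : Field F) (_ : Fintype F)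
    (ρ : H ≃* Matrix.SpecialLinearGroup (Fin 2) F) (Ψ : V →+ (Fin 2 → F)), Function.Surjective Ψ ∧
      (∀ v, Ψ v = 0 ↔ ∀ h : H, h • v = v) ∧ (∀ h v,
      Ψ (h • v) = ((ρ h : Matrix.SpecialLinearGroup (Fin 2) F) : Matrix (Fin 2) (Fin 2) F).mulVec (Ψ v)) ∧
      Fintype.card F = q := by
  classical
  set C : AddSubgroup V := fx V (⊤ : Subgroup H) with hC
  have hCeq : C = fx V A ⊓ fx V B := by rw [hC, ← htop, fx_sup]
  have hCA : C ≤ fx V A := by rw [hCeq]; exact inf_le_left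
  have hCB : C ≤ fx V B := by rw [hCeq]; exact inf_le_right
  have hCinv : ∀ g : H, ∀ w ∈ C, g • w ∈ C := by
    intro g w hw
    rw [hw g (Subgroup.mem_top g)]
    exact hw
  have hAne := hA.ne hq
  have hBne := hB.ne hq
  have hspA : Nat.card (fx V A) = q * Nat.card C := by rw [hCeq]; exact hsp.cA
  have hspB : Nat.card (fx V B) = q * Nat.card C := by rw [hCeq]; exact hsp.cB
  have hspV : Nat.card V = q * (q * Nat.card C) := by rw [hCeq]; exact hsp.cV
  let act : DistribMulAction H (V ⧸ C) := quotAct C hCinv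
  have hact : ∀ (g : H) (v : V), g • (QuotientAddGroup.mk v : V ⧸ C) = QuotientAddGroup.mk (g • v) := fun _ _ => rfl
  have hmk : ∀ v w : V, (QuotientAddGroup.mk v : V ⧸ C) = QuotientAddGroup.mk w ↔ v - w ∈ C := by
    intro v w
    rw [QuotientAddGroup.eq, ← neg_mem_iff]
    have e : -(-v + w) = v - w := by abel
    rw [e]
  have hmk0 : ∀ v : V, (QuotientAddGroup.mk v : V ⧸ C) = 0 ↔ v ∈ C := fun v => QuotientAddGroup.eq_zero_iff v
  have hfxA : ∀ v : V, (QuotientAddGroup.mk v : V ⧸ C) ∈ fx (V ⧸ C) A ↔ v ∈ fx V A := by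
    intro v
    constructor
    · intro h
      obtain ⟨x, hx, y, hy, rfl⟩ := hsp.exists_add v
      obtain ⟨a, ha, ha1⟩ := hAne
      have h1 := h a ha
      rw [hact, hmk, smul_add, hx a ha] at h1
      have e : x + a • y - (x + y) = a • y - y := by abel
      rw [e] at h1
      have h2 : a • y ∈ fx V B := by
        have e2 : a • y = (a • y - y) + y := by abel
        rw [e2]
        exact AddSubgroup.add_mem _ (hCB h1) hy
      exact AddSubgroup.add_mem _ hx (hI a ha ha1 y hy h2)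
    · intro h a ha
      rw [hact, h a ha]
  have hfxB : ∀ v : V, (QuotientAddGroup.mk v : V ⧸ C) ∈ fx (V ⧸ C) B ↔ v ∈ fx V B := by
    intro v
    constructor
    · intro h
      obtain ⟨x, hx, y, hy, rfl⟩ := hsp.exists_add v
      obtain ⟨b, hb, hb1⟩ := hBne
      have h1 := h b hb
      rw [hact, hmk, smul_add, hy b hb] at h1
      have e : b • x + y - (x + y) = b • x - x := by abel
      rw [e] at h1
      have h2 : b • x ∈ fx V A := by
        have e2 : b • x = (b • x - x) + x := by abel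
        rw [e2]
        exact AddSubgroup.add_mem _ (hCA h1) hx
      exact AddSubgroup.add_mem _ (hI' b hb hb1 x hx h2) hy
    · intro h b hb
      rw [hact, h b hb]
  -- cardinalities
  have hcard : ∀ D : AddSubgroup V, C ≤ D → ∀ E : AddSubgroup (V ⧸ C),
      (∀ v : V, (QuotientAddGroup.mk v : V ⧸ C) ∈ E ↔ v ∈ D) → Nat.card D = Nat.card E * Nat.card C := by
    intro D hCD E hE
    let π : D →+ E :=
      { toFun := fun v => ⟨QuotientAddGroup.mk (v : V), (hE v).2 v.2⟩
        map_zero' := rfl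
        map_add' := fun _ _ => rfl }
    have h1 := AddSubgroup.card_mul_index π.ker
    rw [AddSubgroup.index_ker] at h1
    have h2 : π.range = ⊤ := by
      rw [AddMonoidHom.range_eq_top]
      rintro ⟨x, hx⟩
      obtain ⟨v, rfl⟩ := QuotientAddGroup.mk_surjective x
      exact ⟨⟨v, (hE v).1 hx⟩, rfl⟩
    have h3 : Nat.card π.ker = Nat.card C := by
      apply Nat.card_congr
      refine ⟨fun v => ⟨((v : D) : V), (hmk0 _).1 (congrArg Subtype.val (AddMonoidHom.mem_ker.1 v.2))⟩,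
        fun v => ⟨⟨v, hCD v.2⟩, AddMonoidHom.mem_ker.2 (Subtype.ext ((hmk0 _).2 v.2))⟩, ?_, ?_⟩
      · intro v; rfl
      · intro v; rfl
    rw [h2, AddSubgroup.card_top, h3] at h1
    rw [← h1, mul_comm]
  have hC0 : 0 < Nat.card C := Nat.card_pos
  have cA : Nat.card (fx (V ⧸ C) A) = q := by
    have h1 := hcard _ hCA _ hfxA
    rw [hspA] at h1
    exact (Nat.eq_of_mul_eq_mul_right hC0 h1).symm
  have cB : Nat.card (fx (V ⧸ C) B) = q := by
    have h1 := hcard _ hCB _ hfxB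
    rw [hspB] at h1
    exact (Nat.eq_of_mul_eq_mul_right hC0 h1).symm
  have cW : Nat.card (V ⧸ C) = q * q := by
    have h1 := AddSubgroup.card_eq_card_quotient_mul_card_addSubgroup C
    rw [hspV, ← Nat.mul_assoc] at h1
    exact (Nat.eq_of_mul_eq_mul_right hC0 h1).symm
  have conf : FFNat.Conf p (V ⧸ C) A B := by
    refine ⟨?_, htop, ?_, ?_, ?_, ?_, ?_, ?_, ?_, ?_, ?_, ?_, ?_, ?_⟩
    · intro w
      obtain ⟨v, rfl⟩ := QuotientAddGroup.mk_surjective w
      show (QuotientAddGroup.mk (p • v) : V ⧸ C) = 0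
      rw [pz]; rfl
    · intro g hg
      apply hK
      intro v
      have := hg (QuotientAddGroup.mk v)
      rwa [hact, hmk] at this
    · intro w hw hw'
      obtain ⟨v, rfl⟩ := QuotientAddGroup.mk_surjective w
      rw [hmk0, hCeq]
      exact ⟨(hfxA v).1 hw, (hfxB v).1 hw'⟩
    · intro w
      obtain ⟨v, rfl⟩ := QuotientAddGroup.mk_surjective w
      obtain ⟨x, hx, y, hy, rfl⟩ := hsp.exists_add v
      exact ⟨_, (hfxA x).2 hx, _, (hfxB y).2 hy, rfl⟩
    · rw [hA.card, cA]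
    · rw [cA, cB]
    · intro h1
      have h2 := hA.card
      rw [h1, Subgroup.card_bot] at h2
      omega
    · intro a ha w
      obtain ⟨v, rfl⟩ := QuotientAddGroup.mk_surjective w
      exact (hfxA _).2 (hA.quad a ha v)
    · intro b hb w
      obtain ⟨v, rfl⟩ := QuotientAddGroup.mk_surjective w
      exact (hfxB _).2 (hB.quad b hb v)
    · intro a ha ha1 w hw hw'
      obtain ⟨v, rfl⟩ := QuotientAddGroup.mk_surjective w
      rw [hfxB] at hw
      rw [hact, hfxB] at hw'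
      rw [hmk0, hCeq]
      exact ⟨hI a ha ha1 v hw hw', hw⟩
    · intro b hb hb1 w hw hw'
      obtain ⟨v, rfl⟩ := QuotientAddGroup.mk_surjective w
      rw [hfxA] at hw
      rw [hact, hfxA] at hw'
      rw [hmk0, hCeq]
      exact ⟨hw, hI' b hb hb1 v hw hw'⟩
    · intro a ha ha1
      obtain ⟨b, hb, h4⟩ := hsA a ha ha1
      refine ⟨b, hb, ?_⟩
      intro w hw
      obtain ⟨v, rfl⟩ := QuotientAddGroup.mk_surjective w
      rw [hfxB] at hw
      refine ⟨QuotientAddGroup.mk (b⁻¹ • a • v), (hfxA _).2 (h4 v hw), ?_⟩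
      rw [hact, hact, smul_inv_smul]
    · intro b hb hb1
      obtain ⟨a, ha, h4⟩ := hsB b hb hb1
      refine ⟨a, ha, ?_⟩
      intro w hw
      obtain ⟨v, rfl⟩ := QuotientAddGroup.mk_surjective w
      rw [hfxA] at hw
      refine ⟨QuotientAddGroup.mk (a⁻¹ • b • v), (hfxB _).2 (h4 v hw), ?_⟩
      rw [hact, hact, smul_inv_smul]
  obtain ⟨F, i1, i2, ρ, ψ, hψ⟩ := conf.main
  refine ⟨F, i1, i2, ρ, (ψ : (V ⧸ C) →+ (Fin 2 → F)).comp (QuotientAddGroup.mk' C), ?_, ?_, ?_, ?_⟩
  · exact ψ.surjective.comp (QuotientAddGroup.mk'_surjective C)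
  · intro v
    show ψ (QuotientAddGroup.mk v) = 0 ↔ _
    rw [map_eq_zero_iff ψ ψ.injective, hmk0]
    constructor
    · intro h g
      exact h g (Subgroup.mem_top g)
    · intro h g _
      exact h g
  · intro h v
    show ψ (QuotientAddGroup.mk (h • v)) = _
    rw [← hact, hψ]
    rfl
  · have h1 := Nat.card_congr ψ.toEquiv
    rw [cW, Nat.card_eq_fintype_card, Fintype.card_fun, Fintype.card_fin, pow_two] at h1
    exact (Nat.mul_self_inj.1 h1).symm

end

end H51.FF
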