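import Mathlib

/-! Products of equivariant functions over orbits (norm arguments). -/

set_option autoImplicit false

namespace H51.NormArg

open MulAction Subgroup

variable {A V X : Type*} [Group A] [CommGroup V] [MulAction A X] (ρ : A →* MulAut V) (f : X → V)

theorem image_orbit_eq (B : Subgroup A) (b : A) (hb : b ∈ B) (x : X) :
    (fun c => b • c) '' (orbit B x) = orbit B x := by
  ext c
  constructor
  · rintro ⟨_, ⟨d, rfl⟩, rfl⟩
    exact ⟨⟨b, hb⟩ * d, mul_smul (⟨b, hb⟩ : B) d x⟩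
  · rintro ⟨d, rfl⟩
    refine ⟨(⟨b, hb⟩⁻¹ * d : B) • x, ⟨_, rfl⟩, ?_⟩
    show b • ((⟨b, hb⟩⁻¹ * d : B) • x) = d • x
    have : b • ((⟨b, hb⟩⁻¹ * d : B) • x) = (⟨b, hb⟩ * (⟨b, hb⟩⁻¹ * d) : B) • x :=
      (mul_smul (⟨b, hb⟩ : B) (⟨b, hb⟩⁻¹ * d) x).symm
    rw [this, mul_inv_cancel_left]

variable {f ρ} (hf : ∀ (a : A) (x : X), f (a • x) = ρ a (f x))

include hf in
theorem finprod_image [Finite X] (a : A) (s : Set X) : ∏ᶠ c ∈ (fun c => a • c) '' s, f c = ρ a (∏ᶠ c ∈ s, f c) := by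
  rw [finprod_mem_image (MulAction.injective a).injOn]
  have h1 : ρ a (∏ᶠ c ∈ s, f c) = ∏ᶠ c ∈ s, (ρ a) (f c) :=
    MonoidHom.map_finprod_mem (f := f) (ρ a).toMonoidHom (Set.toFinite s)
  rw [h1]
  simp_rw [hf]

include hf in
/-- the product over an orbit of `B` is fixed by `B` -/
theorem fixed [Finite X] (B : Subgroup A) (x : X) {b : A} (hb : b ∈ B) :
    ρ b (∏ᶠ c ∈ orbit B x, f c) = ∏ᶠ c ∈ orbit B x, f c := by
  rw [← finprod_image hf, image_orbit_eq B b hb]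

theorem finprod_mem_mem [Finite X] (W : Subgroup V) (s : Set X) (h : ∀ x ∈ s, f x ∈ W) : ∏ᶠ c ∈ s, f c ∈ W := by
  rw [finprod_mem_eq_finite_toFinset_prod f (Set.toFinite s)]
  exact W.prod_mem (fun c hc => h c ((Set.Finite.mem_toFinset _).1 hc))

theorem exists_pow_mem {p : ℕ} [Fact p.Prime] {A₁ : Subgroup A} [A₁.Normal] (hi : A₁.index = p) {a : A} (ha : a ∉ A₁) :
    (∀ b : A, ∃ i < p, (a ^ i)⁻¹ * b ∈ A₁) ∧ ∀ i < p, ∀ j < p, (a ^ j)⁻¹ * a ^ i ∈ A₁ → i = j := by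
  classical
  have hp : p.Prime := Fact.out
  have hcard : Nat.card (A ⧸ A₁) = p := hi
  have hfin : Finite (A ⧸ A₁) := Nat.finite_of_card_ne_zero (by rw [hcard]; exact hp.ne_zero)
  have ho : orderOf (a : A ⧸ A₁) = p := by
    have h1 : orderOf (a : A ⧸ A₁) ∣ p := by rw [← hcard]; exact orderOf_dvd_natCard _
    rcases (Nat.dvd_prime hp).1 h1 with h2 | h2
    · exact absurd ((QuotientGroup.eq_one_iff a).1 (orderOf_eq_one_iff.1 h2)) ha
    · exact h2
  constructor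
  · intro b
    have h2 : (b : A ⧸ A₁) ∈ zpowers (a : A ⧸ A₁) := by
      have : zpowers (a : A ⧸ A₁) = ⊤ := by
        apply Subgroup.eq_top_of_card_eq
        rw [Nat.card_zpowers, ho, hcard]
      rw [this]; trivial
    rw [mem_zpowers_iff_mem_range_orderOf, Finset.mem_image] at h2
    obtain ⟨i, hi1, hi2⟩ := h2
    rw [Finset.mem_range, ho] at hi1
    refine ⟨i, hi1, ?_⟩
    rw [← QuotientGroup.eq]
    simpa using hi2
  · intro i hi1 j hj1 h
    rw [← QuotientGroup.eq] at h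
    have h3 : (a : A ⧸ A₁) ^ j = (a : A ⧸ A₁) ^ i := by simpa using h
    rw [pow_eq_pow_iff_modEq, ho] at h3
    have := Nat.ModEq.eq_of_lt_of_lt h3 hj1 hi1
    exact this.symm

include hf in
/-- The product over an orbit of `A`, in terms of a normal subgroup of prime index containing the stabilizer. -/
theorem prod_orbit [Finite X] {p : ℕ} [Fact p.Prime] {A₁ : Subgroup A} [A₁.Normal] (hi : A₁.index = p) {a : A}
    (ha : a ∉ A₁) (x : X) (hst : stabilizer A x ≤ A₁) :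
    ∏ᶠ c ∈ orbit A x, f c = ∏ i ∈ Finset.range p, ρ (a ^ i) (∏ᶠ c ∈ orbit A₁ x, f c) := by
  classical
  obtain ⟨h1, h2⟩ := exists_pow_mem (p := p) hi ha
  have hU : orbit A x = ⋃ i ∈ (Finset.range p : Set ℕ), (fun c => a ^ i • c) '' (orbit A₁ x) := by
    ext c
    simp only [Set.mem_iUnion, Finset.coe_range, Set.mem_Iio, exists_prop]
    constructor
    · rintro ⟨b, rfl⟩
      obtain ⟨i, hi, hb⟩ := h1 b
      refine ⟨i, hi, ((a ^ i)⁻¹ * b) • x, ⟨⟨_, hb⟩, rfl⟩, ?_⟩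
      show a ^ i • ((a ^ i)⁻¹ * b) • x = b • x
      rw [← mul_smul, mul_inv_cancel_left]
    · rintro ⟨i, -, _, ⟨b, rfl⟩, rfl⟩
      refine ⟨a ^ i * b, ?_⟩
      show (a ^ i * (b : A)) • x = a ^ i • ((b : A) • x)
      rw [mul_smul]
  rw [hU, finprod_mem_biUnion]
  · rw [finprod_mem_coe_finset]
    refine Finset.prod_congr rfl (fun i _ => ?_)
    exact finprod_image hf _ _
  · intro i hi j hj hij
    rw [Function.onFun, Set.disjoint_left]
    rintro _ ⟨_, ⟨b, rfl⟩, rfl⟩ ⟨_, ⟨c, rfl⟩, hbc⟩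
    apply hij
    have hi' : i < p := by simpa using hi
    have hj' : j < p := by simpa using hj
    apply h2 i hi' j hj'
    have hbc' : a ^ j • (c : A) • x = a ^ i • (b : A) • x := hbc
    have h3 : ((c : A)⁻¹ * ((a ^ j)⁻¹ * a ^ i) * b) ∈ stabilizer A x := by
      rw [MulAction.mem_stabilizer_iff]
      have : ((c : A)⁻¹ * ((a ^ j)⁻¹ * a ^ i) * b) • x = (c : A)⁻¹ • (a ^ j)⁻¹ • (a ^ i • (b : A) • x) := by
        simp only [mul_smul]
      rw [this, ← hbc', inv_smul_smul, inv_smul_smul]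
    have h4 := hst h3
    have h5 : (a ^ j)⁻¹ * a ^ i = c * ((c : A)⁻¹ * ((a ^ j)⁻¹ * a ^ i) * b) * (b : A)⁻¹ := by group
    rw [h5]
    exact mul_mem (mul_mem c.2 h4) (inv_mem b.2)
  · exact Finset.finite_toSet _
  · intro i _; exact Set.toFinite _

theorem prod_invariant [Finite X] (Z : Subgroup V)
    (hZ : ∀ x : X, (∃ a : A, a • x ≠ x) → ∏ᶠ c ∈ orbit A x, f c ∈ Z) :
    ∀ (n : ℕ) (Y : Set X), Y.ncard ≤ n → (∀ (a : A), ∀ y ∈ Y, a • y ∈ Y) → (∀ y ∈ Y, ∃ a : A, a • y ≠ y) →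
      ∏ᶠ c ∈ Y, f c ∈ Z := by
  intro n
  induction n with
  | zero =>
    intro Y hY _ _
    have : Y = ∅ := by
      rw [← Set.ncard_eq_zero (Set.toFinite Y)]; omega
    rw [this, finprod_mem_empty]
    exact Z.one_mem
  | succ n ih =>
    intro Y hY hinv hfix
    by_cases hne : Y = ∅
    · rw [hne, finprod_mem_empty]
      exact Z.one_mem
    obtain ⟨y, hy⟩ := Set.nonempty_iff_ne_empty.2 hne
    have hsub : orbit A y ⊆ Y := by
      rintro _ ⟨a, rfl⟩
      exact hinv a y hy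
    have h1 : ∏ᶠ c ∈ Y, f c = (∏ᶠ c ∈ orbit A y, f c) * ∏ᶠ c ∈ Y \ orbit A y, f c := by
      rw [← finprod_mem_union Set.disjoint_sdiff_right (Set.toFinite _) (Set.toFinite _),
        Set.union_sdiff_cancel hsub]
    rw [h1]
    refine Z.mul_mem (hZ y (hfix y hy)) (ih _ ?_ ?_ ?_)
    · have h2 : (Y \ orbit A y).ncard < Y.ncard := by
        apply Set.ncard_lt_ncard _ (Set.toFinite Y)
        refine ⟨Set.sdiff_subset, fun h => ?_⟩
        exact (h hy).2 (mem_orbit_self y)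
      omega
    · rintro a z ⟨hz, hzy⟩
      refine ⟨hinv a z hz, fun h => hzy ?_⟩
      obtain ⟨b, hb⟩ := h
      refine ⟨a⁻¹ * b, ?_⟩
      show (a⁻¹ * b) • y = z
      rw [mul_smul]
      have hb' : b • y = a • z := hb
      rw [hb', inv_smul_smul]
    · rintro z ⟨hz, -⟩
      exact hfix z hz

/-- The product over everything, modulo a subgroup containing the products over the nontrivial orbits. -/
theorem prod_mod [Finite X] (Z : Subgroup V)
    (hZ : ∀ x : X, (∃ a : A, a • x ≠ x) → ∏ᶠ c ∈ orbit A x, f c ∈ Z) :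
    ∃ z ∈ Z, ∏ᶠ c : X, f c = (∏ᶠ c ∈ fixedPoints A X, f c) * z := by
  refine ⟨∏ᶠ c ∈ (fixedPoints A X)ᶜ, f c, ?_, ?_⟩
  · refine prod_invariant Z hZ _ _ le_rfl ?_ ?_
    · intro a y hy h
      apply hy
      intro b
      have h2 := h (b * a⁻¹)
      have h3 := h a⁻¹
      rw [inv_smul_smul] at h3
      rw [mul_smul, inv_smul_smul] at h2
      rw [h2, ← h3]
    · intro y hy
      by_contra hcon
      push Not at hcon
      exact hy hcon
  · rw [← finprod_mem_union disjoint_compl_right (Set.toFinite _) (Set.toFinite _), Set.union_compl_self,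
      finprod_mem_univ]

end H51.NormArg
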