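import Cfsg.Agent.Lib.H51.NormArg
import Cfsg.Agent.Lib.H51.WeakClos
import Cfsg.Agent.Lib.H51.S4Section2

/-! Elements of a normal `p`-subgroup centralized by `N(J(S))` are central (`p` odd, or `p`-th powers). -/

set_option autoImplicit false
set_option linter.unusedSectionVars false

namespace H51.NormCentral

open Cfsg Subgroup H51.AmalgamBasic H51.AmalgamBasic2 H51.SylowAmb H51.ThompsonA H51.WeakClos H51.NormArg MulAction

variable {G : Type*} [Group G] {p : ℕ} [hp : Fact p.Prime]

/-- An element of `p`-power order acting on an abelian `p`-group with fixed points of index at most `p`. -/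
theorem quadratic_of_card [Finite G] {W : Subgroup G} {a : G} (hWab : Ab W)
    (haW : a ∈ normalizer (W : Set G)) (hW : IsPGroup p W) (ha : ∃ k : ℕ, orderOf a = p ^ k)
    (hcard : Nat.card W ≤ p * Nat.card (W ⊓ centralizer ({a} : Set G) : Subgroup G)) {w : G} (hw : w ∈ W) :
    a * (w⁻¹ * (a * w * a⁻¹)) * a⁻¹ = w⁻¹ * (a * w * a⁻¹) ∧ (w⁻¹ * (a * w * a⁻¹)) ^ p = 1 := by
  classical
  have haW' : ∀ v ∈ W, a * v * a⁻¹ ∈ W := fun v hv => (mem_normalizer_iff.1 haW v).1 hv
  let δ : W →* G := MonoidHom.mk' (fun v => (v : G)⁻¹ * (a * v * a⁻¹)) (by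
    intro v v'
    have h1 : (a * (v : G) * a⁻¹) ∈ W := haW' _ v.2
    have h2 := hWab _ (inv_mem v'.2) _ (mul_mem (inv_mem v.2) h1)
    calc ((v * v' : W) : G)⁻¹ * (a * ((v * v' : W) : G) * a⁻¹)
        = ((v' : G)⁻¹ * ((v : G)⁻¹ * (a * v * a⁻¹))) * (a * v' * a⁻¹) := by push_cast; group
      _ = (((v : G)⁻¹ * (a * v * a⁻¹)) * (v' : G)⁻¹) * (a * v' * a⁻¹) := by rw [h2]
      _ = ((v : G)⁻¹ * (a * v * a⁻¹)) * ((v' : G)⁻¹ * (a * v' * a⁻¹)) := by group)
  have hδ : ∀ v : W, δ v = (v : G)⁻¹ * (a * v * a⁻¹) := fun v => rfl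
  have hU : δ.range ≤ W := by
    rintro _ ⟨v, rfl⟩
    exact mul_mem (inv_mem v.2) (haW' _ v.2)
  have hker : δ.ker.map W.subtype = W ⊓ centralizer ({a} : Set G) := by
    ext v
    constructor
    · rintro ⟨v, hv, rfl⟩
      refine Subgroup.mem_inf.2 ⟨v.2, mem_centralizer_singleton_iff.2 ?_⟩
      have h1 : (v : G)⁻¹ * (a * v * a⁻¹) = 1 := hv
      have h2 : a * (v : G) * a⁻¹ = v := by
        calc a * (v : G) * a⁻¹ = v * ((v : G)⁻¹ * (a * v * a⁻¹)) := by group
          _ = v := by rw [h1, mul_one]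
      calc (v : G) * a = (a * v * a⁻¹) * a := by rw [h2]
        _ = a * v := by group
    · intro hv
      obtain ⟨h1, h2⟩ := Subgroup.mem_inf.1 hv
      refine ⟨⟨v, h1⟩, ?_, rfl⟩
      show v⁻¹ * (a * v * a⁻¹) = 1
      rw [← mem_centralizer_singleton_iff.1 h2]; group
  have hcard2 : Nat.card δ.ker * Nat.card δ.range = Nat.card W := by
    have := Subgroup.card_mul_index δ.ker
    rwa [Subgroup.index_ker] at this
  have hcard3 : Nat.card δ.ker = Nat.card (W ⊓ centralizer ({a} : Set G) : Subgroup G) := by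
    rw [← hker, Subgroup.card_map_of_injective W.subtype_injective]
  have hle : Nat.card δ.range ≤ p := by
    rw [← hcard2, hcard3, mul_comm] at hcard
    exact Nat.le_of_mul_le_mul_right hcard Nat.card_pos
  have hUp : IsPGroup p δ.range := hW.to_le hU
  have hu : w⁻¹ * (a * w * a⁻¹) ∈ δ.range := ⟨⟨w, hw⟩, rfl⟩
  by_cases hbot : δ.range = ⊥
  · rw [hbot, Subgroup.mem_bot] at hu
    rw [hu]; simp
  have hUn : a ∈ normalizer (δ.range : Set G) := by
    apply mem_normalizer_of_cj_eq
    apply Subgroup.eq_of_le_of_card_ge _ (card_cj a δ.range).ge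
    rintro _ ⟨_, ⟨v, rfl⟩, rfl⟩
    refine ⟨⟨a * v * a⁻¹, haW' _ v.2⟩, ?_⟩
    show (a * (v : G) * a⁻¹)⁻¹ * (a * (a * v * a⁻¹) * a⁻¹) = a * ((v : G)⁻¹ * (a * v * a⁻¹)) * a⁻¹
    group
  obtain ⟨v, hv, hv1, hav⟩ := H51.S4Section2.exists_fixed hUp hbot ha hUn
  have hcardU : Nat.card δ.range = p := by
    obtain ⟨n, hn⟩ := IsPGroup.iff_card.1 hUp
    have hn0 : n ≠ 0 := by
      rintro rfl
      rw [pow_zero, Subgroup.card_eq_one] at hn
      exact hbot hn
    apply le_antisymm hle
    rw [hn]
    exact Nat.le_self_pow hn0 p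
  have hz : zpowers v = δ.range := by
    apply Subgroup.eq_of_le_of_card_ge (by rwa [zpowers_le])
    rw [hcardU, Nat.card_zpowers]
    have h1 : orderOf v ∣ p := by
      rw [← hcardU]
      have := orderOf_dvd_natCard (⟨v, hv⟩ : δ.range)
      rwa [Subgroup.orderOf_mk] at this
    rcases (Nat.dvd_prime hp.out).1 h1 with h2 | h2
    · exact absurd (orderOf_eq_one_iff.1 h2) hv1
    · exact h2.ge
  constructor
  · rw [← hz] at hu
    obtain ⟨k, hk⟩ := mem_zpowers_iff.1 hu
    rw [← hk, ← conj_zpow, hav]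
  · have h1 : (⟨_, hu⟩ : δ.range) ^ Nat.card δ.range = 1 := pow_card_eq_one'
    rw [hcardU] at h1
    exact congrArg Subtype.val h1

/-- norm formula when `α` acts quadratically -/
theorem norm_formula {V : Type*} [CommGroup V] (α : MulAut V) (w : V) (hu : α (w⁻¹ * α w) = w⁻¹ * α w) (n : ℕ) :
    ∏ i ∈ Finset.range n, (α ^ i) w = w ^ n * (w⁻¹ * α w) ^ (n * (n - 1) / 2) := by
  have h1 : ∀ i : ℕ, (α ^ i) w = w * (w⁻¹ * α w) ^ i := by
    intro i
    induction i with
    | zero => simp
    | succ i ih =>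
      rw [pow_succ', MulAut.mul_apply, ih, map_mul, map_pow, hu, pow_succ']
      rw [← mul_assoc w, mul_inv_cancel_left]
  rw [← Finset.sum_range_id, Finset.prod_congr rfl (fun i _ => h1 i), Finset.prod_mul_distrib, Finset.prod_const,
    Finset.card_range, Finset.prod_pow_eq_pow_sum]

theorem mem_normalizer_J [Finite G] {S : Subgroup G} {g : G} (h : J S ≤ cj g S) : g ∈ normalizer (J S : Set G) := by
  have h1 : J S ≤ cj g (J S) := by
    rw [cj_J]
    refine sSup_le fun B hB => ?_
    apply MaxAb.le_J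
    refine ⟨hB.le_J.trans h, hB.2.1, fun C hC hCab => ?_⟩
    have h2 := hB.2.2 (cj g⁻¹ C) (by rw [cj_le_iff, inv_inv]; exact hC) (hCab.map _)
    rwa [card_cj] at h2
  have h2 : J S = cj g (J S) := Subgroup.eq_of_le_of_card_ge h1 (card_cj g (J S)).le
  exact mem_normalizer_of_cj_eq h2.symm

theorem central_of : ∀ (n : ℕ) {G : Type*} [Group G] [Finite G] {S : Subgroup G}, IsPGroup p S → ¬ p ∣ S.index →
    ∀ {D : Subgroup G}, D.Normal → D ≤ S → ∀ {z : G}, z ∈ D → (∀ s ∈ S, s * z = z * s) →
    ∀ e : ℕ, (p ≠ 2 ∨ p ∣ e) → orderOf (z ^ e) ≤ n → (∀ g ∈ normalizer (J S : Set G), g * z ^ e * g⁻¹ = z ^ e) →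
    z ^ e ∈ Subgroup.center G := by
  intro n
  induction n with
  | zero =>
    intro G _ _ S hS hSi D hDn hDS z hz hzc e he hord hx
    exact absurd hord (Nat.not_le.2 (orderOf_pos _))
  | succ n ih =>
    intro G _ _ S hS hSi D hDn hDS z hz hzc e he hord hx
    classical
    by_cases hx1 : z ^ e = 1
    · rw [hx1]; exact one_mem _
    -- the p-th power is central
    have hxp : ∃ k : ℕ, orderOf (z ^ e) = p ^ k := H51.DihedralInv.p_order_of_mem hS (pow_mem (hDS hz) e)
    have hpow : z ^ (p * e) ∈ Subgroup.center G := by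
      have h1 : z ^ (p * e) = z ^ (e * p) := by rw [mul_comm]
      rw [h1]
      refine ih hS hSi hDn hDS hz hzc (e * p) (Or.inr (dvd_mul_left _ _)) ?_ ?_
      · have h2 : orderOf (z ^ (e * p)) < orderOf (z ^ e) := by
          obtain ⟨k, hk⟩ := hxp
          have hk0 : k ≠ 0 := by
            rintro rfl
            rw [pow_zero, orderOf_eq_one_iff] at hk
            exact hx1 hk
          rw [pow_mul, orderOf_pow, hk]
          have h3 : (p ^ k).gcd p = p := Nat.gcd_eq_right (dvd_pow_self p hk0)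
          rw [h3]
          exact Nat.div_lt_self (pow_pos hp.out.pos _) hp.out.one_lt
        omega
      · intro g hg
        have := hx g hg
        rw [pow_mul, ← conj_pow, this]
    -- the normal closure of z
    set V : Subgroup G := Subgroup.normalClosure {z} with hV
    have hVn : V.Normal := Subgroup.normalClosure_normal
    have hzV : z ∈ V := Subgroup.subset_normalClosure rfl
    have hVD : V ≤ D := Subgroup.normalClosure_le_normal (by simpa using hz)
    have hDc : V ≤ centralizer (D : Set G) := by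
      have hcn : (centralizer (D : Set G)).Normal := inferInstance
      apply Subgroup.normalClosure_le_normal
      simp only [Set.singleton_subset_iff, SetLike.mem_coe]
      rw [mem_centralizer_iff]
      intro d hd
      exact hzc d (hDS hd)
    have hVab : Ab V := by
      intro a ha b hb
      exact (mem_centralizer_iff.1 (hDc hb) a (hVD ha))
    have hVp : IsPGroup p V := hS.to_le (hVD.trans hDS)
    have hcom : IsMulCommutative V := ab_iff.1 hVab
    let _ : CommGroup V := { (inferInstance : Group V) with mul_comm := fun a b => hcom.is_comm.comm a b }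
    -- powers of elements of V are central
    have hVpow : ∀ v ∈ V, v ^ (p * e) ∈ Subgroup.center G := by
      let Z' : Subgroup G :=
        { carrier := {v | v ∈ V ∧ v ^ (p * e) ∈ Subgroup.center G}
          one_mem' := ⟨one_mem _, by rw [one_pow]; exact one_mem _⟩
          mul_mem' := by
            rintro a b ⟨ha, ha'⟩ ⟨hb, hb'⟩
            refine ⟨mul_mem ha hb, ?_⟩
            rw [(show Commute a b from hVab a ha b hb).mul_pow]
            exact mul_mem ha' hb'
          inv_mem' := by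
            rintro a ⟨ha, ha'⟩
            refine ⟨inv_mem ha, ?_⟩
            rw [inv_pow]; exact inv_mem ha' }
      have hle : V ≤ Z' := by
        rw [hV, Subgroup.normalClosure, Subgroup.closure_le]
        intro y hy
        obtain ⟨a, ha, hay⟩ := Group.mem_conjugatesOfSet_iff.1 hy
        rw [Set.mem_singleton_iff] at ha
        rw [ha] at hay
        obtain ⟨c, rfl⟩ := isConj_iff.1 hay
        refine ⟨hVn.conj_mem z hzV c, ?_⟩
        rw [conj_pow]
        have h3 := (Subgroup.mem_center_iff.1 hpow c)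
        rw [h3]
        simpa using hpow
      exact fun v hv => (hle hv).2
    -- the action and the equivariant function
    let ρ : G →* MulAut V := MulAut.conjNormal
    have hρ : ∀ (g : G) (v : V), ((ρ g v : V) : G) = g * v * g⁻¹ := fun g v => MulAut.conjNormal_apply g v
    let f : G ⧸ S → V := fun c => ρ c.out ⟨z, hzV⟩
    have hfmk : ∀ g : G, ((f (QuotientGroup.mk g) : V) : G) = g * z * g⁻¹ := by
      intro g
      show ((ρ (QuotientGroup.mk g : G ⧸ S).out ⟨z, hzV⟩ : V) : G) = _
      rw [hρ]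
      obtain ⟨s, hs⟩ := QuotientGroup.mk_out_eq_mul S g
      rw [hs]
      have := hzc s s.2
      calc (g * (s : G)) * z * (g * (s : G))⁻¹ = g * ((s : G) * z) * (s : G)⁻¹ * g⁻¹ := by group
        _ = g * (z * s) * (s : G)⁻¹ * g⁻¹ := by rw [this]
        _ = g * z * g⁻¹ := by group
    have hfG : ∀ (g : G) (c : G ⧸ S), f (g • c) = ρ g (f c) := by
      intro g c
      obtain ⟨h, rfl⟩ := QuotientGroup.mk_surjective c
      apply Subtype.ext
      have h1 : g • (QuotientGroup.mk h : G ⧸ S) = QuotientGroup.mk (g * h) := rfl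
      rw [h1, hfmk, hρ, hfmk]; group
    set Jm := J S with hJm
    have hJS : Jm ≤ S := J_le S
    have hJp : IsPGroup p Jm := hS.to_le hJS
    let ρJ : Jm →* MulAut V := ρ.comp Jm.subtype
    have hfJ : ∀ (g : Jm) (c : G ⧸ S), f (g • c) = ρJ g (f c) := fun g c => hfG g c
    -- the subgroup Z
    let Z : Subgroup V :=
      { carrier := {v | ((v : G)) ^ e ∈ Subgroup.center G}
        one_mem' := by show ((1 : V) : G) ^ e ∈ Subgroup.center G; rw [Subgroup.coe_one, one_pow]; exact one_mem _
        mul_mem' := by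
          intro a b ha hb
          show ((a * b : V) : G) ^ e ∈ Subgroup.center G
          rw [Subgroup.coe_mul, (show Commute (a : G) b from hVab a a.2 b b.2).mul_pow]
          exact mul_mem ha hb
        inv_mem' := by
          intro a ha
          show ((a⁻¹ : V) : G) ^ e ∈ Subgroup.center G
          rw [Subgroup.coe_inv, inv_pow]; exact inv_mem ha }
    have hmemZ : ∀ v : V, v ∈ Z ↔ (v : G) ^ e ∈ Subgroup.center G := fun v => Iff.rfl
    have hZ : ∀ c : G ⧸ S, (∃ a : Jm, a • c ≠ c) → ∏ᶠ c' ∈ orbit Jm c, f c' ∈ Z := by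
      rintro c ⟨a₁, ha₁⟩
      have hst : stabilizer Jm c ≠ ⊤ := by
        intro h
        apply ha₁
        have : a₁ ∈ stabilizer Jm c := by rw [h]; trivial
        exact this
      obtain ⟨A₁, hA₁, hstA⟩ := (eq_top_or_exists_le_coatom (stabilizer Jm c)).resolve_left hst
      have hA₁n : A₁.Normal := H3.PBasic.normal_of_coatom hJp hA₁
      have hA₁i : A₁.index = p := H3.PBasic.index_of_coatom hJp hA₁
      set J₀ : Subgroup G := A₁.map Jm.subtype with hJ₀
      have hJ₀i : J₀.relIndex Jm = p := by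
        rw [← hA₁i, hJ₀]
        show ((A₁.map Jm.subtype).subgroupOf Jm).index = _
        rw [← Subgroup.comap_subtype, Subgroup.comap_map_eq_self_of_injective Jm.subtype_injective]
      obtain ⟨B, hB, hBJ⟩ : ∃ B, MaxAb B S ∧ ¬ B ≤ J₀ := by
        by_contra hcon
        push Not at hcon
        have h1 : Jm ≤ J₀ := sSup_le hcon
        rw [Subgroup.relIndex_eq_one.2 h1] at hJ₀i
        exact hp.out.one_lt.ne hJ₀i
      obtain ⟨a, haB, haJ₀⟩ := SetLike.not_le_iff_exists.1 hBJ
      have haJ : a ∈ Jm := hB.le_J haB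
      have haA₁ : (⟨a, haJ⟩ : Jm) ∉ A₁ := fun h => haJ₀ ⟨_, h, rfl⟩
      rw [prod_orbit hfJ hA₁i haA₁ c hstA]
      set w : V := ∏ᶠ c' ∈ orbit A₁ c, f c' with hw
      have hwfix : ∀ b : Jm, b ∈ A₁ → ρJ b w = w := fun b hb => fixed hfJ A₁ c hb
      set V₀ : Subgroup G := V ⊓ centralizer (J₀ : Set G) with hV₀
      have hwV₀ : (w : G) ∈ V₀ := by
        refine Subgroup.mem_inf.2 ⟨w.2, mem_centralizer_iff.2 ?_⟩
        rintro _ ⟨b, hb, rfl⟩
        have h1 := congrArg Subtype.val (hwfix b hb)
        have h2 : (b : G) * w * (b : G)⁻¹ = w := h1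
        show (b : G) * w = w * b
        calc (b : G) * w = ((b : G) * w * (b : G)⁻¹) * b := by group
          _ = w * b := by rw [h2]
      have hJ₀n : Jm ≤ normalizer (J₀ : Set G) := by
        intro j hj
        rw [mem_normalizer_iff]
        intro y
        constructor
        · rintro ⟨y, hy, rfl⟩
          exact ⟨⟨j, hj⟩ * y * ⟨j, hj⟩⁻¹, hA₁n.conj_mem y hy _, rfl⟩
        · rintro ⟨y', hy', he'⟩
          refine ⟨⟨j, hj⟩⁻¹ * y' * ⟨j, hj⟩, by simpa using hA₁n.conj_mem y' hy' (⟨j, hj⟩⁻¹), ?_⟩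
          have he2 : (y' : G) = j * y * j⁻¹ := he'
          show j⁻¹ * (y' : G) * j = y
          rw [he2]; group
      have haV₀ : a ∈ normalizer (V₀ : Set G) := by
        apply H51.S4Section2.mem_normalizer_inf
        · rw [Subgroup.normalizer_eq_top_iff.2 hVn]; trivial
        · exact H51.S4Section2.mem_normalizer_centralizer (hJ₀n haJ)
      have hV₀S : V₀ ≤ S := inf_le_left.trans (hVD.trans hDS)
      have hV₀ab : Ab V₀ := hVab.mono inf_le_left
      have hcd : Nat.card V₀ ≤ p * Nat.card (V₀ ⊓ centralizer ({a} : Set G) : Subgroup G) := by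
        have h1 := (hB.card_ineq (A₀ := B ⊓ J₀) (U := V₀) inf_le_left hV₀S hV₀ab (by
          intro b hb v hv
          exact mem_centralizer_iff.1 (Subgroup.mem_inf.1 hv).2 b (Subgroup.mem_inf.1 hb).2)).1
        have h2 : Nat.card B ≤ p * Nat.card (B ⊓ J₀ : Subgroup G) := by
          have h3 := Subgroup.relIndex_mul_relIndex ⊥ (B ⊓ J₀) B bot_le inf_le_left
          rw [Subgroup.relIndex_bot_left, Subgroup.relIndex_bot_left, Subgroup.inf_relIndex_left] at h3
          rw [← h3, mul_comm]
          apply Nat.mul_le_mul_right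
          rw [← hJ₀i]
          exact Subgroup.relIndex_le_of_le_right hB.le_J (by rw [hJ₀i]; exact hp.out.ne_zero)
        have h3 : Nat.card (B ⊓ J₀ ⊓ V₀ : Subgroup G) ≤ Nat.card (V₀ ⊓ centralizer ({a} : Set G) : Subgroup G) := by
          apply Nat.card_le_card_of_injective _ (Subgroup.inclusion_injective _)
          intro b hb
          obtain ⟨hb1, hb2⟩ := Subgroup.mem_inf.1 hb
          refine Subgroup.mem_inf.2 ⟨hb2, mem_centralizer_singleton_iff.2 ?_⟩
          exact hB.2.1 b (Subgroup.mem_inf.1 hb1).1 a haB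
        have h4 : 0 < Nat.card (B ⊓ J₀ : Subgroup G) := Nat.card_pos
        have h5 : Nat.card (B ⊓ J₀ : Subgroup G) * Nat.card V₀ ≤ Nat.card (B ⊓ J₀ : Subgroup G) *
            (p * Nat.card (V₀ ⊓ centralizer ({a} : Set G) : Subgroup G)) := by
          calc Nat.card (B ⊓ J₀ : Subgroup G) * Nat.card V₀ ≤ Nat.card B * Nat.card (B ⊓ J₀ ⊓ V₀ : Subgroup G) := h1
            _ ≤ (p * Nat.card (B ⊓ J₀ : Subgroup G)) * Nat.card (V₀ ⊓ centralizer ({a} : Set G) : Subgroup G) :=
              Nat.mul_le_mul h2 h3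
            _ = _ := by ring
        exact Nat.le_of_mul_le_mul_left h5 h4
      have hao : ∃ k : ℕ, orderOf a = p ^ k := H51.DihedralInv.p_order_of_mem hS (hB.1 haB)
      obtain ⟨hq1, hq2⟩ := quadratic_of_card hV₀ab haV₀ (hVp.to_le inf_le_left) hao hcd hwV₀
      have hu1 : ρ a (w⁻¹ * ρ a w) = w⁻¹ * ρ a w := by
        apply Subtype.ext
        rw [hρ, Subgroup.coe_mul, Subgroup.coe_inv, hρ]
        exact hq1
      have hu2 : (w⁻¹ * ρ a w) ^ p = 1 := by
        apply Subtype.ext
        rw [Subgroup.coe_pow, Subgroup.coe_mul, Subgroup.coe_inv, hρ]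
        exact hq2
      have hnf := norm_formula (ρ a) w hu1 p
      have hprod : ∏ i ∈ Finset.range p, ρJ (⟨a, haJ⟩ ^ i) w = w ^ p * (w⁻¹ * ρ a w) ^ (p * (p - 1) / 2) := by
        rw [← hnf]
        refine Finset.prod_congr rfl (fun i _ => ?_)
        show ρ ((⟨a, haJ⟩ ^ i : Jm) : G) w = _
        rw [Subgroup.coe_pow, map_pow]
      rw [hprod, hmemZ]
      have h6 : ((w ^ p * (w⁻¹ * ρ a w) ^ (p * (p - 1) / 2) : V)) ^ e = w ^ (p * e) := by
        rw [mul_pow, ← pow_mul, ← pow_mul]
        have h7 : (w⁻¹ * ρ a w) ^ (p * (p - 1) / 2 * e) = 1 := by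
          have h8 : p ∣ p * (p - 1) / 2 * e := by
            rcases he with h | h
            · have hodd : Odd p := hp.out.odd_of_ne_two h
              obtain ⟨k, hk⟩ := hodd
              have : p * (p - 1) / 2 = p * k := by
                have : p - 1 = 2 * k := by omega
                rw [this]
                have : p * (2 * k) = 2 * (p * k) := by ring
                rw [this, Nat.mul_div_cancel_left _ (by norm_num)]
              rw [this]
              exact (Dvd.intro _ rfl : p ∣ p * k).mul_right e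
            · exact h.mul_left _
          obtain ⟨k, hk⟩ := h8
          rw [hk, pow_mul, hu2, one_pow]
        rw [h7, mul_one]
      have h9 := congrArg Subtype.val h6
      rw [Subgroup.coe_pow] at h9
      rw [h9, Subgroup.coe_pow]
      exact hVpow _ w.2
    obtain ⟨z', hz'Z, hprod⟩ := prod_mod (A := Jm) Z hZ
    -- the total product is central
    set L : V := ∏ᶠ c : G ⧸ S, f c with hL
    have hLc : (L : G) ∈ Subgroup.center G := by
      rw [Subgroup.mem_center_iff]
      intro g
      have h1 : ρ g L = L := by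
        have h2 := finprod_image hfG g Set.univ
        rw [Set.image_univ, (MulAction.surjective g).range_eq, finprod_mem_univ] at h2
        exact h2.symm
      have h2 := congrArg Subtype.val h1
      rw [hρ] at h2
      calc g * (L : G) = (g * (L : G) * g⁻¹) * g := by group
        _ = L * g := by rw [h2]
    -- the fixed points
    set Fx := fixedPoints Jm (G ⧸ S) with hFx
    have hfx : ∀ c ∈ Fx, (f c) ^ e = (⟨z, hzV⟩ : V) ^ e := by
      intro c hc
      obtain ⟨g, rfl⟩ := QuotientGroup.mk_surjective c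
      apply Subtype.ext
      rw [Subgroup.coe_pow, Subgroup.coe_pow, hfmk]
      show (g * z * g⁻¹) ^ e = z ^ e
      rw [conj_pow]
      -- Jm ≤ cj g S
      have h1 : Jm ≤ cj g S := by
        intro j hj
        have h2 := hc ⟨j, hj⟩
        have h3 : (QuotientGroup.mk (j * g) : G ⧸ S) = QuotientGroup.mk g := h2
        rw [eq_comm, QuotientGroup.eq] at h3
        rw [mem_cj]
        have : g⁻¹ * j * g = g⁻¹ * (j * g) := by group
        rw [this]; exact h3
      rw [hx g (mem_normalizer_J h1)]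
    set P : V := ∏ᶠ c ∈ Fx, f c with hP
    have hPe : P ^ e = ((⟨z, hzV⟩ : V) ^ e) ^ (Nat.card Fx) := by
      rw [hP, finprod_mem_eq_finite_toFinset_prod f (Set.toFinite Fx), ← Finset.prod_pow,
        Finset.prod_congr rfl (fun c hc => hfx c ((Set.Finite.mem_toFinset _).1 hc)), Finset.prod_const]
      congr 1
      rw [Nat.card_coe_set_eq, Set.ncard_eq_toFinset_card Fx (Set.toFinite Fx)]
    have hxm : (z ^ e) ^ (Nat.card Fx) ∈ Subgroup.center G := by
      have h1 : ((P ^ e : V) : G) = (z ^ e) ^ (Nat.card Fx) := by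
        rw [hPe, Subgroup.coe_pow, Subgroup.coe_pow]
      have h2 : ((L ^ e : V) : G) ∈ Subgroup.center G := by
        rw [Subgroup.coe_pow]; exact pow_mem hLc e
      have h3 : P ^ e = L ^ e * (z' ^ e)⁻¹ := by
        rw [hprod, mul_pow, mul_inv_cancel_right]
      rw [← h1, h3, Subgroup.coe_mul, Subgroup.coe_inv]
      exact mul_mem h2 (inv_mem (by rw [Subgroup.coe_pow]; exact hz'Z))
    -- coprimality
    have hcop : (orderOf (z ^ e)).Coprime (Nat.card Fx) := by
      obtain ⟨k, hk⟩ := hxp
      rw [hk]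
      apply Nat.Coprime.pow_left
      rw [Nat.Prime.coprime_iff_not_dvd hp.out]
      intro h
      apply hSi
      have h1 := hJp.card_modEq_card_fixedPoints (G ⧸ S)
      have h2 : Nat.card (G ⧸ S) = S.index := rfl
      rw [h2] at h1
      exact (Nat.modEq_zero_iff_dvd).1 (h1.trans ((Nat.modEq_zero_iff_dvd).2 h))
    -- conclude
    have h1 : z ^ e ∈ zpowers ((z ^ e) ^ (Nat.card Fx)) := by
      obtain ⟨m, hm⟩ := exists_pow_eq_self_of_coprime hcop.symm
      have h0 : ((z ^ e) ^ Nat.card Fx) ^ m ∈ zpowers ((z ^ e) ^ (Nat.card Fx)) := pow_mem (mem_zpowers _) m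
      rw [hm] at h0
      exact h0
    exact (zpowers_le.2 hxm) h1

end H51.NormCentral
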