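import Cfsg.Agent.Lib.H51.OffBig

/-!
Assembling the components.
-/

set_option autoImplicit false
set_option linter.unusedSectionVars false
set_option linter.unusedVariables false

namespace H51.OG

open Cfsg Subgroup H51.FF H51.SylowAmb H53.PU H51.AmalgamBasic

section

variable {p : ℕ} [hp : Fact p.Prime] {H V : Type*} [Group H] [Finite H] [AddCommGroup V] [Finite V]
  [DistribMulAction H V]

/-- if generators have commutators in `U` then so has the group -/
theorem cmt_sSup {𝒯 : Set (Subgroup H)} {U : AddSubgroup V} (h : ∀ X ∈ 𝒯, ∀ x ∈ X, ∀ v : V, x • v - v ∈ U) :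
    ∀ x ∈ sSup 𝒯, ∀ v : V, x • v - v ∈ U := by
  let K : Subgroup H :=
    { carrier := {g | ∀ v : V, g • v - v ∈ U}
      one_mem' := fun v => by rw [one_smul, sub_self]; exact AddSubgroup.zero_mem _
      mul_mem' := by
        intro g g' hg hg' v
        have e : (g * g') • v - v = (g • (g' • v) - (g' • v)) + (g' • v - v) := by rw [mul_smul]; abel
        rw [e]
        exact AddSubgroup.add_mem _ (hg _) (hg' v)
      inv_mem' := by
        intro g hg v
        have e : g⁻¹ • v - v = -(g • (g⁻¹ • v) - (g⁻¹ • v)) := by rw [smul_inv_smul]; abel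
        rw [e]
        exact AddSubgroup.neg_mem _ (hg _) }
  have h1 : sSup 𝒯 ≤ K := sSup_le fun X hX x hx => h X hX x hx
  exact fun x hx => h1 hx

theorem fx_sSup {𝒯 : Set (Subgroup H)} {v : V} (h : ∀ X ∈ 𝒯, v ∈ fx V X) : v ∈ fx V (sSup 𝒯) := by
  have h1 : sSup 𝒯 ≤ MulAction.stabilizer H v := sSup_le fun X hX x hx => h X hX x hx
  exact fun x hx => h1 hx

theorem cmt_mono {A B : Subgroup H} (h : A ≤ B) : cmt V A ≤ cmt V B := cmt_le fun t ht v => sub_mem_cmt (h ht) v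

/-- the assembled data -/
structure Asm (p : ℕ) {H : Type*} (V : Type*) [Group H] [AddCommGroup V] [DistribMulAction H V]
    (T M : Subgroup H) (EX : Subgroup H → Subgroup H) : Prop where
  e1 : ∀ X ∈ AT p V T, ∀ t ∈ T, EX (cg t X) = cg t (EX X)
  e2 : ∀ X ∈ AT p V T, LX p V T X ≤ EX X
  e3 : ∀ X ∈ AT p V T, ∀ Y ∈ AT p V T, EX X ≠ EX Y → ∀ l ∈ EX X, ∀ v : V, l • v - v ∈ fx V (EX Y)
  e4 : ∀ X ∈ AT p V T, ∀ v : V, ∃ c ∈ fx V (EX X), ∃ d ∈ cmt V (EX X), v = c + d
  e5 : ∀ X ∈ AT p V T, EX X ≤ sSup {L | ∃ Y ∈ AT p V T, L = LX p V T Y}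

variable {T M : Subgroup H} (sit : Sit p V T M) (wd : Wd p H V) (fam : Fam p (offs p H V))
  {EX : Subgroup H → Subgroup H} (asm : Asm p V T M EX)

include sit wd fam

/-- the base normal subgroup -/
theorem base_normal : (sSup {L | ∃ Y ∈ AT p V T, L = LX p V T Y} : Subgroup H).Normal := by
  rw [← Subgroup.normalizer_eq_top_iff, eq_top_iff]
  obtain ⟨X, hX⟩ := at_nonempty sit wd fam
  rw [← lx_sup sit wd fam hX]
  have hle : ∀ t ∈ T, cg t (sSup {L | ∃ Y ∈ AT p V T, L = LX p V T Y}) ≤ sSup {L | ∃ Y ∈ AT p V T, L = LX p V T Y} := by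
    intro t ht
    rw [sSup_cg]
    apply sSup_le
    rintro _ ⟨_, ⟨Y, hY, rfl⟩, rfl⟩
    exact le_sSup ⟨cg t Y, at_cg hY ht, (lx_cg ht).symm⟩
  apply sup_le
  · have h1 : LX p V T X ≤ sSup {L | ∃ Y ∈ AT p V T, L = LX p V T Y} := le_sSup ⟨X, hX, rfl⟩
    exact h1.trans Subgroup.le_normalizer
  · intro t ht
    rw [mem_nz_iff]
    apply le_antisymm (hle t ht)
    have := cg_mono (g := t) (hle t⁻¹ (inv_mem ht))
    rwa [cg_cg_inv] at this

theorem base_kern {g : H} (hg : g ∈ sSup {L | ∃ Y ∈ AT p V T, L = LX p V T Y})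
    (h : ∀ v : V, g • v - v ∈ fx V (sSup {L | ∃ Y ∈ AT p V T, L = LX p V T Y})) : g = 1 := by
  set N : Subgroup H := sSup {L | ∃ Y ∈ AT p V T, L = LX p V T Y} with hN
  have hNn : N.Normal := base_normal sit wd fam
  have hinv : ∀ x : H, ∀ v ∈ fx V N, x • v ∈ fx V N := by
    intro x v hv
    rw [← cg_normal (g := x) hNn, mem_fx_cg, inv_smul_smul]; exact hv
  let K : Subgroup H :=
    { carrier := {g | g ∈ N ∧ ∀ v : V, g • v - v ∈ fx V N}
      one_mem' := ⟨one_mem _, fun v => by rw [one_smul, sub_self]; exact AddSubgroup.zero_mem _⟩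
      mul_mem' := by
        rintro g g' ⟨h1, hg⟩ ⟨h2, hg'⟩
        refine ⟨mul_mem h1 h2, fun v => ?_⟩
        have e : (g * g') • v - v = (g • (g' • v) - (g' • v)) + (g' • v - v) := by rw [mul_smul]; abel
        rw [e]
        exact AddSubgroup.add_mem _ (hg _) (hg' v)
      inv_mem' := by
        rintro g ⟨h1, hg⟩
        refine ⟨inv_mem h1, fun v => ?_⟩
        have e : g⁻¹ • v - v = -(g • (g⁻¹ • v) - (g⁻¹ • v)) := by rw [smul_inv_smul]; abel
        rw [e]
        exact AddSubgroup.neg_mem _ (hg _) }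
  have hKn : K.Normal := by
    refine ⟨fun k hk x => ⟨hNn.conj_mem k hk.1 x, fun v => ?_⟩⟩
    have e : (x * k * x⁻¹) • v - v = x • (k • (x⁻¹ • v) - x⁻¹ • v) := by
      rw [smul_sub, smul_inv_smul, mul_smul, mul_smul]
    rw [e]
    exact hinv x _ (hk.2 _)
  have hKpow : ∀ k ∈ K, ∀ n : ℕ, ∀ v : V, k ^ n • v = v + n • (k • v - v) := by
    intro k hk n v
    induction n with
    | zero => rw [pow_zero, one_smul, zero_smul, add_zero]
    | succ n ih =>
      rw [pow_succ', mul_smul, ih, smul_add, smul_comm k n, (hk.2 v) k hk.1, succ_nsmul]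
      abel
  have hKp : IsPGroup p K := by
    intro ⟨k, hk⟩
    refine ⟨1, Subtype.ext ?_⟩
    rw [pow_one]
    show k ^ p = 1
    apply sit.faith
    intro v
    rw [hKpow k hk, sit.pz, add_zero]
  have h1 := sit.ms.core K hKn hKp
  have h2 : g ∈ K := ⟨hg, h⟩
  rw [h1, Subgroup.mem_bot] at h2
  exact h2

include asm

theorem Asm.sup_eq : sSup {E | ∃ Y ∈ AT p V T, E = EX Y} = sSup {L | ∃ Y ∈ AT p V T, L = LX p V T Y} := by
  apply le_antisymm
  · apply sSup_le
    rintro _ ⟨Y, hY, rfl⟩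
    exact asm.e5 Y hY
  · apply sSup_le
    rintro _ ⟨Y, hY, rfl⟩
    exact (asm.e2 Y hY).trans (le_sSup ⟨Y, hY, rfl⟩)

theorem Asm.kern {X : Subgroup H} (hX : X ∈ AT p V T) {g : H} (hg : g ∈ EX X)
    (h : ∀ v : V, g • v - v ∈ fx V (EX X)) : g = 1 := by
  apply base_kern sit wd fam (asm.e5 X hX hg)
  intro v
  rw [← asm.sup_eq sit wd fam]
  apply fx_sSup
  rintro _ ⟨Y, hY, rfl⟩
  by_cases hne : EX X = EX Y
  · rw [← hne]; exact h v
  · exact asm.e3 X hX Y hY hne g hg v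

end

end H51.OG
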