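import Cfsg.Agent.Lib.H51.OffBig

/-!
Coordinates for an `SL₂`-pair adapted to the two members.
-/

set_option autoImplicit false
set_option linter.unusedSectionVars false
set_option linter.unusedVariables false

namespace H51.OG

open Cfsg Subgroup H51.FF H51.SylowAmb H53.PU H51.AmalgamBasic
open scoped MatrixGroups

section

variable {p : ℕ} [hp : Fact p.Prime] {H V : Type*} [Group H] [Finite H] [AddCommGroup V] [Finite V]
  [DistribMulAction H V]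

theorem nz_smul_fx {A : Subgroup H} {y : H} (hy : y ∈ normalizer (A : Set H)) {v : V} (hv : v ∈ fx V A) :
    y • v ∈ fx V A := by
  have h := mem_nz_iff.1 hy
  rw [← h, mem_fx_cg, inv_smul_smul]
  exact hv

theorem PQ.coord_iff {A B L : Subgroup H} (pq : PQ p V A B) (hL : A ⊔ B = L) {F : Type} [Field F] [Fintype F]
    (ρ : ↥L ≃* Matrix.SpecialLinearGroup (Fin 2) F) (Ψ : V →+ (Fin 2 → F)) (h1 : Function.Surjective Ψ)
    (h2 : ∀ v, Ψ v = 0 ↔ v ∈ fx V L) (h3 : ∀ (h : ↥L) (v : V),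
      Ψ ((h : H) • v) = ((ρ h : Matrix.SpecialLinearGroup (Fin 2) F) : Matrix (Fin 2) (Fin 2) F).mulVec (Ψ v))
    (h4 : Fintype.card F = Nat.card A) {u : V} (hu : u ∈ fx V A) (hu1 : u ∉ fx V L) (v : V) :
    v ∈ fx V A ↔ (Ψ u) 0 * (Ψ v) 1 - (Ψ u) 1 * (Ψ v) 0 = 0 := by
  classical
  subst hL
  have hw : Ψ u ≠ 0 := fun h => hu1 ((h2 u).1 h)
  constructor
  · intro hv
    obtain ⟨a, ha1⟩ := Subgroup.ne_bot_iff_exists_ne_one.1 ((Subgroup.one_lt_card_iff_ne_bot A).1 pq.one_lt)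
    by_contra hdet
    apply ha1
    let a' : ↥(A ⊔ B) := ⟨a, Subgroup.mem_sup_left a.2⟩
    have e1 : ((ρ a' : Matrix.SpecialLinearGroup (Fin 2) F) : Matrix (Fin 2) (Fin 2) F).mulVec (Ψ u) = Ψ u := by
      rw [← h3]
      exact congrArg Ψ (hu a a.2)
    have e2 : ((ρ a' : Matrix.SpecialLinearGroup (Fin 2) F) : Matrix (Fin 2) (Fin 2) F).mulVec (Ψ v) = Ψ v := by
      rw [← h3]
      exact congrArg Ψ (hv a a.2)
    have e3 := sl_eq_one e1 e2 hdet
    have e4 : a' = 1 := ρ.injective (by rw [e3, map_one])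
    exact Subtype.ext (congrArg (fun x : ↥(A ⊔ B) => (x : H)) e4)
  · intro h
    obtain ⟨t, ht⟩ := exists_smul hw h
    exact pq.fx_coord ρ Ψ h1 h2 h3 h4 hu hu1 ht

/-- adapted coordinates -/
structure NF {H : Type*} (V : Type*) [Group H] [AddCommGroup V] [DistribMulAction H V] (A B : Subgroup H)
    {F : Type} [Field F] [Fintype F] (ρ : ↥(A ⊔ B) ≃* Matrix.SpecialLinearGroup (Fin 2) F)
    (Ψ : V →+ (Fin 2 → F)) : Prop where
  surj : Function.Surjective Ψ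
  ker : ∀ v, Ψ v = 0 ↔ v ∈ fx V (A ⊔ B)
  act : ∀ (h : ↥(A ⊔ B)) (v : V),
      Ψ ((h : H) • v) = ((ρ h : Matrix.SpecialLinearGroup (Fin 2) F) : Matrix (Fin 2) (Fin 2) F).mulVec (Ψ v)
  card : Fintype.card F = Nat.card A
  fA : ∀ v, v ∈ fx V A ↔ Ψ v 1 = 0
  fB : ∀ v, v ∈ fx V B ↔ Ψ v 0 = 0

theorem PQ.exists_nf {A B : Subgroup H} (pq : PQ p V A B) : ∃ (F : Type) (_ : Field F) (_ : Fintype F)
    (ρ : ↥(A ⊔ B) ≃* Matrix.SpecialLinearGroup (Fin 2) F) (Ψ : V →+ (Fin 2 → F)), NF V A B ρ Ψ := by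
  classical
  obtain ⟨F, i1, i2, ρ, Ψ, h1, h2, h3, h4⟩ := pq.main
  obtain ⟨w, hwB, hwA⟩ := pq.exists_fx
  obtain ⟨u, huA, huB⟩ := pq.symm.exists_fx
  have hwL : w ∉ fx V (A ⊔ B) := fun h => hwA (fx_anti le_sup_left h)
  have huL : u ∉ fx V (A ⊔ B) := fun h => huB (fx_anti le_sup_right h)
  have hA := pq.coord_iff rfl ρ Ψ h1 h2 h3 h4 huA huL
  have hB := pq.symm.coord_iff (sup_comm B A) ρ Ψ h1 h2 h3 (by rw [h4, pq.cardB]) hwB hwL
  set a := Ψ u with ha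
  set b := Ψ w with hb
  have hd : a 0 * b 1 - a 1 * b 0 ≠ 0 := fun h => hwA ((hA w).2 h)
  set d := a 0 * b 1 - a 1 * b 0 with hdd
  let P : SL(2, F) := ⟨!![b 1 / d, - (b 0 / d); - a 1, a 0], by
    rw [Matrix.det_fin_two_of]
    field_simp
    rw [hdd]; ring⟩
  let Ψ' : V →+ (Fin 2 → F) :=
    { toFun := fun v => (P : Matrix (Fin 2) (Fin 2) F).mulVec (Ψ v)
      map_zero' := by rw [map_zero, Matrix.mulVec_zero]
      map_add' := fun x y => by rw [map_add, Matrix.mulVec_add] }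
  have hPP : ∀ v : Fin 2 → F, ((P⁻¹ : SL(2, F)) : Matrix (Fin 2) (Fin 2) F).mulVec
      ((P : Matrix (Fin 2) (Fin 2) F).mulVec v) = v := by
    intro v
    rw [Matrix.mulVec_mulVec, ← Matrix.SpecialLinearGroup.coe_mul, inv_mul_cancel,
      Matrix.SpecialLinearGroup.coe_one, Matrix.one_mulVec]
  have hPP' : ∀ v : Fin 2 → F, (P : Matrix (Fin 2) (Fin 2) F).mulVec
      (((P⁻¹ : SL(2, F)) : Matrix (Fin 2) (Fin 2) F).mulVec v) = v := by
    intro v
    rw [Matrix.mulVec_mulVec, ← Matrix.SpecialLinearGroup.coe_mul, mul_inv_cancel,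
      Matrix.SpecialLinearGroup.coe_one, Matrix.one_mulVec]
  have hΨ' : ∀ v, Ψ' v = (P : Matrix (Fin 2) (Fin 2) F).mulVec (Ψ v) := fun v => rfl
  have e0 : ∀ v, Ψ' v 0 = (b 1 / d) * Ψ v 0 + - (b 0 / d) * Ψ v 1 := by
    intro v
    rw [hΨ']
    simp [P, Matrix.mulVec, dotProduct, Fin.sum_univ_two]
  have e1 : ∀ v, Ψ' v 1 = - a 1 * Ψ v 0 + a 0 * Ψ v 1 := by
    intro v
    rw [hΨ']
    simp [P, Matrix.mulVec, dotProduct, Fin.sum_univ_two]
  refine ⟨F, i1, i2, ρ.trans (MulAut.conj P), Ψ', ?_, ?_, ?_, h4, ?_, ?_⟩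
  · intro y
    obtain ⟨v, hv⟩ := h1 (((P⁻¹ : SL(2, F)) : Matrix (Fin 2) (Fin 2) F).mulVec y)
    exact ⟨v, by rw [hΨ', hv, hPP']⟩
  · intro v
    rw [← h2, hΨ']
    constructor
    · intro h
      rw [← hPP (Ψ v), h, Matrix.mulVec_zero]
    · intro h
      rw [h, Matrix.mulVec_zero]
  · intro h v
    rw [hΨ', hΨ', h3]
    show _ = ((P * ρ h * P⁻¹ : SL(2, F)) : Matrix (Fin 2) (Fin 2) F).mulVec _
    rw [Matrix.SpecialLinearGroup.coe_mul, Matrix.SpecialLinearGroup.coe_mul, ← Matrix.mulVec_mulVec,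
      ← Matrix.mulVec_mulVec, hPP]
  · intro v
    rw [hA, e1]
    constructor
    · intro h; linear_combination h
    · intro h; linear_combination h
  · intro v
    rw [hB, e0]
    constructor
    · intro h
      have : (b 1 / d) * Ψ v 0 + - (b 0 / d) * Ψ v 1 = - (b 0 * Ψ v 1 - b 1 * Ψ v 0) / d := by
        field_simp; ring
      rw [this, h, neg_zero, zero_div]
    · intro h
      have : b 0 * Ψ v 1 - b 1 * Ψ v 0 = - d * ((b 1 / d) * Ψ v 0 + - (b 0 / d) * Ψ v 1) := by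
        field_simp; ring
      rw [this, h, mul_zero]

section nf

variable {A B : Subgroup H} {F : Type} [Field F] [Fintype F] {ρ : ↥(A ⊔ B) ≃* Matrix.SpecialLinearGroup (Fin 2) F}
  {Ψ : V →+ (Fin 2 → F)} (nf : NF V A B ρ Ψ)

include nf

theorem NF.exists_up {a : ↥(A ⊔ B)} (ha : (a : H) ∈ A) : ∃ s : F, ρ a = H85.SL2.up s := by
  obtain ⟨v, hv⟩ := nf.surj ![1, 0]
  have h1 : v ∈ fx V A := (nf.fA v).2 (by rw [hv]; rfl)
  have h2 := nf.act a v
  rw [h1 a ha, hv] at h2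
  have a0 := congrFun h2 0
  have a1 := congrFun h2 1
  simp only [Matrix.mulVec, dotProduct, Fin.sum_univ_two, Matrix.cons_val_zero, Matrix.cons_val_one, mul_one,
    mul_zero, add_zero] at a0 a1
  have hdet := (ρ a).2
  rw [Matrix.det_fin_two, ← a0, ← a1] at hdet
  refine ⟨(ρ a : Matrix (Fin 2) (Fin 2) F) 0 1, ?_⟩
  apply Subtype.ext
  ext i j
  fin_cases i <;> fin_cases j
  · exact a0.symm
  · rfl
  · exact a1.symm
  · show (ρ a : Matrix (Fin 2) (Fin 2) F) 1 1 = 1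
    linear_combination hdet

theorem NF.exists_lo {b : ↥(A ⊔ B)} (hb : (b : H) ∈ B) : ∃ s : F, ρ b = H85.SL2.lo s := by
  obtain ⟨v, hv⟩ := nf.surj ![0, 1]
  have h1 : v ∈ fx V B := (nf.fB v).2 (by rw [hv]; rfl)
  have h2 := nf.act b v
  rw [h1 b hb, hv] at h2
  have a0 := congrFun h2 0
  have a1 := congrFun h2 1
  simp only [Matrix.mulVec, dotProduct, Fin.sum_univ_two, Matrix.cons_val_zero, Matrix.cons_val_one, mul_one,
    mul_zero, zero_add] at a0 a1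
  have hdet := (ρ b).2
  rw [Matrix.det_fin_two, ← a0, ← a1] at hdet
  refine ⟨(ρ b : Matrix (Fin 2) (Fin 2) F) 1 0, ?_⟩
  apply Subtype.ext
  ext i j
  fin_cases i <;> fin_cases j
  · show (ρ b : Matrix (Fin 2) (Fin 2) F) 0 0 = 1
    linear_combination hdet
  · exact a0.symm
  · rfl
  · exact a1.symm

theorem NF.up_mem (s : F) : ((ρ.symm (H85.SL2.up s) : ↥(A ⊔ B)) : H) ∈ A := by
  classical
  let f : ↥A → F := fun a => (nf.exists_up (a := ⟨a, Subgroup.mem_sup_left a.2⟩) a.2).choose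
  have hf : ∀ a : ↥A, ρ ⟨a, Subgroup.mem_sup_left a.2⟩ = H85.SL2.up (f a) := fun a =>
    (nf.exists_up (a := ⟨a, Subgroup.mem_sup_left a.2⟩) a.2).choose_spec
  have hinj : Function.Injective f := by
    intro a b hab
    have h1 := (hf a).trans ((congrArg H85.SL2.up hab).trans (hf b).symm)
    have h2 := ρ.injective h1
    exact Subtype.ext (congrArg (fun x : ↥(A ⊔ B) => (x : H)) h2)
  have hsurj : Function.Surjective f := by
    have hc : Nat.card ↥A = Nat.card F := by rw [← nf.card, Nat.card_eq_fintype_card]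
    exact ((Nat.bijective_iff_injective_and_card f).2 ⟨hinj, hc⟩).2
  obtain ⟨a, rfl⟩ := hsurj s
  rw [← hf a, MulEquiv.symm_apply_apply]
  exact a.2

theorem NF.lo_mem (hB : Nat.card B = Nat.card A) (s : F) : ((ρ.symm (H85.SL2.lo s) : ↥(A ⊔ B)) : H) ∈ B := by
  classical
  let f : ↥B → F := fun a => (nf.exists_lo (b := ⟨a, Subgroup.mem_sup_right a.2⟩) a.2).choose
  have hf : ∀ a : ↥B, ρ ⟨a, Subgroup.mem_sup_right a.2⟩ = H85.SL2.lo (f a) := fun a =>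
    (nf.exists_lo (b := ⟨a, Subgroup.mem_sup_right a.2⟩) a.2).choose_spec
  have hinj : Function.Injective f := by
    intro a b hab
    have h1 := (hf a).trans ((congrArg H85.SL2.lo hab).trans (hf b).symm)
    have h2 := ρ.injective h1
    exact Subtype.ext (congrArg (fun x : ↥(A ⊔ B) => (x : H)) h2)
  have hsurj : Function.Surjective f := by
    have hc : Nat.card ↥B = Nat.card F := by rw [hB, ← nf.card, Nat.card_eq_fintype_card]
    exact ((Nat.bijective_iff_injective_and_card f).2 ⟨hinj, hc⟩).2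
  obtain ⟨a, rfl⟩ := hsurj s
  rw [← hf a, MulEquiv.symm_apply_apply]
  exact a.2

/-- members are the unipotent subgroups -/
theorem NF.mem_A {a : ↥(A ⊔ B)} : (a : H) ∈ A ↔ ∃ s : F, ρ a = H85.SL2.up s := by
  refine ⟨nf.exists_up, ?_⟩
  rintro ⟨s, hs⟩
  have := nf.up_mem s
  rwa [← hs, MulEquiv.symm_apply_apply] at this

theorem NF.mem_B (hB : Nat.card B = Nat.card A) {a : ↥(A ⊔ B)} : (a : H) ∈ B ↔ ∃ s : F, ρ a = H85.SL2.lo s := by
  refine ⟨nf.exists_lo, ?_⟩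
  rintro ⟨s, hs⟩
  have := nf.lo_mem hB s
  rwa [← hs, MulEquiv.symm_apply_apply] at this

/-- torus elements normalize `A` -/
theorem NF.dg_nzA {t : F} (ht : t ≠ 0) : ((ρ.symm (dg t ht) : ↥(A ⊔ B)) : H) ∈ normalizer (A : Set H) := by
  rw [mem_nz_iff]
  have key : ∀ (t : F) (ht : t ≠ 0), cg ((ρ.symm (dg t ht) : ↥(A ⊔ B)) : H) A ≤ A := by
    intro t ht x hx
    rw [mem_cg] at hx
    have hxL : x ∈ A ⊔ B := by
      have e : x = (ρ.symm (dg t ht) : ↥(A ⊔ B)) * (((ρ.symm (dg t ht) : ↥(A ⊔ B)) : H)⁻¹ * x * (ρ.symm (dg t ht) : ↥(A ⊔ B))) *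
          ((ρ.symm (dg t ht) : ↥(A ⊔ B)) : H)⁻¹ := by group
      rw [e]
      exact mul_mem (mul_mem (SetLike.coe_mem _) (Subgroup.mem_sup_left hx)) (inv_mem (SetLike.coe_mem _))
    obtain ⟨s, hs⟩ := nf.exists_up (a := (ρ.symm (dg t ht))⁻¹ * ⟨x, hxL⟩ * ρ.symm (dg t ht)) hx
    have h1 : ρ ⟨x, hxL⟩ = H85.SL2.up (t ^ 2 * s) := by
      rw [← dg_up t ht, ← hs]
      simp only [map_mul, map_inv, MulEquiv.apply_symm_apply]
      group
    exact (nf.mem_A (a := ⟨x, hxL⟩)).2 ⟨_, h1⟩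
  apply le_antisymm (key t ht)
  have h2 : ((ρ.symm (dg t ht) : ↥(A ⊔ B)) : H)⁻¹ = ((ρ.symm (dg t⁻¹ (inv_ne_zero ht)) : ↥(A ⊔ B)) : H) := by
    rw [← Subgroup.coe_inv, ← map_inv]
    congr 2
    rw [inv_eq_iff_mul_eq_one]
    apply Subtype.ext
    rw [Matrix.SpecialLinearGroup.coe_mul, dg_coe, dg_coe, Matrix.mul_fin_two, Matrix.SpecialLinearGroup.coe_one,
      Matrix.one_fin_two]
    simp [ht]
  have h3 := key t⁻¹ (inv_ne_zero ht)
  rw [← h2, cg_le_iff, inv_inv] at h3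
  exact h3

/-- torus elements normalize `B` -/
theorem NF.dg_nzB (hB : Nat.card B = Nat.card A) {t : F} (ht : t ≠ 0) :
    ((ρ.symm (dg t ht) : ↥(A ⊔ B)) : H) ∈ normalizer (B : Set H) := by
  rw [mem_nz_iff]
  have dg_lo : ∀ (s : F) (hs : s ≠ 0) (t : F), dg s hs * H85.SL2.lo t * (dg s hs)⁻¹ = H85.SL2.lo (s⁻¹ ^ 2 * t) := by
    intro s hs t
    rw [mul_inv_eq_iff_eq_mul]
    apply Subtype.ext
    rw [Matrix.SpecialLinearGroup.coe_mul, Matrix.SpecialLinearGroup.coe_mul, dg_coe, H85.SL2.lo_coe, H85.SL2.lo_coe,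
      Matrix.mul_fin_two, Matrix.mul_fin_two]
    ext i j
    fin_cases i <;> fin_cases j <;> simp <;> field_simp
  have key : ∀ (t : F) (ht : t ≠ 0), cg ((ρ.symm (dg t ht) : ↥(A ⊔ B)) : H) B ≤ B := by
    intro t ht x hx
    rw [mem_cg] at hx
    have hxL : x ∈ A ⊔ B := by
      have e : x = (ρ.symm (dg t ht) : ↥(A ⊔ B)) * (((ρ.symm (dg t ht) : ↥(A ⊔ B)) : H)⁻¹ * x * (ρ.symm (dg t ht) : ↥(A ⊔ B))) *
          ((ρ.symm (dg t ht) : ↥(A ⊔ B)) : H)⁻¹ := by group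
      rw [e]
      exact mul_mem (mul_mem (SetLike.coe_mem _) (Subgroup.mem_sup_right hx)) (inv_mem (SetLike.coe_mem _))
    obtain ⟨s, hs⟩ := nf.exists_lo (b := (ρ.symm (dg t ht))⁻¹ * ⟨x, hxL⟩ * ρ.symm (dg t ht)) hx
    have h1 : ρ ⟨x, hxL⟩ = H85.SL2.lo (t⁻¹ ^ 2 * s) := by
      rw [← dg_lo t ht, ← hs]
      simp only [map_mul, map_inv, MulEquiv.apply_symm_apply]
      group
    exact (nf.mem_B hB (a := ⟨x, hxL⟩)).2 ⟨_, h1⟩
  apply le_antisymm (key t ht)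
  have h2 : ((ρ.symm (dg t ht) : ↥(A ⊔ B)) : H)⁻¹ = ((ρ.symm (dg t⁻¹ (inv_ne_zero ht)) : ↥(A ⊔ B)) : H) := by
    rw [← Subgroup.coe_inv, ← map_inv]
    congr 2
    rw [inv_eq_iff_mul_eq_one]
    apply Subtype.ext
    rw [Matrix.SpecialLinearGroup.coe_mul, dg_coe, dg_coe, Matrix.mul_fin_two, Matrix.SpecialLinearGroup.coe_one,
      Matrix.one_fin_two]
    simp [ht]
  have h3 := key t⁻¹ (inv_ne_zero ht)
  rw [← h2, cg_le_iff, inv_inv] at h3
  exact h3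

/-- elements of `A ⊔ B` normalizing both members have order dividing `q - 1` -/
theorem NF.pow_of_nz {y : ↥(A ⊔ B)} (h1 : (y : H) ∈ normalizer (A : Set H)) (h2 : (y : H) ∈ normalizer (B : Set H)) :
    y ^ (Nat.card A - 1) = 1 := by
  obtain ⟨u, hu⟩ := nf.surj ![1, 0]
  obtain ⟨w, hw⟩ := nf.surj ![0, 1]
  have h3 : (y : H) • u ∈ fx V A := nz_smul_fx h1 ((nf.fA u).2 (by rw [hu]; rfl))
  have h4 : (y : H) • w ∈ fx V B := nz_smul_fx h2 ((nf.fB w).2 (by rw [hw]; rfl))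
  have h5 := (nf.fA _).1 h3
  have h6 := (nf.fB _).1 h4
  rw [nf.act, hu] at h5
  rw [nf.act, hw] at h6
  simp only [Matrix.mulVec, dotProduct, Fin.sum_univ_two, Matrix.cons_val_zero, Matrix.cons_val_one, mul_one,
    mul_zero, add_zero, zero_add] at h5 h6
  have hdet := (ρ y).2
  rw [Matrix.det_fin_two, h5, h6, mul_zero, sub_zero] at hdet
  have ht : (ρ y : Matrix (Fin 2) (Fin 2) F) 0 0 ≠ 0 := left_ne_zero_of_mul_eq_one hdet
  have h7 : ρ y = dg _ ht := by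
    apply Subtype.ext
    rw [dg_coe]
    ext i j
    fin_cases i <;> fin_cases j
    · rfl
    · exact h6
    · exact h5
    · show (ρ y : Matrix (Fin 2) (Fin 2) F) 1 1 = ((ρ y : Matrix (Fin 2) (Fin 2) F) 0 0)⁻¹
      exact eq_inv_of_mul_eq_one_right hdet
  apply ρ.injective
  rw [map_pow, map_one, ← nf.card, h7]
  apply Subtype.ext
  rw [dg_pow, FiniteField.pow_card_sub_one_eq_one _ ht, FiniteField.pow_card_sub_one_eq_one _ (inv_ne_zero ht)]
  exact (Matrix.one_fin_two).symm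

end nf

end

end H51.OG
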