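import Cfsg.Agent.Lib.H51.OffTwoB

/-!
The structure theorem, module version.
-/

set_option autoImplicit false
set_option linter.unusedSectionVars false
set_option linter.unusedVariables false

namespace H51.OG

open Cfsg Subgroup H51.FF H51.SylowAmb H53.PU H51.AmalgamBasic

section

/-- `SL₂` on its natural module modulo fixed points -/
def IsSL (p n : ℕ) {H : Type*} (V : Type*) [Group H] [AddCommGroup V] [DistribMulAction H V] (E : Subgroup H) : Prop :=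
  ∃ (F : Type) (_ : Field F) (_ : Fintype F) (ρ : ↥E ≃* Matrix.SpecialLinearGroup (Fin 2) F) (Ψ : V →+ (Fin 2 → F)),
    Fintype.card F = p ^ n ∧ Function.Surjective Ψ ∧ (∀ v, Ψ v = 0 ↔ v ∈ fx V E) ∧
    ∀ (h : E) (v : V), Ψ ((h : H) • v) =
      ((ρ h : Matrix.SpecialLinearGroup (Fin 2) F) : Matrix (Fin 2) (Fin 2) F).mulVec (Ψ v)

/-- the symmetric group on its even-weight module modulo fixed points -/
def IsSy (n : ℕ) {H : Type*} (V : Type*) [Group H] [AddCommGroup V] [DistribMulAction H V] (E : Subgroup H) : Prop :=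
  ∃ (ρ : E ≃* Equiv.Perm (Fin n)) (Ψ : V →+ (Fin n → ZMod 2)),
      (∀ v, ∑ i, Ψ v i = 0) ∧ (∀ w : Fin n → ZMod 2, ∑ i, w i = 0 → ∃ v, Ψ v = w) ∧ (∀ v, Ψ v = 0 ↔ v ∈ fx V E) ∧
      (∀ (g : E) (v : V) (i : Fin n), Ψ ((g : H) • v) i = Ψ v ((ρ g)⁻¹ i))

variable {p : ℕ} [hp : Fact p.Prime] {H V : Type*} [Group H] [Finite H] [AddCommGroup V] [Finite V]
  [DistribMulAction H V] {T M : Subgroup H}

theorem asm1 (sit : Sit p V T M) (wd : Wd p H V) (fam : Fam p (offs p H V))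
    (hq : ∀ X ∈ AT p V T, 2 < Nat.card X) : Asm p V T M (LX p V T) := by
  refine ⟨fun X hX t ht => lx_cg ht, fun X hX => le_rfl, ?_, fun X hX v => lx_split sit wd fam hX v, ?_⟩
  · intro X hX Y hY hne l hl v
    exact big_comm sit wd fam hY hX (fun h => hne (by rw [h])) (hq Y hY) l hl v
  · intro X hX
    exact le_sSup ⟨X, hX, rfl⟩

/-- the data for both cases -/
theorem exists_asm (sit : Sit p V T M) (wd : Wd p H V) (fam : Fam p (offs p H V)) :
    ∃ EX : Subgroup H → Subgroup H, Asm p V T M EX ∧ ∀ X ∈ AT p V T, ∃ n : ℕ, 1 ≤ n ∧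
      (IsSL p n V (EX X) ∨ (p = 2 ∧ IsSy (2 ^ n + 1) V (EX X))) := by
  obtain ⟨X₀, hX₀⟩ := at_nonempty sit wd fam
  by_cases hq : 2 < Nat.card X₀
  · refine ⟨LX p V T, asm1 sit wd fam (fun X hX => by rw [at_card sit wd fam hX hX₀]; exact hq), ?_⟩
    intro X hX
    obtain ⟨n, hn⟩ := IsPGroup.iff_card.1 hX.1.1
    refine ⟨n, ?_, Or.inl ?_⟩
    · by_contra h
      have h0 : n = 0 := by omega
      rw [h0, pow_zero] at hn
      have := wd.one_lt hX.1
      omega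
    · obtain ⟨Z, hZ, hne, _⟩ := at_exZ sit wd fam hX
      have hXW := at_self sit wd fam hX
      have pq := at_pq sit wd fam hX hXW hZ hne.symm
      rw [at_lx sit wd fam hX hXW hZ hne.symm]
      obtain ⟨F, i1, i2, ρ, Ψ, h1, h2, h3, h4⟩ := pq.main
      exact ⟨F, i1, i2, ρ, Ψ, by rw [h4, hn], h1, h2, h3⟩
  · have h2c : ∀ X ∈ AT p V T, Nat.card X = 2 := by
      intro X hX
      have h1 := wd.one_lt hX₀.1
      rw [at_card sit wd fam hX hX₀]
      omega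
    have asm := asm2 sit wd fam h2c
    refine ⟨EX2 p V T, asm, ?_⟩
    intro X hX
    obtain ⟨J, i1, i2, s, φ, c, k, st, hc, hE, hJ⟩ := exists_star sit wd fam h2c hX
    have hp2 : p = 2 := by
      have h1 := h2c X hX
      obtain ⟨n, hn⟩ := IsPGroup.iff_card.1 hX.1.1
      rw [h1] at hn
      have h2 : n ≠ 0 := by rintro rfl; simp at hn
      have h3 : p ∣ 2 := by rw [hn]; exact dvd_pow_self p h2
      exact (Nat.prime_dvd_prime_iff_eq hp.out Nat.prime_two).1 h3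
    refine ⟨k + 1, by omega, Or.inr ⟨hp2, ?_⟩⟩
    have hJ0 : Nonempty J := by
      apply Fintype.card_pos_iff.1
      rw [hJ]
      have := hp.out.pos
      positivity
    exact st.main (by rw [hJ]; exact even_two_mul _) hJ0 hc hE (fun g hg h => asm.kern sit wd fam hX hg h)
      (by rw [hJ, hp2]; ring)

/-- the final list of properties -/
structure Out (p : ℕ) {H : Type*} (V : Type*) [Group H] [AddCommGroup V] [DistribMulAction H V]
    (T : Subgroup H) {r : ℕ} (E : Fin r → Subgroup H) : Prop where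
  pos : 1 ≤ r
  cmt : ∀ i j, i ≠ j → ∀ e ∈ E i, ∀ v : V, e • v - v ∈ fx V (E j)
  top : (⨆ i, E i) ⊔ T = ⊤
  conj : ∀ i j, ∃ t ∈ T, cg t (E i) = E j
  split : ∀ i, ∀ v : V, ∃ c ∈ fx V (E i), ∃ d ∈ H53.PU.cmt V (E i), v = c + d
  str : ∀ i, ∃ n : ℕ, 1 ≤ n ∧ (IsSL p n V (E i) ∨ (p = 2 ∧ IsSy (2 ^ n + 1) V (E i)))
  faith : ∀ h : H, (∀ v : V, h • v = v) → h = 1

theorem final (sit : Sit p V T M) : ∃ (r : ℕ) (E : Fin r → Subgroup H), Out p V T E ∧
    (⨆ i, E i) = sSup {L | ∃ Y ∈ AT p V T, L = LX p V T Y} := by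
  classical
  obtain ⟨wd, hne⟩ := sit.wd
  have fam := wd.fam hne
  obtain ⟨EX, asm, hstr⟩ := exists_asm sit wd fam
  obtain ⟨X₀, hX₀⟩ := at_nonempty sit wd fam
  let 𝓔 : Set (Subgroup H) := {E | ∃ Y ∈ AT p V T, E = EX Y}
  let r := Nat.card 𝓔
  let e : Fin r ≃ 𝓔 := (Finite.equivFin 𝓔).symm
  have hsup : (⨆ i, (e i : Subgroup H)) = sSup 𝓔 := by
    rw [sSup_eq_iSup']
    exact e.iSup_comp (g := fun x : 𝓔 => (x : Subgroup H))
  have hsup' : (⨆ i, (e i : Subgroup H)) = sSup {L | ∃ Y ∈ AT p V T, L = LX p V T Y} :=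
    hsup.trans (asm.sup_eq sit wd fam)
  refine ⟨r, fun i => (e i : Subgroup H), ⟨?_, ?_, ?_, ?_, ?_, ?_, sit.faith⟩, hsup'⟩
  · have : Nonempty 𝓔 := ⟨⟨EX X₀, X₀, hX₀, rfl⟩⟩
    exact Nat.card_pos
  · intro i j hij
    obtain ⟨X, hX, hXi⟩ := (e i).2
    obtain ⟨Y, hY, hYj⟩ := (e j).2
    show ∀ x ∈ (e i : Subgroup H), ∀ v : V, x • v - v ∈ fx V (e j : Subgroup H)
    rw [hXi, hYj]
    apply asm.e3 X hX Y hY
    rw [← hXi, ← hYj]
    intro h
    exact hij (e.injective (Subtype.ext h))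
  · rw [hsup']
    rw [eq_top_iff, ← lx_sup sit wd fam hX₀]
    have h1 : LX p V T X₀ ≤ sSup {L | ∃ Y ∈ AT p V T, L = LX p V T Y} := le_sSup ⟨X₀, hX₀, rfl⟩
    exact sup_le_sup_right h1 _
  · intro i j
    obtain ⟨X, hX, hXi⟩ := (e i).2
    obtain ⟨Y, hY, hYj⟩ := (e j).2
    obtain ⟨t, ht, rfl⟩ := at_trans' sit wd fam hX hY
    refine ⟨t, ht, ?_⟩
    show cg t (e i : Subgroup H) = (e j : Subgroup H)
    rw [hXi, hYj, asm.e1 X hX t ht]
  · intro i
    obtain ⟨X, hX, hXi⟩ := (e i).2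
    show ∀ v : V, ∃ c ∈ fx V (e i : Subgroup H), ∃ d ∈ H53.PU.cmt V (e i : Subgroup H), v = c + d
    rw [hXi]
    exact asm.e4 X hX
  · intro i
    obtain ⟨X, hX, hXi⟩ := (e i).2
    show ∃ n : ℕ, 1 ≤ n ∧ (IsSL p n V (e i : Subgroup H) ∨ (p = 2 ∧ IsSy (2 ^ n + 1) V (e i : Subgroup H)))
    rw [hXi]
    exact hstr X hX

variable {r : ℕ} {E : Fin r → Subgroup H}

theorem Out.cm (o : Out p V T E) {i j : Fin r} (h : i ≠ j) : Cm (E i) (E j) :=
  cm_of_cmt o.faith (o.cmt i j h) (o.cmt j i h.symm)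

theorem Out.cmt_le (o : Out p V T E) {i j : Fin r} (h : i ≠ j) : H53.PU.cmt V (E i) ≤ fx V (E j) :=
  H53.PU.cmt_le (o.cmt i j h)

theorem Out.inf_bot (o : Out p V T E) (i : Fin r) : E i ⊓ (⨆ j ∈ {j | j ≠ i}, E j) = ⊥ := by
  rw [eq_bot_iff]
  rintro g ⟨hg, hg'⟩
  rw [Subgroup.mem_bot]
  apply o.faith
  intro v
  obtain ⟨c, hc, d, hd, rfl⟩ := o.split i v
  have h1 : (⨆ j ∈ {j | j ≠ i}, E j) ≤ MulAction.stabilizer H d := by
    apply iSup_le
    intro j
    apply iSup_le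
    intro hj x hx
    exact o.cmt_le (fun h => hj h.symm) hd x hx
  rw [smul_add, hc g hg, h1 hg']

theorem Out.total (o : Out p V T E) (v : V) :
    ∃ c ∈ fx V (⨆ i, E i), ∃ d ∈ (⨆ i, H53.PU.cmt V (E i) : AddSubgroup V), v = c + d := by
  classical
  have key : ∀ s : Finset (Fin r), ∃ c : V, (∀ i ∈ s, c ∈ fx V (E i)) ∧
      ∃ d ∈ (⨆ i, H53.PU.cmt V (E i) : AddSubgroup V), v = c + d := by
    intro s
    induction s using Finset.induction_on with
    | empty => exact ⟨v, fun i hi => absurd hi (Finset.notMem_empty i), 0, AddSubgroup.zero_mem _, (add_zero v).symm⟩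
    | insert i s hi ih =>
      obtain ⟨c, hc, d, hd, hv⟩ := ih
      obtain ⟨c', hc', d', hd', hcc⟩ := o.split i c
      refine ⟨c', ?_, d' + d, AddSubgroup.add_mem _ ?_ hd, by rw [hv, hcc]; abel⟩
      · intro j hj
        by_cases hij : j = i
        · rw [hij]; exact hc'
        · have h1 := hc j ((Finset.mem_insert.1 hj).resolve_left hij)
          have e : c' = c - d' := by rw [hcc]; abel
          rw [e]
          exact AddSubgroup.sub_mem _ h1 (o.cmt_le (fun h => hij h.symm) hd')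
      · exact (le_iSup (fun i => H53.PU.cmt V (E i)) i) hd'
  obtain ⟨c, hc, d, hd, hv⟩ := key Finset.univ
  refine ⟨c, ?_, d, hd, hv⟩
  have h1 : (⨆ i, E i) ≤ MulAction.stabilizer H c := iSup_le fun i x hx => hc i (Finset.mem_univ i) x hx
  exact fun x hx => h1 hx

end

end H51.OG
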