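import Cfsg.Agent.Lib.H51.OffFinal
import Cfsg.Prelude.Def_BaumannBlocks

/-!
Translation of the module version to subgroups of a group.
-/

set_option autoImplicit false
set_option linter.unusedSectionVars false
set_option linter.unusedVariables false

namespace H51.OG

open Cfsg Subgroup H51.FF H51.SylowAmb H53.PU

section

variable {G H W : Type*} [Group G] [Group H] [AddCommGroup W] [DistribMulAction H W]

/-- the module `W` is the subgroup `V` with conjugation action of `K` through `π` -/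
structure Tr {G H W : Type*} [Group G] [Group H] [AddCommGroup W] [DistribMulAction H W] (K V : Subgroup G)
    (π : ↥K →* H) (ι : W → G) : Prop where
  inj : Function.Injective ι
  rng : ∀ g, g ∈ V ↔ ∃ w, ι w = g
  add : ∀ x y, ι (x + y) = ι x * ι y
  act : ∀ (k : K) (w : W), ι (π k • w) = k * ι w * (k : G)⁻¹
  surj : Function.Surjective π

/-- the preimage in `G` -/
def up {K : Subgroup G} (π : ↥K →* H) (E : Subgroup H) : Subgroup G := (E.comap π).map K.subtype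

variable {K V : Subgroup G} {π : ↥K →* H} {ι : W → G} (tr : Tr K V π ι)

omit [AddCommGroup W] [DistribMulAction H W] in
theorem mem_up {E : Subgroup H} {g : G} : g ∈ up π E ↔ ∃ h : g ∈ K, π ⟨g, h⟩ ∈ E := by
  constructor
  · rintro ⟨k, hk, rfl⟩
    exact ⟨k.2, hk⟩
  · rintro ⟨h, hg⟩
    exact ⟨⟨g, h⟩, hg, rfl⟩

omit [AddCommGroup W] [DistribMulAction H W] in
theorem up_le (E : Subgroup H) : up π E ≤ K := fun g hg => (mem_up.1 hg).1

omit [AddCommGroup W] [DistribMulAction H W] in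
theorem up_mono {E F : Subgroup H} (h : E ≤ F) : up π E ≤ up π F := Subgroup.map_mono (Subgroup.comap_mono h)

include tr

theorem Tr.zero : ι 0 = 1 := by
  have h := tr.add 0 0
  rw [add_zero] at h
  exact left_eq_mul.1 h

theorem Tr.neg (x : W) : ι (-x) = (ι x)⁻¹ := by
  apply eq_inv_of_mul_eq_one_left
  rw [← tr.add, neg_add_cancel, tr.zero]

theorem Tr.sub (x y : W) : ι (x - y) = ι x * (ι y)⁻¹ := by
  rw [sub_eq_add_neg, tr.add, tr.neg]

theorem Tr.mem (w : W) : ι w ∈ V := (tr.rng _).2 ⟨w, rfl⟩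

theorem Tr.smul_iff {k : K} {w : W} : π k • w = w ↔ (k : G) * ι w = ι w * k := by
  rw [← tr.inj.eq_iff, tr.act, mul_inv_eq_iff_eq_mul]

theorem Tr.fx_iff {E : Subgroup H} {w : W} : w ∈ fx W E ↔ ι w ∈ centralizer ((up π E : Subgroup G) : Set G) := by
  rw [mem_centralizer_iff]
  constructor
  · rintro h g hg
    obtain ⟨h1, h2⟩ := mem_up.1 hg
    exact (tr.smul_iff (k := ⟨g, h1⟩)).1 (h _ h2)
  · intro h x hx
    obtain ⟨k, rfl⟩ := tr.surj x
    exact tr.smul_iff.2 (h k (mem_up.2 ⟨k.2, hx⟩))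

theorem Tr.cmt_iff {E : Subgroup H} {g : G} : g ∈ ⁅V, up π E⁆ ↔ ∃ d ∈ cmt W E, ι d = g := by
  constructor
  · intro hg
    let C : Subgroup G :=
      { carrier := {g | ∃ d ∈ cmt W E, ι d = g}
        one_mem' := ⟨0, AddSubgroup.zero_mem _, tr.zero⟩
        mul_mem' := by
          rintro _ _ ⟨d, hd, rfl⟩ ⟨e, he, rfl⟩
          exact ⟨d + e, AddSubgroup.add_mem _ hd he, tr.add d e⟩
        inv_mem' := by
          rintro _ ⟨d, hd, rfl⟩
          exact ⟨-d, AddSubgroup.neg_mem _ hd, tr.neg d⟩ }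
    have h1 : ⁅V, up π E⁆ ≤ C := by
      rw [Subgroup.commutator_le]
      intro v hv x hx
      obtain ⟨w, rfl⟩ := (tr.rng v).1 hv
      obtain ⟨h1, h2⟩ := mem_up.1 hx
      refine ⟨-(π ⟨x, h1⟩ • w - w), AddSubgroup.neg_mem _ (sub_mem_cmt h2 w), ?_⟩
      rw [tr.neg, tr.sub, tr.act, commutatorElement_def]
      group
    exact h1 hg
  · rintro ⟨d, hd, rfl⟩
    unfold cmt at hd
    induction hd using AddSubgroup.closure_induction with
    | mem x hx =>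
      obtain ⟨t, ht, v, rfl⟩ := hx
      obtain ⟨k, rfl⟩ := tr.surj t
      rw [tr.sub, tr.act, Subgroup.commutator_comm]
      have := Subgroup.commutator_mem_commutator (mem_up.2 ⟨k.2, ht⟩ : (k : G) ∈ up π E) (tr.mem v)
      rwa [commutatorElement_def] at this
    | zero => rw [tr.zero]; exact one_mem _
    | add x y _ _ hx hy => rw [tr.add]; exact mul_mem hx hy
    | neg x _ hx => rw [tr.neg]; exact inv_mem hx

theorem Tr.cmt_le_V (E : Subgroup H) : ⁅V, up π E⁆ ≤ V := by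
  intro g hg
  obtain ⟨d, _, rfl⟩ := tr.cmt_iff.1 hg
  exact tr.mem d

theorem Tr.up_le_nz (E : Subgroup H) : up π E ≤ normalizer ((⁅V, up π E⁆ : Subgroup G) : Set G) := by
  intro x hx
  obtain ⟨h1, h2⟩ := mem_up.1 hx
  have key : ∀ (y : K), π y ∈ E → ∀ g ∈ ⁅V, up π E⁆, (y : G) * g * (y : G)⁻¹ ∈ ⁅V, up π E⁆ := by
    intro y hy g hg
    obtain ⟨d, hd, rfl⟩ := tr.cmt_iff.1 hg
    rw [tr.cmt_iff]
    refine ⟨π y • d, ?_, tr.act y d⟩
    have e : π y • d = (π y • d - d) + d := by abel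
    rw [e]
    exact AddSubgroup.add_mem _ (sub_mem_cmt hy d) hd
  rw [mem_normalizer_iff]
  intro g
  constructor
  · exact key ⟨x, h1⟩ h2 g
  · intro h
    have h3 := key (⟨x, h1⟩)⁻¹ (by rw [map_inv]; exact inv_mem h2) _ h
    have e : ((⟨x, h1⟩ : K)⁻¹ : K) * (x * g * x⁻¹) * (((⟨x, h1⟩ : K)⁻¹ : K) : G)⁻¹ = g := by
      show x⁻¹ * (x * g * x⁻¹) * (x⁻¹)⁻¹ = g
      group
    rwa [e] at h3

section out

variable {p : ℕ} [hp : Fact p.Prime] [Finite H] [Finite W] {T : Subgroup H} {r : ℕ} {E : Fin r → Subgroup H}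
  (o : Out p W T E)

include o

theorem Tr.out7 : (V ⊓ centralizer (((⨆ i, up π (E i)) : Subgroup G) : Set G)) ⊔ (⨆ i, ⁅V, up π (E i)⁆) = V := by
  apply le_antisymm
  · apply sup_le inf_le_left
    exact iSup_le fun i => tr.cmt_le_V (E i)
  · intro g hg
    obtain ⟨w, rfl⟩ := (tr.rng g).1 hg
    obtain ⟨c, hc, d, hd, rfl⟩ := o.total w
    rw [tr.add]
    apply mul_mem
    · apply Subgroup.mem_sup_left
      refine Subgroup.mem_inf.2 ⟨tr.mem c, ?_⟩
      have h1 : (⨆ i, up π (E i)) ≤ centralizer ({ι c} : Set G) := by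
        apply iSup_le
        intro i x hx
        rw [mem_centralizer_iff]
        rintro _ rfl
        have h2 : c ∈ fx W (E i) := fx_anti (le_iSup E i) hc
        exact (mem_centralizer_iff.1 (tr.fx_iff.1 h2) x hx).symm
      rw [mem_centralizer_iff]
      intro x hx
      exact (mem_centralizer_iff.1 (h1 hx) _ rfl).symm
    · apply Subgroup.mem_sup_right
      let C : AddSubgroup W :=
        { carrier := {d | ι d ∈ (⨆ i, ⁅V, up π (E i)⁆ : Subgroup G)}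
          zero_mem' := by
            rw [Set.mem_setOf_eq, tr.zero]; exact one_mem _
          add_mem' := by
            intro x y hx hy
            rw [Set.mem_setOf_eq] at hx hy ⊢
            rw [tr.add]; exact mul_mem hx hy
          neg_mem' := by
            intro x hx
            rw [Set.mem_setOf_eq] at hx ⊢
            rw [tr.neg]; exact inv_mem hx }
      have h1 : (⨆ i, cmt W (E i) : AddSubgroup W) ≤ C := by
        apply iSup_le
        intro i d hd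
        exact (le_iSup (fun i => ⁅V, up π (E i)⁆) i) (tr.cmt_iff.2 ⟨d, hd, rfl⟩)
      exact h1 hd

theorem Tr.out8 {i j : Fin r} (h : i ≠ j) : ⁅⁅V, up π (E i)⁆, up π (E j)⁆ = ⊥ := by
  rw [Subgroup.commutator_eq_bot_iff_le_centralizer]
  intro g hg
  obtain ⟨d, hd, rfl⟩ := tr.cmt_iff.1 hg
  exact tr.fx_iff.1 (o.cmt_le h hd)

theorem Tr.outSL {i : Fin r} {n : ℕ} (h : IsSL p n W (E i)) : ∃ (F : Type) (_ : Field F) (_ : Fintype F),
    Fintype.card F = p ^ n ∧ Nonempty (↥(E i) ≃* Matrix.SpecialLinearGroup (Fin 2) F) ∧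
    Cfsg.ActsAsSL2OnSection F ⊤ (up π (E i)) ⁅V, up π (E i)⁆
      (⁅V, up π (E i)⁆ ⊓ Subgroup.centralizer ((up π (E i) : Subgroup G) : Set G)) := by
  obtain ⟨F, i1, i2, ρ, Ψ, h0, h1, h2, h3⟩ := h
  refine ⟨F, i1, i2, h0, ⟨ρ⟩, tr.up_le_nz _, inf_le_left, ?_⟩
  -- the inverse of `ι`
  have hex : ∀ u : ↥⁅V, up π (E i)⁆, ∃ w, ι w = (u : G) := fun u => (tr.rng _).1 (tr.cmt_le_V _ u.2)
  choose κ hκ using hex
  have hκ1 : ∀ (u : ↥⁅V, up π (E i)⁆) (w : W), ι w = u → κ u = w := fun u w hw => tr.inj ((hκ u).trans hw.symm)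
  let θ : ↥(up π (E i)) →* ↥(E i) :=
    { toFun := fun g => ⟨π ⟨g, (mem_up.1 g.2).1⟩, (mem_up.1 g.2).2⟩
      map_one' := Subtype.ext (map_one π)
      map_mul' := fun a b => Subtype.ext (map_mul π ⟨a, (mem_up.1 a.2).1⟩ ⟨b, (mem_up.1 b.2).1⟩) }
  have hθ : Function.Surjective θ := by
    rintro ⟨x, hx⟩
    obtain ⟨k, rfl⟩ := tr.surj x
    exact ⟨⟨k, mem_up.2 ⟨k.2, hx⟩⟩, rfl⟩
  refine ⟨(ρ : ↥(E i) →* Matrix.SpecialLinearGroup (Fin 2) F).comp θ,
    { toFun := fun u => Multiplicative.ofAdd (Ψ (κ u))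
      map_one' := by
        rw [hκ1 1 0 tr.zero, map_zero]; rfl
      map_mul' := by
        intro u w
        rw [hκ1 (u * w) (κ u + κ w) (by rw [tr.add, hκ, hκ]; rfl), map_add]; rfl }, ?_, ?_, ?_, ?_⟩
  · rw [MonoidHom.range_eq_top]
    exact ρ.surjective.comp hθ
  · intro z
    obtain ⟨v, hv⟩ := h1 z.toAdd
    obtain ⟨c, hc, d, hd, rfl⟩ := o.split i v
    rw [map_add, (h2 c).2 hc, zero_add] at hv
    refine ⟨⟨ι d, tr.cmt_iff.2 ⟨d, hd, rfl⟩⟩, ?_⟩
    show Multiplicative.ofAdd (Ψ (κ _)) = z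
    rw [hκ1 _ d rfl, hv]
    rfl
  · intro u
    show Ψ (κ u) = 0 ↔ _
    rw [h2, tr.fx_iff, hκ]
    exact ⟨fun h => Subgroup.mem_inf.2 ⟨u.2, h⟩, fun h => (Subgroup.mem_inf.1 h).2⟩
  · intro e u
    refine ⟨⟨(e : G) * u * (e : G)⁻¹, (mem_normalizer_iff.1 (tr.up_le_nz _ e.2) _).1 u.2⟩, rfl, ?_⟩
    show Ψ (κ _) = _
    rw [hκ1 _ (π ⟨e, (mem_up.1 e.2).1⟩ • κ u) (by rw [tr.act, hκ])]
    exact h3 (θ e) (κ u)

theorem Tr.outSy {i : Fin r} {n : ℕ} (h : IsSy n W (E i)) : 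
    Nonempty (↥(E i) ≃* Equiv.Perm (Fin n)) ∧
    Cfsg.ActsAsOddPermModuleOnSection n ⊤ (up π (E i)) ⁅V, up π (E i)⁆
      (⁅V, up π (E i)⁆ ⊓ Subgroup.centralizer ((up π (E i) : Subgroup G) : Set G)) := by
  obtain ⟨ρ, Ψ, h0, h1, h2, h3⟩ := h
  refine ⟨⟨ρ⟩, tr.up_le_nz _, inf_le_left, ?_⟩
  have hex : ∀ u : ↥⁅V, up π (E i)⁆, ∃ w, ι w = (u : G) := fun u => (tr.rng _).1 (tr.cmt_le_V _ u.2)
  choose κ hκ using hex
  have hκ1 : ∀ (u : ↥⁅V, up π (E i)⁆) (w : W), ι w = u → κ u = w := fun u w hw => tr.inj ((hκ u).trans hw.symm)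
  let θ : ↥(up π (E i)) →* ↥(E i) :=
    { toFun := fun g => ⟨π ⟨g, (mem_up.1 g.2).1⟩, (mem_up.1 g.2).2⟩
      map_one' := Subtype.ext (map_one π)
      map_mul' := fun a b => Subtype.ext (map_mul π ⟨a, (mem_up.1 a.2).1⟩ ⟨b, (mem_up.1 b.2).1⟩) }
  have hθ : Function.Surjective θ := by
    rintro ⟨x, hx⟩
    obtain ⟨k, rfl⟩ := tr.surj x
    exact ⟨⟨k, mem_up.2 ⟨k.2, hx⟩⟩, rfl⟩
  refine ⟨(ρ : ↥(E i) →* Equiv.Perm (Fin n)).comp θ,
    { toFun := fun u => Multiplicative.ofAdd (Ψ (κ u))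
      map_one' := by
        rw [hκ1 1 0 tr.zero, map_zero]; rfl
      map_mul' := by
        intro u w
        rw [hκ1 (u * w) (κ u + κ w) (by rw [tr.add, hκ, hκ]; rfl), map_add]; rfl }, ?_, ?_, ?_, ?_, ?_⟩
  · rw [MonoidHom.range_eq_top]
    exact ρ.surjective.comp hθ
  · intro u
    exact h0 (κ u)
  · intro z hz
    obtain ⟨v, hv⟩ := h1 z hz
    obtain ⟨c, hc, d, hd, rfl⟩ := o.split i v
    rw [map_add, (h2 c).2 hc, zero_add] at hv
    refine ⟨⟨ι d, tr.cmt_iff.2 ⟨d, hd, rfl⟩⟩, ?_⟩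
    show Ψ (κ _) = z
    rw [hκ1 _ d rfl, hv]
  · intro u
    show Ψ (κ u) = 0 ↔ _
    rw [h2, tr.fx_iff, hκ]
    exact ⟨fun h => Subgroup.mem_inf.2 ⟨u.2, h⟩, fun h => (Subgroup.mem_inf.1 h).2⟩
  · intro e u
    refine ⟨⟨(e : G) * u * (e : G)⁻¹, (mem_normalizer_iff.1 (tr.up_le_nz _ e.2) _).1 u.2⟩, rfl, ?_⟩
    intro x
    show Ψ (κ _) x = _
    rw [hκ1 _ (π ⟨e, (mem_up.1 e.2).1⟩ • κ u) (by rw [tr.act, hκ])]
    exact h3 (θ e) (κ u) x

end out

end

end H51.OG
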