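import Cfsg.Agent.Lib.H51.FFMin
import Cfsg.Agent.Lib.H51.SylowAmb

/-!
`p`-minimal groups: a maximal "bad" subgroup for a conjugation invariant family of `p`-subgroups.
-/

set_option autoImplicit false
set_option linter.unusedSectionVars false
set_option linter.unusedVariables false

namespace H51.OG

open Subgroup H51.FF H51.SylowAmb H51.AmalgamBasic H51.AmalgamBasic2

section basics

variable {H : Type*} [Group H]

theorem cg_mono {g : H} {A B : Subgroup H} (h : A ≤ B) : cg g A ≤ cg g B := Subgroup.map_mono h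

theorem cg_inv_cg (g : H) (A : Subgroup H) : cg g⁻¹ (cg g A) = A := by rw [cg_cg, inv_mul_cancel, cg_one]

theorem cg_cg_inv (g : H) (A : Subgroup H) : cg g (cg g⁻¹ A) = A := by rw [cg_cg, mul_inv_cancel, cg_one]

theorem cg_le_iff {g : H} {A B : Subgroup H} : cg g A ≤ B ↔ A ≤ cg g⁻¹ B := by
  constructor
  · intro h
    have := cg_mono (g := g⁻¹) h
    rwa [cg_inv_cg] at this
  · intro h
    have := cg_mono (g := g) h
    rwa [cg_cg_inv] at this

theorem cg_le_cg {g : H} {A B : Subgroup H} : cg g A ≤ cg g B ↔ A ≤ B := by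
  rw [cg_le_iff, cg_inv_cg]

theorem cg_inj {g : H} {A B : Subgroup H} : cg g A = cg g B ↔ A = B := by
  constructor
  · intro h
    rw [← cg_inv_cg g A, h, cg_inv_cg]
  · intro h; rw [h]

theorem cg_bot (g : H) : cg g (⊥ : Subgroup H) = ⊥ := Subgroup.map_bot _

theorem cg_inf (g : H) (A B : Subgroup H) : cg g (A ⊓ B) = cg g A ⊓ cg g B := by
  ext x; rw [mem_cg, mem_inf, mem_inf, mem_cg, mem_cg]

theorem cg_eq_self {g : H} {A : Subgroup H} (h : g ∈ A) : cg g A = A := by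
  ext x
  rw [mem_cg]
  constructor
  · intro h1
    have e : x = g * (g⁻¹ * x * g) * g⁻¹ := by group
    rw [e]; exact mul_mem (mul_mem h h1) (inv_mem h)
  · intro h1; exact mul_mem (mul_mem (inv_mem h) h1) h

theorem mem_nz_iff {g : H} {K : Subgroup H} : g ∈ normalizer (K : Set H) ↔ cg g K = K :=
  ⟨fun h => map_conj_eq_of_mem_normalizer h, fun h => mem_normalizer_of_map_conj_eq h⟩

theorem cg_nz (g : H) (K : Subgroup H) : cg g (normalizer (K : Set H)) = normalizer ((cg g K : Subgroup H) : Set H) := by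
  ext x
  rw [mem_cg, mem_nz_iff, mem_nz_iff]
  have e : cg (g⁻¹ * x * g) K = cg g⁻¹ (cg x (cg g K)) := by rw [cg_cg, cg_cg, mul_assoc]
  rw [e]
  constructor
  · intro h
    have := congrArg (cg g) h
    rwa [cg_cg_inv] at this
  · intro h
    rw [h, cg_inv_cg]

theorem sSup_cg (g : H) (𝒮 : Set (Subgroup H)) : cg g (sSup 𝒮) = sSup ((cg g) '' 𝒮) := by
  apply le_antisymm
  · rw [cg_le_iff]
    apply sSup_le
    intro X hX
    rw [← cg_inv_cg g X]
    exact cg_mono (le_sSup ⟨X, hX, rfl⟩)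
  · apply sSup_le
    rintro _ ⟨X, hX, rfl⟩
    exact cg_mono (le_sSup hX)

end basics

section cl

variable {H : Type*} [Group H]

/-- the join of the members of `𝒮` inside `K` -/
def cl (𝒮 : Set (Subgroup H)) (K : Subgroup H) : Subgroup H := sSup {X | X ∈ 𝒮 ∧ X ≤ K}

variable {𝒮 : Set (Subgroup H)}

theorem cl_le (K : Subgroup H) : cl 𝒮 K ≤ K := sSup_le fun _ hX => hX.2

theorem cl_mono {K L : Subgroup H} (h : K ≤ L) : cl 𝒮 K ≤ cl 𝒮 L :=
  sSup_le_sSup fun _ hX => ⟨hX.1, hX.2.trans h⟩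

theorem le_cl {X K : Subgroup H} (hX : X ∈ 𝒮) (h : X ≤ K) : X ≤ cl 𝒮 K := le_sSup ⟨hX, h⟩

theorem cl_le_iff {K L : Subgroup H} : cl 𝒮 K ≤ L ↔ ∀ X ∈ 𝒮, X ≤ K → X ≤ L :=
  ⟨fun h X hX hK => (le_cl hX hK).trans h, fun h => sSup_le fun X hX => h X hX.1 hX.2⟩

theorem cl_cl (K : Subgroup H) : cl 𝒮 (cl 𝒮 K) = cl 𝒮 K :=
  le_antisymm (cl_le _) (cl_le_iff.2 fun _ hX hK => le_cl hX (le_cl hX hK))

theorem cl_mem {X : Subgroup H} (hX : X ∈ 𝒮) : cl 𝒮 X = X := le_antisymm (cl_le _) (le_cl hX le_rfl)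

theorem cl_sup {K L : Subgroup H} (hK : cl 𝒮 K = K) (hL : cl 𝒮 L = L) : cl 𝒮 (K ⊔ L) = K ⊔ L := by
  apply le_antisymm (cl_le _)
  apply sup_le
  · conv_lhs => rw [← hK]
    exact cl_mono le_sup_left
  · conv_lhs => rw [← hL]
    exact cl_mono le_sup_right

theorem cl_cg (hc : ∀ X ∈ 𝒮, ∀ g : H, cg g X ∈ 𝒮) (g : H) (K : Subgroup H) :
    cl 𝒮 (cg g K) = cg g (cl 𝒮 K) := by
  have key : ∀ (g : H) (K : Subgroup H), cg g (cl 𝒮 K) ≤ cl 𝒮 (cg g K) := by
    intro g K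
    rw [cg_le_iff, cl_le_iff]
    intro X hX hK
    rw [← cg_inv_cg g X]
    exact cg_mono (le_cl (hc X hX g) (cg_mono hK))
  apply le_antisymm _ (key g K)
  rw [← cg_cg_inv g (cl 𝒮 (cg g K))]
  have := key g⁻¹ (cg g K)
  rw [cg_inv_cg] at this
  exact cg_mono this

theorem nz_cl_le (hc : ∀ X ∈ 𝒮, ∀ g : H, cg g X ∈ 𝒮) (K : Subgroup H) :
    normalizer (K : Set H) ≤ normalizer ((cl 𝒮 K : Subgroup H) : Set H) := by
  intro g hg
  rw [mem_nz_iff] at hg ⊢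
  rw [← cl_cg hc, hg]

end cl

section syl

variable {p : ℕ} [hp : Fact p.Prime] {H : Type*} [Group H] [Finite H]

theorem eq_of_syl {P R K : Subgroup H} (hPR : P ≤ R) (hRK : R ≤ K) (hR : IsPGroup p R) (h : ¬ p ∣ P.relIndex K) :
    P = R := by
  have h1 : P.relIndex R * R.relIndex K = P.relIndex K := Subgroup.relIndex_mul_relIndex _ _ _ hPR hRK
  have h2 : ¬ p ∣ P.relIndex R := fun h3 => h (h1 ▸ h3.mul_right _)
  have h3 : IsPGroup p R := hR
  obtain ⟨n, hn⟩ := (IsPGroup.iff_card.1 h3)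
  have h4 : P.relIndex R ∣ p ^ n := by
    rw [← hn]; exact Subgroup.relIndex_dvd_card _ _
  obtain ⟨k, _, hk⟩ := (Nat.dvd_prime_pow hp.out).1 h4
  have h5 : P.relIndex R = 1 := by
    rcases Nat.eq_zero_or_pos k with rfl | hk0
    · rw [hk, pow_zero]
    · exfalso; apply h2; rw [hk]; exact dvd_pow_self p hk0.ne'
  exact le_antisymm hPR (Subgroup.relIndex_eq_one.1 h5)

omit [Finite H] in
theorem syl_mono {P K L : Subgroup H} (hKL : K ≤ L) (hPK : P ≤ K) [Finite H] (h : ¬ p ∣ P.relIndex L) : ¬ p ∣ P.relIndex K := by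
  intro h1
  apply h
  rw [← Subgroup.relIndex_mul_relIndex _ _ _ hPK hKL]
  exact h1.mul_right _

theorem pg_cg {g : H} {K : Subgroup H} (h : IsPGroup p K) : IsPGroup p (cg g K) := h.map _

theorem syl_cg {g : H} {K L : Subgroup H} (h : ¬ p ∣ K.relIndex L) : ¬ p ∣ (cg g K).relIndex (cg g L) := by
  unfold cg
  rw [relIndex_map_conj]
  exact h

/-- the ambient group theoretic situation -/
structure MS (p : ℕ) {H : Type*} [Group H] (T M : Subgroup H) : Prop where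
  pgT : IsPGroup p T
  ndT : ¬ p ∣ T.relIndex ⊤
  Mne : M ≠ ⊤
  TM : T ≤ M
  huniq : ∀ N : Subgroup H, N ≠ ⊤ → T ≤ N → N ≤ M
  core : ∀ N : Subgroup H, N.Normal → IsPGroup p N → N = ⊥

theorem cg_normal {g : H} {K : Subgroup H} (h : K.Normal) : cg g K = K := by
  rw [← mem_nz_iff, Subgroup.normalizer_eq_top_iff.2 h]
  exact Subgroup.mem_top g

omit [Finite H] in
theorem MS.cg' [Finite H] {T M : Subgroup H} (ms : MS p T M) (x : H) : MS p (cg x T) (cg x M) := by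
  refine ⟨pg_cg ms.pgT, ?_, ?_, cg_mono ms.TM, ?_, ms.core⟩
  · have := syl_cg (g := x) ms.ndT
    rwa [cg_top] at this
  · intro h
    apply ms.Mne
    rw [← cg_inv_cg x M, h, cg_top]
  · intro N hN hTN
    rw [cg_le_iff] at hTN
    have h1 := ms.huniq (cg x⁻¹ N) (by
      intro h
      apply hN
      rw [← cg_cg_inv x N, h, cg_top]) hTN
    have := cg_mono (g := x) h1
    rwa [cg_cg_inv] at this

/-- another Sylow subgroup of `M` -/
theorem MS.conj_of_le {T M : Subgroup H} (ms : MS p T M) {T' : Subgroup H} (h : T' ≤ M) (h1 : IsPGroup p T')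
    (h2 : ¬ p ∣ T'.relIndex M) : ∃ m ∈ M, cg m T' = T :=
  sylow_conj ms.TM ms.pgT (syl_mono le_top ms.TM ms.ndT) h h1 h2

theorem MS.of_le {T M : Subgroup H} (ms : MS p T M) {T' : Subgroup H} (h : T' ≤ M) (h1 : IsPGroup p T')
    (h2 : ¬ p ∣ T'.relIndex M) : MS p T' M := by
  obtain ⟨m, hm, hmT⟩ := ms.conj_of_le h h1 h2
  have h3 := ms.cg' m⁻¹
  rw [← hmT, cg_inv_cg, cg_eq_self (inv_mem hm)] at h3
  exact h3

/-- a conjugation invariant family of nontrivial `p`-subgroups -/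
structure Fam (p : ℕ) {H : Type*} [Group H] (𝒮 : Set (Subgroup H)) : Prop where
  pg : ∀ X ∈ 𝒮, IsPGroup p X
  ne : ∀ X ∈ 𝒮, X ≠ ⊥
  conj : ∀ X ∈ 𝒮, ∀ g : H, cg g X ∈ 𝒮
  nonempty : 𝒮.Nonempty

/-- the output -/
structure Gd (p : ℕ) {H : Type*} [Group H] (𝒮 : Set (Subgroup H)) (M D R : Subgroup H) : Prop where
  DM : D ≤ M
  pgD : IsPGroup p D
  clD : cl 𝒮 D = D
  RM : R ≤ M
  RN : R ≤ normalizer (D : Set H)
  DR : D ≤ R
  pgR : IsPGroup p R
  syl : ¬ p ∣ R.relIndex (normalizer (D : Set H))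
  exA : ∃ A ∈ 𝒮, A ≤ R ∧ ¬ A ≤ D
  exB : ∃ B ∈ 𝒮, B ≤ normalizer (D : Set H) ∧ ¬ B ≤ M
  max : ∀ D' : Subgroup H, D' ≤ M → IsPGroup p D' → cl 𝒮 D' = D' → D < D' → normalizer (D' : Set H) ≤ M

theorem Gd.cg' {𝒮 : Set (Subgroup H)} (fam : Fam p 𝒮) {M D R : Subgroup H} (gl : Gd p 𝒮 M D R) (x : H) :
    Gd p 𝒮 (cg x M) (cg x D) (cg x R) := by
  refine ⟨cg_mono gl.DM, pg_cg gl.pgD, ?_, cg_mono gl.RM, ?_, cg_mono gl.DR, pg_cg gl.pgR, ?_, ?_, ?_, ?_⟩
  · rw [cl_cg fam.conj, gl.clD]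
  · rw [← cg_nz]; exact cg_mono gl.RN
  · rw [← cg_nz]; exact syl_cg gl.syl
  · obtain ⟨A, hA, h1, h2⟩ := gl.exA
    exact ⟨cg x A, fam.conj A hA x, cg_mono h1, fun h => h2 (cg_le_cg.1 h)⟩
  · obtain ⟨B, hB, h1, h2⟩ := gl.exB
    refine ⟨cg x B, fam.conj B hB x, ?_, fun h => h2 (cg_le_cg.1 h)⟩
    rw [← cg_nz]; exact cg_mono h1
  · intro D' h1 h2 h3 h4
    have h5 := gl.max (cg x⁻¹ D') (by rw [cg_le_iff, inv_inv]; exact h1) (pg_cg h2)
      (by rw [cl_cg fam.conj, h3]) (lt_of_le_of_ne (by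
        have := cg_mono (g := x⁻¹) h4.le
        rwa [cg_inv_cg] at this) (by
        intro h5
        apply h4.ne
        rw [h5, cg_cg_inv]))
    rw [← cg_nz] at h5
    have := cg_mono (g := x) h5
    rwa [cg_cg_inv] at this

theorem exists_Gd {𝒮 : Set (Subgroup H)} (fam : Fam p 𝒮) {T M : Subgroup H} (ms : MS p T M) :
    ∃ D R : Subgroup H, Gd p 𝒮 M D R ∧ R ≤ T := by
  classical
  let bad : Set (Subgroup H) := {D | D ≤ M ∧ IsPGroup p D ∧ cl 𝒮 D = D ∧ ¬ normalizer (D : Set H) ≤ M}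
  have hbot : (⊥ : Subgroup H) ∈ bad := by
    refine ⟨bot_le, IsPGroup.of_bot, le_bot_iff.1 (cl_le _), ?_⟩
    intro h
    apply ms.Mne
    rw [Subgroup.normalizer_eq_top_iff.2 inferInstance] at h
    exact top_le_iff.1 h
  obtain ⟨D, hD, hDmax⟩ := Set.exists_max_image bad (fun D => Nat.card D) (Set.toFinite _) ⟨⊥, hbot⟩
  obtain ⟨hDM, hDp, hDcl, hDN⟩ := hD
  have hmax : ∀ D' : Subgroup H, D' ≤ M → IsPGroup p D' → cl 𝒮 D' = D' → D < D' → normalizer (D' : Set H) ≤ M := by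
    intro D' h1 h2 h3 h4
    by_contra h5
    have h6 := hDmax D' ⟨h1, h2, h3, h5⟩
    have h7 : D = D' := Subgroup.eq_of_le_of_card_ge h4.le h6
    exact h4.ne h7
  obtain ⟨R, hDR, hRMN, hRp, hRs⟩ := exists_sylow_ge (p := p) (K := M ⊓ normalizer (D : Set H)) (Q := D)
    (le_inf hDM Subgroup.le_normalizer) hDp
  have hRM : R ≤ M := hRMN.trans inf_le_left
  have hRN : R ≤ normalizer (D : Set H) := hRMN.trans inf_le_right
  obtain ⟨T₁, hRT₁, hT₁M, hT₁p, hT₁s⟩ := exists_sylow_ge (p := p) hRM hRp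
  have ms₁ := ms.of_le hT₁M hT₁p hT₁s
  -- `cl R ≠ D`
  have hclR : D ≤ cl 𝒮 R := by
    conv_lhs => rw [← hDcl]
    exact cl_mono hDR
  have hDne : D ≠ cl 𝒮 R := by
    intro heq
    have h1 : R = T₁ := by
      by_contra hne
      obtain ⟨x, hx, hxR, hxn⟩ := H5.PLocal.exists_mem_normalizer_not_mem hT₁p (lt_of_le_of_ne hRT₁ hne)
      have h2 : T₁ ⊓ normalizer (R : Set H) ≤ normalizer (D : Set H) := by
        rw [heq]
        exact inf_le_right.trans (nz_cl_le fam.conj R)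
      have h3 := eq_of_syl (P := R) (R := T₁ ⊓ normalizer (R : Set H)) (le_inf hRT₁ Subgroup.le_normalizer)
        (le_inf (inf_le_left.trans hT₁M) h2) (hT₁p.to_le inf_le_left) hRs
      apply hxR
      rw [h3]
      exact ⟨hx, hxn⟩
    have h2 : normalizer (D : Set H) = ⊤ := by
      by_contra h3
      exact hDN (ms₁.huniq _ h3 (h1 ▸ hRN))
    have h3 : D = ⊥ := ms.core D (Subgroup.normalizer_eq_top_iff.1 h2) hDp
    obtain ⟨X, hX⟩ := fam.nonempty
    obtain ⟨y, _, hy⟩ := exists_conj_le (K := ⊤) le_top ms₁.pgT ms₁.ndT le_top (fam.pg X hX)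
    have h4 : cg y X ≤ cl 𝒮 R := le_cl (fam.conj X hX y) (h1 ▸ hy)
    rw [← heq, h3, le_bot_iff] at h4
    apply fam.ne X hX
    rw [← cg_inv_cg y X, h4, cg_bot]
  have hlt : D < cl 𝒮 R := lt_of_le_of_ne hclR hDne
  have hN1 := hmax (cl 𝒮 R) ((cl_le R).trans hRM) (hRp.to_le (cl_le R)) (cl_cl R) hlt
  -- `R` is Sylow in `N(D)`
  have hsyl : ¬ p ∣ R.relIndex (normalizer (D : Set H)) := by
    apply not_dvd_of_forall hRN hRp
    intro R' h1 h2 h3 h4
    symm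
    apply eq_of_syl (K := M ⊓ normalizer (D : Set H)) h2 _ h1 hRs
    exact le_inf (h4.trans ((nz_cl_le fam.conj R).trans hN1)) h3
  have hexA : ∃ A ∈ 𝒮, A ≤ R ∧ ¬ A ≤ D := by
    by_contra hcon
    push Not at hcon
    exact hlt.not_ge (cl_le_iff.2 hcon)
  have hexB : ∃ B ∈ 𝒮, B ≤ normalizer (D : Set H) ∧ ¬ B ≤ M := by
    by_contra hcon
    push Not at hcon
    apply hDN
    set Y := cl 𝒮 (normalizer (D : Set H)) with hY
    have hYM : Y ≤ M := cl_le_iff.2 hcon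
    have hYN : Y ≤ normalizer (D : Set H) := cl_le _
    have hRY : ¬ p ∣ (R ⊓ Y).relIndex Y := by
      obtain ⟨Q, -, hQY, hQp, hQs⟩ := exists_sylow_ge (p := p) (K := Y) (Q := ⊥) bot_le IsPGroup.of_bot
      obtain ⟨n, hn, hn1⟩ := exists_conj_le hRN hRp hsyl (hQY.trans hYN) hQp
      have hYn : cg n Y = Y := mem_nz_iff.1 ((nz_cl_le fam.conj _) (Subgroup.le_normalizer hn))
      have h1 : cg n Q ≤ R ⊓ Y := le_inf hn1 (by rw [← hYn]; exact cg_mono hQY)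
      have h2 : ¬ p ∣ (cg n Q).relIndex Y := by
        have := syl_cg (g := n) hQs
        rwa [hYn] at this
      have h3 := eq_of_syl h1 inf_le_right (hRp.to_le inf_le_left) h2
      rwa [← h3]
    intro x hx
    obtain ⟨y, hy, hyx⟩ := frattini (x := x) inf_le_right (hRp.to_le inf_le_left) hRY
      ((nz_cl_le fam.conj _) (Subgroup.le_normalizer hx))
    have h1 : cl 𝒮 (R ⊓ Y) = cl 𝒮 R := by
      apply le_antisymm (cl_mono inf_le_left)
      rw [cl_le_iff]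
      intro X hX hXR
      exact le_cl hX (le_inf hXR (le_cl hX (hXR.trans hRN)))
    have h2 : y * x ∈ M := hN1 (by rw [← h1]; exact nz_cl_le fam.conj _ hyx)
    have e : x = y⁻¹ * (y * x) := by group
    rw [e]
    exact mul_mem (inv_mem (hYM hy)) h2
  obtain ⟨m, hm, hmT⟩ := ms.conj_of_le hT₁M hT₁p hT₁s
  have gl : Gd p 𝒮 M D R := ⟨hDM, hDp, hDcl, hRM, hRN, hDR, hRp, hsyl, hexA, hexB, hmax⟩
  have gl' := gl.cg' fam m
  rw [cg_eq_self hm] at gl'
  exact ⟨_, _, gl', hmT ▸ cg_mono hRT₁⟩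

end syl

end H51.OG
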