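import Cfsg.Agent.Lib.H51.OffCoord
import Cfsg.Agent.Lib.H51.OffAsm

/-!
Lifting from `V ⧸ C_V(H)` to `V`.
-/

set_option autoImplicit false
set_option linter.unusedSectionVars false
set_option linter.unusedVariables false

namespace H51.OG

open Cfsg Subgroup H51.FF H51.SylowAmb H53.PU H51.AmalgamBasic
open scoped MatrixGroups

section

variable {p : ℕ} [hp : Fact p.Prime] {H V : Type*} [Group H] [Finite H] [AddCommGroup V] [Finite V]
  [DistribMulAction H V]

theorem cmt_cg (g : H) (A : Subgroup H) {v : V} (hv : v ∈ cmt V A) : g • v ∈ cmt V (cg g A) := by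
  let S : AddSubgroup V := (cmt V (cg g A)).comap (DistribSMul.toAddMonoidHom V g)
  have h1 : cmt V A ≤ S := by
    apply cmt_le
    intro a ha v
    show g • (a • v - v) ∈ cmt V (cg g A)
    have h2 : g * a * g⁻¹ ∈ cg g A := by
      rw [mem_cg]
      have e : g⁻¹ * (g * a * g⁻¹) * g = a := by group
      rw [e]; exact ha
    have h3 := sub_mem_cmt h2 (g • v)
    have e : g * a * g⁻¹ * g = g * a := by group
    rwa [← mul_smul, e, mul_smul, ← smul_sub] at h3
  exact h1 hv

theorem nz_smul_cmt {A : Subgroup H} {y : H} (hy : y ∈ normalizer (A : Set H)) {v : V} (hv : v ∈ cmt V A) :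
    y • v ∈ cmt V A := by
  have h := cmt_cg y A hv
  rwa [mem_nz_iff.1 hy] at h

/-- coprime action -/
theorem fx_inf_cmt (pz : ∀ v : V, p • v = 0) {K : Subgroup H} (hK : (Nat.card K).Coprime p) {v : V}
    (h1 : v ∈ fx V K) (h2 : v ∈ cmt V K) : v = 0 := by
  classical
  have : Fintype K := Fintype.ofFinite K
  let N : V →+ V := ∑ k : K, DistribSMul.toAddMonoidHom V (k : H)
  have hN : ∀ v, N v = ∑ k : K, (k : H) • v := by
    intro v
    simp only [N, AddMonoidHom.finsetSum_apply]
    rfl
  have h3 : cmt V K ≤ N.ker := by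
    apply cmt_le
    intro a ha v
    rw [AddMonoidHom.mem_ker, hN]
    simp only [smul_sub, Finset.sum_sub_distrib]
    rw [sub_eq_zero]
    refine Fintype.sum_equiv (Equiv.mulRight (⟨a, ha⟩ : K)) _ _ ?_
    intro k
    rw [← mul_smul]
    rfl
  have h4 : N v = 0 := h3 h2
  have h5 : N v = Nat.card K • v := by
    rw [hN, Nat.card_eq_fintype_card, ← Finset.card_univ, ← Finset.sum_const]
    apply Finset.sum_congr rfl
    intro k _
    exact h1 k k.2
  rw [h4] at h5
  have h6 : (addOrderOf v) ∣ Nat.card K := addOrderOf_dvd_of_nsmul_eq_zero h5.symm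
  have h7 : (addOrderOf v) ∣ p := addOrderOf_dvd_of_nsmul_eq_zero (pz v)
  have h8 := Nat.dvd_gcd h6 h7
  rw [hK, Nat.dvd_one, AddMonoid.addOrderOf_eq_one_iff] at h8
  exact h8

theorem fixed_of_coprime (pz : ∀ v : V, p • v = 0) {K : Subgroup H} (hK : (Nat.card K).Coprime p) {v : V}
    (h : ∀ k ∈ K, ∀ g : H, g • (k • v - v) = k • v - v) : v ∈ fx V K := by
  intro k hk
  have h1 := h k hk
  have h2 : ∀ n : ℕ, k ^ n • v = v + n • (k • v - v) := by
    intro n
    induction n with
    | zero => simp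
    | succ n ih =>
      have h3 : k • (n • (k • v - v)) = n • (k • v - v) := by
        have := map_nsmul (DistribSMul.toAddMonoidHom V k) n (k • v - v)
        rw [DistribSMul.toAddMonoidHom_apply, DistribSMul.toAddMonoidHom_apply, h1 k] at this
        exact this
      rw [pow_succ', mul_smul, ih, smul_add, h3, succ_nsmul]
      abel
  have h3 := h2 (Nat.card K)
  have h4 : k ^ Nat.card K = 1 := by
    have := pow_card_eq_one' (x := (⟨k, hk⟩ : K))
    exact congrArg Subtype.val this
  rw [h4, one_smul] at h3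
  have h5 : Nat.card K • (k • v - v) = 0 := by
    have := h3.symm
    rwa [add_eq_left] at this
  have h6 : (addOrderOf (k • v - v)) ∣ Nat.card K := addOrderOf_dvd_of_nsmul_eq_zero h5
  have h7 : (addOrderOf (k • v - v)) ∣ p := addOrderOf_dvd_of_nsmul_eq_zero (pz _)
  have h8 := Nat.dvd_gcd h6 h7
  rw [hK, Nat.dvd_one, AddMonoid.addOrderOf_eq_one_iff] at h8
  exact sub_eq_zero.1 h8

end

/-- the quotient situation -/
structure Lf (p : ℕ) {H V U : Type*} [Group H] [AddCommGroup V] [DistribMulAction H V] [AddCommGroup U]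
    [DistribMulAction H U] (π : V →+ U) : Prop where
  pz : ∀ v : V, p • v = 0
  surj : Function.Surjective π
  eqv : ∀ (h : H) (v : V), π (h • v) = h • π v
  ker : ∀ v, π v = 0 ↔ ∀ h : H, h • v = v

section

variable {p : ℕ} [hp : Fact p.Prime] {H V U : Type*} [Group H] [Finite H] [AddCommGroup V] [Finite V]
  [DistribMulAction H V] [AddCommGroup U] [Finite U] [DistribMulAction H U] {π : V →+ U}
  (lf : Lf p (H := H) π)

include lf

/-- quadratic action lifts -/
theorem Lf.quad {A B : Subgroup H} (pq : PQ p U A B) {x y : H} (hx : x ∈ A) (hy : y ∈ A) (v : V) :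
    x • (y • v - v) = y • v - v := by
  classical
  obtain ⟨F, i1, i2, ρ, Ψ, nf⟩ := pq.exists_nf
  let X : F → H := fun s => ((ρ.symm (H85.SL2.up s) : ↥(A ⊔ B)) : H)
  have hX : ∀ s, X s ∈ A := nf.up_mem
  have hXadd : ∀ s t, X (s + t) = X s * X t := by
    intro s t
    simp only [X]
    rw [H85.SL2.up_add, map_mul, Subgroup.coe_mul]
  have hXc : ∀ s t, X s * X t = X t * X s := by
    intro s t
    rw [← hXadd, add_comm, hXadd]
  have hex : ∀ a ∈ A, ∃ s, a = X s := by
    intro a ha
    obtain ⟨s, hs⟩ := nf.exists_up (a := ⟨a, Subgroup.mem_sup_left ha⟩) ha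
    refine ⟨s, ?_⟩
    simp only [X]
    rw [← hs, MulEquiv.symm_apply_apply]
  let D : F → F → V → V := fun s t v => X s • (X t • v - v) - (X t • v - v)
  have hDdef : ∀ s t v, D s t v = X s • (X t • v - v) - (X t • v - v) := fun _ _ _ => rfl
  have hfix : ∀ (w : V), π w ∈ fx U A → ∀ s (h : H), h • (X s • w - w) = X s • w - w := by
    intro w hw s
    rw [← lf.ker, map_sub, lf.eqv, hw _ (hX s), sub_self]
  have hw : ∀ t v, π (X t • v - v) ∈ fx U A := by
    intro t v
    rw [map_sub, lf.eqv]
    exact pq.offA.quad _ (hX t) _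
  have hDfix : ∀ s t v (h : H), h • D s t v = D s t v := fun s t v => hfix _ (hw t v) s
  have hDadd : ∀ s s' t v, D (s + s') t v = D s t v + D s' t v := by
    intro s s' t v
    have h1 := hfix _ (hw t v) s' (X s)
    rw [smul_sub] at h1
    have h2 : X s • X s' • (X t • v - v) = X s' • (X t • v - v) - (X t • v - v) + X s • (X t • v - v) := by
      rw [← h1]; abel
    simp only [hDdef]
    rw [hXadd, mul_smul, h2]
    abel
  have hDsymm : ∀ s t v, D s t v = D t s v := by
    intro s t v
    simp only [hDdef, smul_sub]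
    rw [← mul_smul, ← mul_smul, hXc s t]
    abel
  have hDadd' : ∀ s t t' v, D s (t + t') v = D s t v + D s t' v := by
    intro s t t' v
    rw [hDsymm, hDadd, hDsymm t, hDsymm t']
  have hDv : ∀ s t v v', D s t (v + v') = D s t v + D s t v' := by
    intro s t v v'
    simp only [hDdef, smul_sub, smul_add]
    abel
  have hD0 : ∀ s t v, Ψ (π v) 1 = 0 → D s t v = 0 := by
    intro s t v h
    rw [hDdef, hfix v ((nf.fA _).2 h) t (X s), sub_self]
  have hDm : ∀ s t v v', Ψ (π v) 1 = Ψ (π v') 1 → D s t v = D s t v' := by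
    intro s t v v' h
    have e : v = v' + (v - v') := by abel
    rw [e, hDv, hD0 s t (v - v') (by
      rw [map_sub, map_sub]
      show Ψ (π v) 1 - Ψ (π v') 1 = 0
      rw [h, sub_self]), add_zero]
  have hσ : ∀ m : F, ∃ v : V, Ψ (π v) 1 = m := by
    intro m
    obtain ⟨u, hu⟩ := nf.surj ![0, m]
    obtain ⟨v, rfl⟩ := lf.surj u
    exact ⟨v, by rw [hu]; rfl⟩
  choose σ hσ using hσ
  let b : F → F → F → V := fun s t m => D s t (σ m)
  have hbdef : ∀ s t m, b s t m = D s t (σ m) := fun _ _ _ => rfl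
  have hbm : ∀ s t m m', b s t (m + m') = b s t m + b s t m' := by
    intro s t m m'
    rw [hbdef, hbdef, hbdef, ← hDv]
    apply hDm
    rw [hσ, map_add, map_add]
    show m + m' = Ψ (π (σ m)) 1 + Ψ (π (σ m')) 1
    rw [hσ, hσ]
  have hb0 : ∀ s t, b s t 0 = 0 := fun s t => hD0 _ _ _ (hσ 0)
  have hbs0 : ∀ t m, b 0 t m = 0 := by
    intro t m
    have := hDadd 0 0 t (σ m)
    rw [add_zero] at this
    exact left_eq_add.1 this
  have htor : ∀ (t : F), ∀ s s' m, b (t ^ 2 * s) (t ^ 2 * s') m = b s s' (t * m) := by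
    intro t s s' m
    by_cases ht : t = 0
    · rw [ht, zero_mul, hb0]
      have e : (0 : F) ^ 2 * s = 0 := by ring
      rw [e, hbs0]
    set h : H := ((ρ.symm (dg t ht) : ↥(A ⊔ B)) : H) with hh
    have hc : ∀ s, h * X s * h⁻¹ = X (t ^ 2 * s) := by
      intro s
      simp only [X]
      rw [← dg_up t ht, map_mul, map_mul, map_inv]
      rfl
    have h1 : D (t ^ 2 * s) (t ^ 2 * s') (h • σ (t * m)) = h • D s s' (σ (t * m)) := by
      simp only [hDdef]
      rw [← hc, ← hc, ← mul_smul, smul_sub, ← mul_smul]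
      have e1 : h * X s' * h⁻¹ * h = h * X s' := by group
      have e2 : h * X s * h⁻¹ * (h * X s') = h * (X s * X s') := by group
      have e3 : h * X s * h⁻¹ * h = h * X s := by group
      rw [e1, e2, ← mul_smul, e3]
      simp only [smul_sub, mul_smul]
    rw [hbdef, hbdef, ← hDfix s s' (σ (t * m)) h, ← h1]
    apply hDm
    rw [hσ, lf.eqv, hh, nf.act, MulEquiv.apply_symm_apply, dg_coe]
    simp only [Matrix.mulVec, dotProduct, Fin.sum_univ_two, Matrix.of_apply, Matrix.cons_val_zero,
      Matrix.cons_val_one, Matrix.cons_val', Matrix.cons_val_fin_one, zero_mul, zero_add]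
    rw [hσ]
    field_simp
  have hbneg : ∀ s t m, p • b s t m = 0 := fun s t m => lf.pz _
  have hball : ∀ s s' m, b s s' m = 0 := by
    rcases hp.out.eq_two_or_odd' with h2 | hodd
    · -- characteristic two
      have hF2 : (2 : F) = 0 := by
        obtain ⟨u, hu⟩ := nf.surj ![1, 0]
        obtain ⟨v, rfl⟩ := lf.surj u
        have h3 : Ψ (π (p • v)) = 0 := by rw [lf.pz, map_zero, map_zero]
        rw [map_nsmul, map_nsmul, hu, h2] at h3
        have h4 := congrFun h3 0
        simpa using h4
      have hv2 : ∀ v : V, v + v = 0 := by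
        intro v
        have := lf.pz v
        rwa [h2, two_nsmul] at this
      have hsq : ∀ a : F, ∃ c : F, c ^ 2 = a := by
        have hinj : Function.Injective (fun c : F => c ^ 2) := by
          intro x y hxy
          have h3 : (x - y) ^ 2 = 0 := by
            have : (x - y) ^ 2 = x ^ 2 - y ^ 2 + 2 * (y ^ 2 - x * y) := by ring
            rw [this, hF2, zero_mul, add_zero]
            exact sub_eq_zero.2 hxy
          exact sub_eq_zero.1 (pow_eq_zero_iff (two_ne_zero) |>.1 h3)
        exact Finite.injective_iff_surjective.1 hinj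
      have hR : ∀ a a' m, b a a' m = b 1 (a * a') m := by
        intro a a' m
        obtain ⟨t, rfl⟩ := hsq a
        have h3 : b ((t + 1) ^ 2 * 1) ((t + 1) ^ 2 * a') m = b 1 a' (t * m) + b 1 a' (1 * m) := by
          rw [htor, add_mul, hbm]
        have e : (t + 1) ^ 2 = t ^ 2 + 1 := by
          have : (t + 1) ^ 2 = t ^ 2 + 1 + 2 * t := by ring
          rw [this, hF2, zero_mul, add_zero]
        rw [← htor, ← htor, e] at h3
        have e1 : (t ^ 2 + 1) * 1 = t ^ 2 + 1 := by ring
        have e2 : (t ^ 2 + 1) * a' = t ^ 2 * a' + a' := by ring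
        have e3 : t ^ 2 * 1 = t ^ 2 := by ring
        have e4 : (1 : F) ^ 2 * 1 = 1 := by ring
        have e5 : (1 : F) ^ 2 * a' = a' := by ring
        rw [e1, e2, e3, e4, e5] at h3
        simp only [hbdef] at h3 ⊢
        rw [hDadd, hDadd', hDadd'] at h3
        have h4 : D (t ^ 2) a' (σ m) + D 1 (t ^ 2 * a') (σ m) = 0 := by
          have h5 := congrArg (fun z => z - D (t ^ 2) (t ^ 2 * a') (σ m) - D 1 a' (σ m)) h3
          rw [show D (t ^ 2) (t ^ 2 * a') (σ m) + D (t ^ 2) a' (σ m) +
            (D 1 (t ^ 2 * a') (σ m) + D 1 a' (σ m)) - D (t ^ 2) (t ^ 2 * a') (σ m) - D 1 a' (σ m) =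
            D (t ^ 2) a' (σ m) + D 1 (t ^ 2 * a') (σ m) by abel,
            show D (t ^ 2) (t ^ 2 * a') (σ m) + D 1 a' (σ m) - D (t ^ 2) (t ^ 2 * a') (σ m) - D 1 a' (σ m) = 0 by
            abel] at h5
          exact h5
        have h6 := hv2 (D 1 (t ^ 2 * a') (σ m))
        exact add_right_cancel (h4.trans h6.symm)
      have hss : ∀ s m, b s s m = 0 := by
        intro s m
        have h3 : X s * X s = 1 := by
          rw [← hXadd]
          have : s + s = 0 := by
            have : s + s = 2 * s := by ring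
            rw [this, hF2, zero_mul]
          rw [this]
          simp only [X]
          rw [H85.SL2.up_zero, map_one, Subgroup.coe_one]
        rw [hbdef, hDdef, smul_sub, ← mul_smul, h3, one_smul]
        have h4 : σ m - X s • σ m - (X s • σ m - σ m) = (σ m + σ m) - (X s • σ m + X s • σ m) := by abel
        rw [h4, hv2, hv2, sub_zero]
      intro s s' m
      rw [hR]
      obtain ⟨c, hc⟩ := hsq (s * s')
      rw [← hc, pow_two, ← hR, hss]
    · intro s s' m
      have h3 := htor (-1) s s' (-m)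
      have e1 : (-1 : F) ^ 2 * s = s := by ring
      have e2 : (-1 : F) ^ 2 * s' = s' := by ring
      have e3 : (-1 : F) * -m = m := by ring
      rw [e1, e2, e3] at h3
      have h4 := hbm s s' m (-m)
      rw [add_neg_cancel, hb0, h3] at h4
      obtain ⟨k, hk⟩ := hodd
      have h5 := hbneg s s' m
      rw [hk, add_nsmul, one_nsmul, mul_comm, mul_nsmul, two_nsmul, ← nsmul_add, ← h4, nsmul_zero, zero_add] at h5
      exact h5
  obtain ⟨s, rfl⟩ := hex x hx
  obtain ⟨t, rfl⟩ := hex y hy
  have h1 : D s t v = D s t (σ (Ψ (π v) 1)) := hDm _ _ _ _ (hσ _).symm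
  have h2 := hball s t (Ψ (π v) 1)
  rw [hbdef, ← h1, hDdef] at h2
  exact sub_eq_zero.1 h2

end

end H51.OG
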