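import Cfsg.Agent.Lib.H51.OffLift

/-!
The `p'`-subgroup of an `SL₂`-pair and the lifted vector.
-/

set_option autoImplicit false
set_option linter.unusedSectionVars false
set_option linter.unusedVariables false

namespace H51.OG

open Cfsg Subgroup H51.FF H51.SylowAmb H53.PU H51.AmalgamBasic
open scoped MatrixGroups

section

variable {p : ℕ} [hp : Fact p.Prime] {H V U : Type*} [Group H] [Finite H] [AddCommGroup V] [Finite V]
  [DistribMulAction H V] [AddCommGroup U] [Finite U] [DistribMulAction H U] {π : V →+ U}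
  (lf : Lf p (H := H) π)

theorem PQ.dvd_card {A B : Subgroup H} (pq : PQ p U A B) : p ∣ Nat.card A := by
  obtain ⟨n, hn⟩ := IsPGroup.iff_card.1 pq.offA.pg
  rw [hn]
  apply dvd_pow_self
  rintro rfl
  have := pq.one_lt
  rw [hn, pow_zero] at this
  omega

include lf

theorem Lf.exists_K_big {A B : Subgroup H} (pq : PQ p U A B) (hq : 2 < Nat.card A) :
    ∃ K ≤ A ⊔ B, (Nat.card K).Coprime p ∧
      normalizer (A : Set H) ⊓ normalizer (B : Set H) ≤ normalizer (K : Set H) ∧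
      ∃ w : V, w ∈ fx V A ∧ w ∈ cmt V K ∧ π w ∈ cmt U A ∧ w ≠ 0 := by
  classical
  obtain ⟨F, i1, i2, ρ, Ψ, nf⟩ := pq.exists_nf
  set K := (A ⊔ B) ⊓ (normalizer (A : Set H) ⊓ normalizer (B : Set H)) with hK
  refine ⟨K, inf_le_left, ?_, ?_, ?_⟩
  · apply Nat.Coprime.symm
    rw [hp.out.coprime_iff_not_dvd]
    intro hdvd
    obtain ⟨x, hx⟩ := exists_prime_orderOf_dvd_card' p hdvd
    obtain ⟨y, hy⟩ := x
    have hy1 := Subgroup.mem_inf.1 hy
    have hy2 := Subgroup.mem_inf.1 hy1.2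
    have h1 := nf.pow_of_nz (y := ⟨y, hy1.1⟩) hy2.1 hy2.2
    have h2 : y ^ (Nat.card A - 1) = 1 := congrArg Subtype.val h1
    have h3 : (⟨y, hy⟩ : K) ^ (Nat.card A - 1) = 1 := Subtype.ext h2
    have h4 := orderOf_dvd_of_pow_eq_one h3
    rw [hx] at h4
    have h5 := pq.dvd_card
    have h6 : p ∣ 1 := by
      have := Nat.dvd_sub h5 h4
      rwa [show Nat.card A - (Nat.card A - 1) = 1 by have := pq.one_lt; omega] at this
    exact hp.out.one_lt.ne' (Nat.dvd_one.1 h6)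
  · intro g hg
    obtain ⟨h1, h2⟩ := Subgroup.mem_inf.1 hg
    rw [mem_nz_iff] at h1 h2 ⊢
    rw [hK, cg_inf, cg_inf, cg_sup, cg_nz, cg_nz, h1, h2]
  · obtain ⟨t, ht0, ht1⟩ : ∃ t : F, t ≠ 0 ∧ t ≠ 1 := by
      by_contra hcon
      push Not at hcon
      have h1 : (Finset.univ : Finset F) ⊆ {0, 1} := by
        intro t _
        by_cases h : t = 0
        · simp [h]
        · simp [hcon t h]
      have h2 := Finset.card_le_card h1
      rw [Finset.card_univ, nf.card] at h2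
      have h3 := Finset.card_le_two (a := (0 : F)) (b := 1)
      omega
    obtain ⟨u, hu⟩ := nf.surj ![0, 1]
    obtain ⟨v, rfl⟩ := lf.surj u
    set x : H := ((ρ.symm (H85.SL2.up (1 : F)) : ↥(A ⊔ B)) : H) with hx
    have hxA : x ∈ A := nf.up_mem 1
    set h : H := ((ρ.symm (dg t ht0) : ↥(A ⊔ B)) : H) with hh
    have hhA : h ∈ normalizer (A : Set H) := nf.dg_nzA ht0
    have hhB : h ∈ normalizer (B : Set H) := nf.dg_nzB pq.cardB ht0
    have hhK : h ∈ K := Subgroup.mem_inf.2 ⟨SetLike.coe_mem _, Subgroup.mem_inf.2 ⟨hhA, hhB⟩⟩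
    have h1 : x • v - v ∈ fx V A := fun a ha => lf.quad pq ha hxA v
    have h2 : x • π v - π v ∈ cmt U A := sub_mem_cmt hxA _
    have hΨ1 : Ψ (x • π v - π v) = ![1, 0] := by
      rw [map_sub, hx, nf.act, MulEquiv.apply_symm_apply, hu, H85.SL2.up_coe]
      ext i
      fin_cases i
      · simp
      · simp
    refine ⟨h • (x • v - v) - (x • v - v), ?_, sub_mem_cmt hhK _, ?_, ?_⟩
    · exact AddSubgroup.sub_mem _ (nz_smul_fx hhA h1) h1
    · rw [map_sub, lf.eqv, map_sub, lf.eqv]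
      exact AddSubgroup.sub_mem _ (nz_smul_cmt hhA h2) h2
    · intro h0
      have h3 : Ψ (π (h • (x • v - v) - (x • v - v))) 0 = 0 := by rw [h0, map_zero, map_zero]; rfl
      have hx1 : π (x • v - v) = x • π v - π v := by rw [map_sub, lf.eqv]
      rw [map_sub, lf.eqv, hx1, map_sub, hh, nf.act, MulEquiv.apply_symm_apply, hΨ1, dg_coe] at h3
      simp only [Pi.sub_apply, Matrix.mulVec, dotProduct, Fin.sum_univ_two, Matrix.of_apply, Matrix.cons_val_zero,
        Matrix.cons_val_one, Matrix.cons_val', Matrix.cons_val_fin_one, mul_one, mul_zero, add_zero] at h3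
      exact ht1 (sub_eq_zero.1 h3)

theorem Lf.exists_K_two {A B : Subgroup H} (pq : PQ p U A B) (hq : Nat.card A = 2) :
    ∃ K ≤ A ⊔ B, (Nat.card K).Coprime p ∧
      normalizer (A : Set H) ⊓ normalizer (B : Set H) ≤ normalizer (K : Set H) ∧
      ∃ w : V, w ∈ fx V A ∧ w ∈ cmt V K ∧ π w ∈ cmt U A ∧ w ≠ 0 := by
  classical
  obtain ⟨F, i1, i2, ρ, Ψ, nf⟩ := pq.exists_nf
  have hp2 : p = 2 := by
    have h1 := pq.dvd_card
    rw [hq] at h1
    exact (Nat.prime_dvd_prime_iff_eq hp.out Nat.prime_two).1 h1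
  have hF2 : (2 : F) = 0 := by
    obtain ⟨u, hu⟩ := nf.surj ![1, 0]
    obtain ⟨v, rfl⟩ := lf.surj u
    have h3 : Ψ (π (p • v)) = 0 := by rw [lf.pz, map_zero, map_zero]
    rw [map_nsmul, map_nsmul, hu, hp2] at h3
    have h4 := congrFun h3 0
    simpa using h4
  have hv2 : ∀ v : V, v + v = 0 := by
    intro v
    have := lf.pz v
    rwa [hp2, two_nsmul] at this
  have h01 : ∀ s : F, s = 0 ∨ s = 1 := by
    intro s
    by_contra hcon
    push Not at hcon
    have h1 : ({0, 1, s} : Finset F) ⊆ Finset.univ := Finset.subset_univ _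
    have h2 := Finset.card_le_card h1
    rw [Finset.card_univ, nf.card, hq, Finset.card_eq_three.2 ⟨0, 1, s, zero_ne_one, hcon.1.symm, hcon.2.symm, rfl⟩] at h2
    omega
  set τ : H := ((ρ.symm (H85.SL2.up (1 : F)) : ↥(A ⊔ B)) : H) with hτ
  set σ : H := ((ρ.symm (H85.SL2.lo (1 : F)) : ↥(A ⊔ B)) : H) with hσ
  have hτA : τ ∈ A := nf.up_mem 1
  have hσB : σ ∈ B := nf.lo_mem pq.cardB 1
  have hA : ∀ a ∈ A, a = 1 ∨ a = τ := by
    intro a ha
    obtain ⟨s, hs⟩ := nf.exists_up (a := ⟨a, Subgroup.mem_sup_left ha⟩) ha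
    have h1 : a = ((ρ.symm (H85.SL2.up s) : ↥(A ⊔ B)) : H) := by rw [← hs, MulEquiv.symm_apply_apply]
    rcases h01 s with rfl | rfl
    · left
      rw [h1, H85.SL2.up_zero, map_one]; rfl
    · right; exact h1
  have hB : ∀ a ∈ B, a = 1 ∨ a = σ := by
    intro a ha
    obtain ⟨s, hs⟩ := nf.exists_lo (b := ⟨a, Subgroup.mem_sup_right ha⟩) ha
    have h1 : a = ((ρ.symm (H85.SL2.lo s) : ↥(A ⊔ B)) : H) := by rw [← hs, MulEquiv.symm_apply_apply]
    rcases h01 s with rfl | rfl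
    · left
      rw [h1, H85.SL2.lo_zero, map_one]; rfl
    · right; exact h1
  have h11 : (1 : F) + 1 = 0 := by rw [one_add_one_eq_two]; exact hF2
  have hττ : τ * τ = 1 := by
    rw [hτ, ← Subgroup.coe_mul, ← map_mul, ← H85.SL2.up_add, h11, H85.SL2.up_zero, map_one]; rfl
  have hσσ : σ * σ = 1 := by
    rw [hσ, ← Subgroup.coe_mul, ← map_mul, ← H85.SL2.lo_add, h11, H85.SL2.lo_zero, map_one]; rfl
  have hτ1 : τ ≠ 1 := by
    intro h
    have h1 := pq.one_lt
    have h2 : A = ⊥ := by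
      rw [eq_bot_iff]
      intro a ha
      rcases hA a ha with h3 | h3
      · exact h3
      · rw [h3, h]; exact one_mem _
    rw [h2, Subgroup.card_bot] at h1
    omega
  have hσ1 : σ ≠ 1 := by
    intro h
    have h1 := pq.one_lt
    have h2 : B = ⊥ := by
      rw [eq_bot_iff]
      intro a ha
      rcases hB a ha with h3 | h3
      · exact h3
      · rw [h3, h]; exact one_mem _
    rw [← pq.cardB, h2, Subgroup.card_bot] at h1
    omega
  obtain ⟨M0, hM0⟩ : ∃ M : SL(2, F), (M : Matrix (Fin 2) (Fin 2) F) = !![0, 1; 1, 1] := ⟨⟨!![0, 1; 1, 1], by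
      rw [Matrix.det_fin_two_of]; linear_combination -hF2⟩, rfl⟩
  have hρ : ρ (ρ.symm (H85.SL2.up (1 : F)) * ρ.symm (H85.SL2.lo (1 : F))) = M0 := by
    rw [map_mul, MulEquiv.apply_symm_apply, MulEquiv.apply_symm_apply]
    apply Subtype.ext
    rw [hM0, Matrix.SpecialLinearGroup.coe_mul, H85.SL2.up_coe, H85.SL2.lo_coe, Matrix.mul_fin_two]
    ext i j
    fin_cases i <;> fin_cases j
    · show (1 : F) * 1 + 1 * 1 = 0
      linear_combination hF2
    · show (1 : F) * 0 + 1 * 1 = 1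
      ring
    · show (0 : F) * 1 + 1 * 1 = 1
      ring
    · show (0 : F) * 0 + 1 * 1 = 1
      ring
  set η : ↥(A ⊔ B) := ρ.symm (H85.SL2.up (1 : F)) * ρ.symm (H85.SL2.lo (1 : F)) with hη
  have hηc : (η : H) = τ * σ := rfl
  have hη3 : η ^ 3 = 1 := by
    apply ρ.injective
    rw [map_pow, hρ, map_one]
    apply Subtype.ext
    rw [pow_succ, pow_two, Matrix.SpecialLinearGroup.coe_mul, Matrix.SpecialLinearGroup.coe_mul,
      Matrix.SpecialLinearGroup.coe_one, hM0]
    rw [Matrix.mul_fin_two, Matrix.mul_fin_two, Matrix.one_fin_two]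
    ext i j
    fin_cases i <;> fin_cases j
    · show ((0 : F) * 0 + 1 * 1) * 0 + (0 * 1 + 1 * 1) * 1 = 1
      ring
    · show ((0 : F) * 0 + 1 * 1) * 1 + (0 * 1 + 1 * 1) * 1 = 0
      linear_combination hF2
    · show ((1 : F) * 0 + 1 * 1) * 0 + (1 * 1 + 1 * 1) * 1 = 0
      linear_combination hF2
    · show ((1 : F) * 0 + 1 * 1) * 1 + (1 * 1 + 1 * 1) * 1 = 1
      linear_combination hF2
  have hη3' : (τ * σ) ^ 3 = 1 := by rw [← hηc, ← Subgroup.coe_pow, hη3]; rfl
  have hτ' : τ⁻¹ = τ := inv_eq_of_mul_eq_one_left hττ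
  have hσ' : σ⁻¹ = σ := inv_eq_of_mul_eq_one_left hσσ
  refine ⟨zpowers (τ * σ), ?_, ?_, ?_, ?_⟩
  · rw [zpowers_le]
    exact mul_mem (Subgroup.mem_sup_left hτA) (Subgroup.mem_sup_right hσB)
  · rw [Nat.card_zpowers, hp2]
    have h1 : orderOf (τ * σ) ∣ 3 := orderOf_dvd_of_pow_eq_one hη3'
    exact Nat.Coprime.coprime_dvd_left h1 (by norm_num)
  · intro g hg
    obtain ⟨h1, h2⟩ := Subgroup.mem_inf.1 hg
    have e1 : g * τ * g⁻¹ = τ := by
      have h3 : g * τ * g⁻¹ ∈ A := (Subgroup.mem_normalizer_iff.1 h1 τ).1 hτA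
      rcases hA _ h3 with h4 | h4
      · exfalso
        apply hτ1
        have : τ = g⁻¹ * (g * τ * g⁻¹) * g := by group
        rw [this, h4]; group
      · exact h4
    have e2 : g * σ * g⁻¹ = σ := by
      have h3 : g * σ * g⁻¹ ∈ B := (Subgroup.mem_normalizer_iff.1 h2 σ).1 hσB
      rcases hB _ h3 with h4 | h4
      · exfalso
        apply hσ1
        have : σ = g⁻¹ * (g * σ * g⁻¹) * g := by group
        rw [this, h4]; group
      · exact h4
    have e3 : g * (τ * σ) * g⁻¹ = τ * σ := by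
      have : g * (τ * σ) * g⁻¹ = (g * τ * g⁻¹) * (g * σ * g⁻¹) := by group
      rw [this, e1, e2]
    rw [mem_nz_iff]
    unfold FF.cg
    rw [MonoidHom.map_zpowers]
    show zpowers (g * (τ * σ) * g⁻¹) = _
    rw [e3]
  · obtain ⟨u, hu⟩ := nf.surj ![1, 0]
    obtain ⟨v', rfl⟩ := lf.surj u
    have hτK : τ ∈ normalizer ((zpowers (τ * σ) : Subgroup H) : Set H) := by
      rw [mem_nz_iff]
      unfold FF.cg
      rw [MonoidHom.map_zpowers]
      show zpowers (τ * (τ * σ) * τ⁻¹) = _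
      have : τ * (τ * σ) * τ⁻¹ = (τ * σ)⁻¹ := by
        rw [mul_inv_rev, hσ', hτ', ← mul_assoc, hττ, one_mul]
      rw [this, zpowers_inv]
    set v := (τ * σ) • v' - v' with hv
    have hvK : v ∈ cmt V (zpowers (τ * σ)) := sub_mem_cmt (mem_zpowers _) _
    refine ⟨τ • v - v, ?_, ?_, ?_, ?_⟩
    · intro a ha
      rcases hA a ha with rfl | rfl
      · rw [one_smul]
      · rw [smul_sub, ← mul_smul, hττ, one_smul]
        have h1 := hv2 v
        have h2 := hv2 (τ • v)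
        have h3 : v - τ • v = (τ • v - v) + ((v + v) - (τ • v + τ • v)) := by abel
        rw [h3, h1, h2]; abel
    · exact AddSubgroup.sub_mem _ (nz_smul_cmt hτK hvK) hvK
    · rw [map_sub, lf.eqv]
      exact sub_mem_cmt hτA _
    · intro h0
      have h3 : Ψ (π (τ • v - v)) 0 = 0 := by rw [h0, map_zero, map_zero]; rfl
      have h4 : Ψ (π v) = ![1, 1] := by
        rw [hv, map_sub, map_sub, lf.eqv, ← hηc, nf.act, hρ, hu, hM0]
        ext i
        fin_cases i
        · show (!![(0 : F), 1; 1, 1].mulVec ![1, 0] - ![1, 0] : Fin 2 → F) 0 = 1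
          simp
          linear_combination -hF2
        · show (!![(0 : F), 1; 1, 1].mulVec ![1, 0] - ![1, 0] : Fin 2 → F) 1 = 1
          simp
      rw [map_sub, map_sub, lf.eqv, hτ, nf.act, MulEquiv.apply_symm_apply, h4, H85.SL2.up_coe] at h3
      simp at h3

theorem Lf.exists_K {A B : Subgroup H} (pq : PQ p U A B) :
    ∃ K ≤ A ⊔ B, (Nat.card K).Coprime p ∧
      normalizer (A : Set H) ⊓ normalizer (B : Set H) ≤ normalizer (K : Set H) ∧
      ∃ w : V, w ∈ fx V A ∧ w ∈ cmt V K ∧ π w ∈ cmt U A ∧ w ≠ 0 := by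
  by_cases hq : 2 < Nat.card A
  · exact lf.exists_K_big pq hq
  · have := pq.one_lt
    exact lf.exists_K_two pq (by omega)

end

end H51.OG
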