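import Cfsg.Agent.Lib.H51.OffLift2

/-!
A vector fixed by the Sylow subgroup and moved by the group.
-/

set_option autoImplicit false
set_option linter.unusedSectionVars false
set_option linter.unusedVariables false

namespace H51.OG

open Cfsg Subgroup H51.FF H51.SylowAmb H53.PU H51.AmalgamBasic
open scoped MatrixGroups

section

variable {p : ℕ} [hp : Fact p.Prime] {H V U : Type*} [Group H] [Finite H] [AddCommGroup V] [Finite V]
  [DistribMulAction H V] [AddCommGroup U] [Finite U] [DistribMulAction H U] {π : V →+ U}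
  (lf : Lf p (H := H) π)

theorem pv_of (pz : ∀ v : V, p • v = 0) : PV p V := by
  obtain ⟨i1⟩ : Nonempty (Module (ZMod p) V) := ⟨AddCommGroup.zmodModule pz⟩
  exact ⟨_, by rw [Module.natCard_eq_pow_finrank (K := ZMod p) (V := V), Nat.card_zmod]⟩

include lf

theorem Lf.main {T M : Subgroup H} (sit : Sit p U T M) : ∃ v ∈ fx V T, ∃ h : H, h • v ≠ v := by
  classical
  obtain ⟨wd, hne⟩ := sit.wd
  have fam := wd.fam hne
  obtain ⟨X, hX⟩ := at_nonempty sit wd fam
  obtain ⟨Z, hZ, hZX, hZM⟩ := at_exZ sit wd fam hX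
  have hXW := at_self sit wd fam hX
  have pq := at_pq sit wd fam hX hXW hZ hZX.symm
  obtain ⟨K, hKL, hKp, hKn, w₀, hw₀X, hw₀K, hw₀U, hw₀⟩ := lf.exists_K pq
  set W : AddSubgroup V := fx V X ⊓ cmt V K ⊓ (cmt U X).comap π with hW
  set T' : Subgroup H := T ⊓ normalizer (X : Set H) with hT'
  have hinv : ∀ t ∈ T', ∀ w ∈ W, t • w ∈ W := by
    intro t ht w hw
    obtain ⟨htT, htX⟩ := Subgroup.mem_inf.1 ht
    have hcX : cg t X = X := mem_nz_iff.1 htX
    have h1 : cg t Z ∈ Wm p H U (DX p U T X) := by
      have h2 : DX p U T X = cg t (DX p U T X) := by rw [← dx_cg htT, hcX]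
      rw [h2, ← wm_image]
      exact ⟨Z, hZ, rfl⟩
    have h2 : ∃ a ∈ X, cg t Z = cg a Z := by
      rcases at_ln sit wd fam hX hXW hZ hZX.symm h1 with h3 | h3
      · exfalso
        rw [← hcX] at h3
        exact hZX (cg_inj.1 h3)
      · exact h3
    obtain ⟨a, ha, hat⟩ := h2
    set y := a⁻¹ * t with hy
    have hyZ : y ∈ normalizer (Z : Set H) := by
      rw [mem_nz_iff, hy, ← cg_cg, hat, cg_inv_cg]
    have hyX : y ∈ normalizer (X : Set H) :=
      mul_mem (inv_mem (Subgroup.le_normalizer ha)) htX
    have hyK : y ∈ normalizer (K : Set H) := hKn (Subgroup.mem_inf.2 ⟨hyX, hyZ⟩)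
    have e : t = a * y := by rw [hy]; group
    have h3 : y • w ∈ W := by
      refine ⟨⟨nz_smul_fx hyX hw.1.1, nz_smul_cmt hyK hw.1.2⟩, ?_⟩
      show π (y • w) ∈ cmt U X
      rw [lf.eqv]
      exact nz_smul_cmt hyX hw.2
    rw [e, mul_smul, h3.1.1 a ha]
    exact h3
  have hW0 : W ≠ ⊥ := by
    intro h
    apply hw₀
    have h1 : w₀ ∈ W := ⟨⟨hw₀X, hw₀K⟩, hw₀U⟩
    rwa [h, AddSubgroup.mem_bot] at h1
  obtain ⟨w, hwW, hw0, hwT⟩ := exists_fixed (pv_of lf.pz) (B := T') (sit.ms.pgT.to_le inf_le_left) hW0 hinv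
  have hKfix : w ∉ fx V K := fun h => hw0 (fx_inf_cmt lf.pz hKp h hwW.1.2)
  have hπw : π w ∉ fx U (X ⊔ Z) := by
    intro h
    apply hKfix
    apply fixed_of_coprime lf.pz hKp
    intro k hk
    rw [← lf.ker, map_sub, lf.eqv, h k (hKL hk), sub_self]
  -- the sum
  have hch : ∀ Y : AT p U T, ∃ t ∈ T, (Y : Subgroup H) = cg t X := fun Y => at_trans' sit wd fam hX Y.2
  choose f hfT hf using hch
  have huniq : ∀ s ∈ T, ∀ t ∈ T, cg s X = cg t X → s • w = t • w := by
    intro s hs t ht h
    have h1 : t⁻¹ * s ∈ T' := by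
      refine Subgroup.mem_inf.2 ⟨mul_mem (inv_mem ht) hs, ?_⟩
      rw [mem_nz_iff, ← cg_cg, h, cg_inv_cg]
    have h2 := hwT _ h1
    rw [mul_smul, inv_smul_eq_iff] at h2
    exact h2
  have : Finite (AT p U T) := Set.toFinite _
  have : Fintype (AT p U T) := Fintype.ofFinite _
  set S : V := ∑ Y : AT p U T, f Y • w with hS
  refine ⟨S, ?_, ?_⟩
  · intro t ht
    rw [hS, Finset.smul_sum]
    let e : AT p U T ≃ AT p U T :=
      { toFun := fun Y => ⟨cg t Y, at_cg Y.2 ht⟩
        invFun := fun Y => ⟨cg t⁻¹ Y, at_cg Y.2 (inv_mem ht)⟩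
        left_inv := fun Y => Subtype.ext (cg_inv_cg t Y)
        right_inv := fun Y => Subtype.ext (cg_cg_inv t Y) }
    refine Fintype.sum_equiv e _ _ ?_
    intro Y
    rw [← mul_smul]
    apply huniq _ (mul_mem ht (hfT Y)) _ (hfT _)
    rw [← cg_cg, ← hf Y, ← hf (e Y)]
    rfl
  · by_contra hcon
    push Not at hcon
    have h1 : π S = 0 := (lf.ker S).2 hcon
    have h2 : π S = ∑ Y : AT p U T, f Y • π w := by
      rw [hS, map_sum]
      exact Finset.sum_congr rfl fun Y _ => lf.eqv _ _
    rw [h2, ← Finset.add_sum_erase _ _ (Finset.mem_univ (⟨X, hX⟩ : AT p U T))] at h1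
    have h3 : ∑ Y ∈ Finset.univ.erase (⟨X, hX⟩ : AT p U T), f Y • π w ∈ fx U (X ⊔ Z) := by
      apply AddSubgroup.sum_mem
      intro Y hY
      have hne : (Y : Subgroup H) ≠ X := fun h => (Finset.mem_erase.1 hY).1 (Subtype.ext h)
      have h4 : f Y • π w ∈ cmt U (Y : Subgroup H) := by
        rw [hf Y]
        exact cmt_cg _ _ hwW.2
      have h5 : Cm (X ⊔ Z) (Y : Subgroup H) := by
        rw [← at_lx sit wd fam hX hXW hZ hZX.symm]
        exact at_cm' sit wd fam hX Y.2 hne
      rw [fx_sup]
      have h6 : cmt U (Y : Subgroup H) ≤ fx U X ⊓ fx U Z := by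
        apply H53.PU.cmt_le
        intro y hy v
        exact ⟨wd.cmt_le Y.2.1 hX.1 (h5.mono le_sup_left le_rfl).symm y hy v,
          wd.cmt_le Y.2.1 hZ.1 (h5.mono le_sup_right le_rfl).symm y hy v⟩
      exact h6 h4
    have h4 : f ⟨X, hX⟩ • π w = π w := by
      have h5 := huniq (f ⟨X, hX⟩) (hfT _) 1 (one_mem _) (by rw [← hf, cg_one])
      rw [one_smul] at h5
      rw [← lf.eqv, h5]
    rw [h4] at h1
    apply hπw
    rw [eq_neg_of_add_eq_zero_left h1]
    exact AddSubgroup.neg_mem _ h3

end

/-- the module theorem -/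
theorem exists_fixed_moved (p : ℕ) [hp : Fact p.Prime] {H : Type*} [Group H] [Finite H] {T M : Subgroup H}
    (ms : MS p T M) : ∀ (n : ℕ) (V : Type*) [AddCommGroup V] [Finite V] [DistribMulAction H V],
    Nat.card V ≤ n → (∀ v : V, p • v = 0) → (∀ h : H, (∀ v : V, h • v = v) → h = 1) →
    (∃ A : Subgroup H, IsPGroup p A ∧ Cm A A ∧ A ≠ ⊥ ∧ Nat.card V ≤ vl V A) → ∃ v ∈ fx V T, ∃ h : H, h • v ≠ v := by
  intro n
  induction n with
  | zero =>
    intro V _ _ _ h1
    have := Nat.card_pos (α := V)
    omega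
  | succ n ih =>
    intro V _ _ _ hn pz faith hoff
    classical
    by_contra hcon
    push Not at hcon
    have hCdef : ∀ v, v ∈ fx V (⊤ : Subgroup H) ↔ ∀ h : H, h • v = v := fun v =>
      ⟨fun h x => h x (Subgroup.mem_top _), fun h x _ => h x⟩
    set C : AddSubgroup V := fx V (⊤ : Subgroup H) with hC
    have hCi : ∀ g : H, ∀ w ∈ C, g • w ∈ C := by
      intro g w hw
      rw [(hCdef w).1 hw g]; exact hw
    letI act := quotAct C hCi
    set U := V ⧸ C with hU
    let π : V →+ U := QuotientAddGroup.mk' C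
    have hπ : ∀ v, π v = 0 ↔ v ∈ C := fun v => QuotientAddGroup.eq_zero_iff v
    have lf : Lf p (H := H) π := by
      refine ⟨pz, QuotientAddGroup.mk'_surjective C, fun h v => rfl, ?_⟩
      intro v
      rw [hπ, hCdef]
    have hTV : fx V T ≤ C := fun v hv => (hCdef v).2 (hcon v hv)
    -- `C ≠ 0`
    have hC0 : C ≠ ⊥ := by
      intro hC0
      have htop : (⊤ : AddSubgroup V) ≠ ⊥ := by
        intro h
        apply ms.Mne
        rw [eq_top_iff]
        intro g _
        have : g = 1 := by
          apply faith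
          intro v
          have h1 : ∀ v : V, v = 0 := fun v => by
            have : v ∈ (⊤ : AddSubgroup V) := AddSubgroup.mem_top v
            rwa [h, AddSubgroup.mem_bot] at this
          rw [h1 v, smul_zero]
        rw [this]; exact one_mem _
      obtain ⟨w, -, hw0, hwT⟩ := exists_fixed (pv_of pz) ms.pgT htop (fun b _ w _ => AddSubgroup.mem_top _)
      have h1 := hTV hwT
      rw [hC0, AddSubgroup.mem_bot] at h1
      exact hw0 h1
    have hcard : Nat.card V = Nat.card U * Nat.card C := AddSubgroup.card_eq_card_quotient_mul_card_addSubgroup C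
    have hC1 : 1 < Nat.card C := by
      rw [Nat.one_lt_iff_ne_zero_and_ne_one]
      refine ⟨Nat.card_pos.ne', fun h => hC0 (AddSubgroup.card_eq_one.1 h)⟩
    have hUn : Nat.card U ≤ n := by
      have h1 := Nat.card_pos (α := U)
      have h2 : Nat.card U < Nat.card V := by
        rw [hcard]
        exact lt_mul_of_one_lt_right h1 hC1
      omega
    have pzU : ∀ u : U, p • u = 0 := by
      intro u
      obtain ⟨v, rfl⟩ := lf.surj u
      rw [← map_nsmul, pz, map_zero]
    have faithU : ∀ h : H, (∀ u : U, h • u = u) → h = 1 := by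
      let N : Subgroup H :=
        { carrier := {h | ∀ u : U, h • u = u}
          one_mem' := fun u => one_smul H u
          mul_mem' := fun {a b} ha hb u => by rw [mul_smul, hb, ha]
          inv_mem' := fun {a} ha u => by rw [inv_smul_eq_iff, ha] }
      have hNn : N.Normal := by
        refine ⟨fun n hn g u => ?_⟩
        rw [mul_smul, mul_smul, hn, smul_inv_smul]
      have hNp : IsPGroup p N := by
        intro ⟨h, hh⟩
        refine ⟨1, Subtype.ext ?_⟩
        rw [pow_one]
        show h ^ p = 1
        apply faith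
        intro v
        have h1 : ∀ x : H, x • (h • v - v) = h • v - v := by
          rw [← lf.ker, map_sub, lf.eqv, hh, sub_self]
        have h2 : ∀ k : ℕ, h ^ k • v = v + k • (h • v - v) := by
          intro k
          induction k with
          | zero => simp
          | succ k ih =>
            have h3 : h • (k • (h • v - v)) = k • (h • v - v) := by
              have := map_nsmul (DistribSMul.toAddMonoidHom V h) k (h • v - v)
              rw [DistribSMul.toAddMonoidHom_apply, DistribSMul.toAddMonoidHom_apply, h1 h] at this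
              exact this
            rw [pow_succ', mul_smul, ih, smul_add, h3, succ_nsmul]
            abel
        rw [h2, pz, add_zero]
      have hN := ms.core N hNn hNp
      intro h hh
      have : h ∈ N := hh
      rwa [hN, Subgroup.mem_bot] at this
    have offU : ∃ A : Subgroup H, IsPGroup p A ∧ Cm A A ∧ A ≠ ⊥ ∧ Nat.card U ≤ vl U A := by
      obtain ⟨A, h1, h2, h3, h4⟩ := hoff
      refine ⟨A, h1, h2, h3, ?_⟩
      unfold vl at h4 ⊢
      have hle : (fx V A).map π ≤ fx U A := by
        rintro _ ⟨v, hv, rfl⟩ a ha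
        rw [← lf.eqv, hv a ha]
      have h5 : Nat.card (fx V A) ≤ Nat.card (fx U A) * Nat.card C := by
        have h6 : Nat.card ((fx V A).map π) ≤ Nat.card (fx U A) := AddSubgroup.card_le_of_le hle
        refine le_trans ?_ (Nat.mul_le_mul_right _ h6)
        have h7 : C ≤ fx V A := fx_anti le_top
        have h8 : (fx V A).map π = (fx V A).map (QuotientAddGroup.mk' C) := rfl
        have h9 : Nat.card (fx V A) = Nat.card ((fx V A).map π) * Nat.card C := by
          have h10 := AddSubgroup.card_mul_index (((π.addSubgroupMap (fx V A))).ker)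
          rw [AddSubgroup.index_ker] at h10
          have h11 : Nat.card (π.addSubgroupMap (fx V A)).range = Nat.card ((fx V A).map π) := by
            rw [AddMonoidHom.range_eq_top.2 (AddMonoidHom.addSubgroupMap_surjective π (fx V A))]
            exact AddSubgroup.card_top
          have h12 : Nat.card (π.addSubgroupMap (fx V A)).ker = Nat.card C := by
            apply Nat.card_congr
            refine
              { toFun := fun x => ⟨x.1.1, (hπ _).1 (congrArg Subtype.val x.2)⟩
                invFun := fun c => ⟨⟨c.1, h7 c.2⟩, Subtype.ext ((hπ _).2 c.2)⟩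
                left_inv := fun x => rfl
                right_inv := fun c => rfl }
          rw [h11, h12] at h10
          rw [← h10]; ring
        exact h9.le
      rw [hcard] at h4
      have h6 : Nat.card U * Nat.card C ≤ Nat.card A * Nat.card (fx U A) * Nat.card C := by
        calc Nat.card U * Nat.card C ≤ Nat.card A * Nat.card (fx V A) := h4
          _ ≤ Nat.card A * (Nat.card (fx U A) * Nat.card C) := Nat.mul_le_mul_left _ h5
          _ = Nat.card A * Nat.card (fx U A) * Nat.card C := by ring
      exact Nat.le_of_mul_le_mul_right h6 (by omega)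
    obtain ⟨u, huT, x, hux⟩ := ih U hUn pzU faithU offU
    have sit : Sit p U T M := by
      refine ⟨ms, pzU, faithU, ?_, offU⟩
      let St : Subgroup H :=
        { carrier := {h | ∀ v ∈ fx U T, h • v = v}
          one_mem' := fun v _ => one_smul H v
          mul_mem' := fun {a b} ha hb v hv => by rw [mul_smul, hb v hv, ha v hv]
          inv_mem' := fun {a} ha v hv => by rw [inv_smul_eq_iff, ha v hv] }
      have hTS : T ≤ St := fun t ht v hv => hv t ht
      have hS1 : St ≠ ⊤ := by
        intro h
        apply hux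
        have : x ∈ St := by rw [h]; exact Subgroup.mem_top x
        exact this u huT
      exact fun g hg => ms.huniq St hS1 hTS hg
    obtain ⟨v, hv, h, hh⟩ := lf.main sit
    exact hh (hcon v hv h)

end H51.OG
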