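import Cfsg.Agent.Lib.H51.OffGL

/-!
Points, uniqueness, and `SL₂`-pairs of offenders.
-/

set_option autoImplicit false
set_option linter.unusedSectionVars false
set_option linter.unusedVariables false

namespace H51.OG

open Subgroup H51.FF H51.SylowAmb H53.PU

section pts

variable {p : ℕ} [hp : Fact p.Prime] {H : Type*} [Group H] [Finite H] {𝒮 : Set (Subgroup H)} (fam : Fam p 𝒮)
  {T M D R : Subgroup H} (ms : MS p T M) (gd : Gd p 𝒮 M D R)

include fam ms gd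

theorem Gd.nz_le0 {D' : Subgroup H} (h1 : D' ≤ M) (h2 : D' ≤ normalizer (D : Set H)) (h3 : IsPGroup p D')
    (h4 : cl 𝒮 D' = D') (h5 : ¬ D' ≤ D) : normalizer (D : Set H) ⊓ normalizer (D' : Set H) ≤ M := by
  have h6 := gd.max (D' ⊔ D) (sup_le h1 gd.DM) (h3.to_sup_of_normal_right' gd.pgD h2) (cl_sup h4 gd.clD)
    (lt_of_le_of_ne le_sup_right (by
      intro h
      apply h5
      rw [h]; exact le_sup_left))
  intro x hx
  apply h6
  rw [mem_nz_iff, cg_sup, mem_nz_iff.1 hx.1, mem_nz_iff.1 hx.2]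

theorem Gd.nz_le {D' : Subgroup H} {g : H} (hg : g ∈ normalizer (D : Set H)) (h1 : D' ≤ cg g M)
    (h2 : D' ≤ normalizer (D : Set H)) (h3 : IsPGroup p D')
    (h4 : cl 𝒮 D' = D') (h5 : ¬ D' ≤ D) : normalizer (D : Set H) ⊓ normalizer (D' : Set H) ≤ cg g M := by
  have hgD : cg g⁻¹ D = D := mem_nz_iff.1 (inv_mem hg)
  have h6 := gd.nz_le0 fam ms (D' := cg g⁻¹ D') (by rw [cg_le_iff, inv_inv]; exact h1)
    (by
      rw [cg_le_iff, inv_inv, cg_eq_self hg]; exact h2) (pg_cg h3) (by rw [cl_cg fam.conj, h4]) (by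
      intro h
      apply h5
      rw [← hgD] at h
      exact cg_le_cg.1 h)
  have h7 := cg_mono (g := g) h6
  rw [← cg_nz, cg_inf, cg_cg_inv, cg_eq_self hg] at h7
  exact h7

theorem Gd.uniq0 {D' : Subgroup H} (h2 : D' ≤ normalizer (D : Set H)) (h3 : IsPGroup p D')
    (h4 : cl 𝒮 D' = D') (h5 : ¬ D' ≤ D) (h1 : D' ≤ M) {g : H} (hg : g ∈ normalizer (D : Set H))
    (h6 : D' ≤ cg g M) : g ∈ M := by
  classical
  by_contra hgM
  let bad : Set (Subgroup H) := {D' | D' ≤ normalizer (D : Set H) ∧ IsPGroup p D' ∧ cl 𝒮 D' = D' ∧ ¬ D' ≤ D ∧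
    D' ≤ M ∧ ∃ g ∈ normalizer (D : Set H), g ∉ M ∧ D' ≤ cg g M}
  obtain ⟨E, hE, hEmax⟩ := Set.exists_max_image bad (fun D => Nat.card D) (Set.toFinite _)
    ⟨D', h2, h3, h4, h5, h1, g, hg, hgM, h6⟩
  obtain ⟨e1, e2, e3, e4, e5, x, hx, hxM, e6⟩ := hE
  have hN1 := gd.nz_le0 fam ms e5 e1 e2 e3 e4
  have hN2 := gd.nz_le fam ms (g := x) hx e6 e1 e2 e3 e4
  obtain ⟨S, hES, hSK, hSp, hSs⟩ := exists_sylow_ge (p := p) (K := normalizer (D : Set H) ⊓ normalizer (E : Set H)) (Q := E)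
    (le_inf e1 Subgroup.le_normalizer) e2
  have hSN : S ≤ normalizer (D : Set H) := hSK.trans inf_le_left
  have hclS : E ≤ cl 𝒮 S := by
    conv_lhs => rw [← e3]
    exact cl_mono hES
  have hcl : E = cl 𝒮 S := by
    apply Subgroup.eq_of_le_of_card_ge hclS
    exact hEmax _ ⟨(cl_le S).trans hSN, hSp.to_le (cl_le S), cl_cl S, fun h => e4 (hclS.trans h),
      (cl_le S).trans (hSK.trans hN1), x, hx, hxM, (cl_le S).trans (hSK.trans hN2)⟩
  have hSs' : ¬ p ∣ S.relIndex (normalizer (D : Set H)) := by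
    apply not_dvd_of_forall hSN hSp
    intro R' a1 a2 a3 a4
    symm
    refine eq_of_syl a2 (le_inf a3 ?_) a1 hSs
    rw [hcl]
    exact a4.trans (nz_cl_le fam.conj S)
  have hS1 : S ≤ M ⊓ normalizer (D : Set H) := le_inf (hSK.trans hN1) hSN
  have hS2 : cg x⁻¹ S ≤ M ⊓ normalizer (D : Set H) := by
    rw [cg_le_iff, inv_inv, cg_inf, cg_eq_self hx]
    exact le_inf (hSK.trans hN2) hSN
  have hSs1 := syl_mono inf_le_right hS1 hSs'
  have hSs2 : ¬ p ∣ (cg x⁻¹ S).relIndex (M ⊓ normalizer (D : Set H)) := by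
    apply syl_mono inf_le_right hS2
    have := syl_cg (g := x⁻¹) hSs'
    rwa [cg_eq_self (inv_mem hx)] at this
  obtain ⟨y, hy, hyS⟩ := sylow_conj hS1 hSp hSs1 hS2 (pg_cg hSp) hSs2
  have hyS' : cg (y * x⁻¹) S = S := by rw [← cg_cg]; exact hyS
  have h7 : y * x⁻¹ ∈ M := by
    apply hN1
    refine Subgroup.mem_inf.2 ⟨Subgroup.mul_mem _ (Subgroup.mem_inf.1 hy).2 (Subgroup.inv_mem _ hx), ?_⟩
    rw [hcl]
    exact nz_cl_le fam.conj S (mem_nz_iff.2 hyS')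
  apply hxM
  have e : x = (y * x⁻¹)⁻¹ * y := by group
  rw [e]
  exact Subgroup.mul_mem _ (Subgroup.inv_mem _ h7) (Subgroup.mem_inf.1 hy).1

theorem Gd.uniq {D' : Subgroup H} (h2 : D' ≤ normalizer (D : Set H)) (h3 : IsPGroup p D')
    (h4 : cl 𝒮 D' = D') (h5 : ¬ D' ≤ D) {g k : H} (hg : g ∈ normalizer (D : Set H)) (hk : k ∈ normalizer (D : Set H))
    (h1 : D' ≤ cg g M) (h6 : D' ≤ cg k M) : g⁻¹ * k ∈ M := by
  have hgD : cg g⁻¹ D = D := mem_nz_iff.1 (inv_mem hg)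
  refine gd.uniq0 fam ms (D' := cg g⁻¹ D') ?_ (pg_cg h3) (by rw [cl_cg fam.conj, h4]) ?_ ?_
    (mul_mem (inv_mem hg) hk) ?_
  · rw [cg_le_iff, inv_inv, cg_eq_self hg]; exact h2
  · intro h
    apply h5
    rw [← hgD] at h
    exact cg_le_cg.1 h
  · rw [cg_le_iff, inv_inv]; exact h1
  · rw [cg_le_iff, inv_inv, cg_cg, mul_inv_cancel_left]; exact h6

theorem Gd.exists_pt {X : Subgroup H} (hX : X ≤ normalizer (D : Set H)) (hXp : IsPGroup p X) :
    ∃ g ∈ normalizer (D : Set H), X ≤ cg g M := by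
  obtain ⟨n, hn, hn1⟩ := exists_conj_le gd.RN gd.pgR gd.syl hX hXp
  refine ⟨n⁻¹, inv_mem hn, ?_⟩
  have h1 : cg n X ≤ M := hn1.trans gd.RM
  rwa [cg_le_iff] at h1

omit fam ms gd in
theorem cg_eq_of_inv_mul_mem {g k : H} (h : g⁻¹ * k ∈ M) : cg g M = cg k M := by
  have e : k = g * (g⁻¹ * k) := by group
  rw [e, ← cg_cg, cg_eq_self h]

end pts

/-- two subgroups share a point -/
def Sm {H : Type*} [Group H] (M D A B : Subgroup H) : Prop :=
  ∃ g ∈ normalizer (D : Set H), A ≤ cg g M ∧ B ≤ cg g M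

section trans

variable {p : ℕ} {H V : Type*} [Group H] [AddCommGroup V] [DistribMulAction H V] {L : Subgroup H}

theorem fx_mapS (Z : Subgroup L) : fx V (Z.map L.subtype) = fx V Z := by
  ext v
  constructor
  · intro h z hz
    exact h (z : H) ⟨z, hz, rfl⟩
  · rintro h _ ⟨z, hz, rfl⟩
    exact h z hz

theorem map_cg (x : L) (Z : Subgroup L) : (cg x Z).map L.subtype = cg (x : H) (Z.map L.subtype) := by
  unfold cg
  rw [Subgroup.map_map, Subgroup.map_map]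
  rfl

theorem card_mapS (Z : Subgroup L) : Nat.card (Z.map L.subtype) = Nat.card Z :=
  Subgroup.card_map_of_injective L.subtype_injective

theorem vl_mapS (Z : Subgroup L) : vl V (Z.map L.subtype) = vl V Z := by
  unfold vl
  rw [card_mapS, fx_mapS]

theorem map_top' : (⊤ : Subgroup L).map L.subtype = L := by
  rw [← MonoidHom.range_eq_map, Subgroup.range_subtype]

theorem Off.mapS {q : ℕ} {Z : Subgroup L} (h : Off p q V Z) : Off p q V (Z.map L.subtype) := by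
  refine ⟨by rw [card_mapS]; exact h.card, h.pg.map _, ?_, ?_, ?_⟩
  · rintro _ ⟨a, ha, rfl⟩ _ ⟨b, hb, rfl⟩
    exact congrArg Subtype.val (h.comm a ha b hb)
  · rintro _ ⟨a, ha, rfl⟩ v
    rw [fx_mapS]
    exact h.quad a ha v
  · rw [fx_mapS]; exact h.ff

theorem sp_mapS {q : ℕ} {A B : Subgroup L} (h : Sp q V A B) : Sp q V (A.map L.subtype) (B.map L.subtype) := by
  refine ⟨?_, ?_, ?_⟩
  · rw [fx_mapS, fx_mapS]; exact h.cA
  · rw [fx_mapS, fx_mapS]; exact h.cB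
  · rw [fx_mapS, fx_mapS]; exact h.cV

theorem int_mapS {A B : Subgroup L} (h : Int' V A B) : Int' V (A.map L.subtype) (B.map L.subtype) := by
  rintro _ ⟨a, ha, rfl⟩ h1 w hw hw'
  rw [fx_mapS] at hw hw' ⊢
  exact h a ha (fun h2 => h1 (by rw [h2]; rfl)) w hw hw'

end trans

/-- an `SL₂`-pair -/
structure PQ (p : ℕ) {H : Type*} (V : Type*) [Group H] [AddCommGroup V] [DistribMulAction H V] (A B : Subgroup H) : Prop where
  one_lt : 1 < Nat.card A
  offA : Off p (Nat.card A) V A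
  offB : Off p (Nat.card A) V B
  sp : Sp (Nat.card A) V A B
  IA : Int' V A B
  IB : Int' V B A
  genA : ∀ a ∈ A, a ≠ 1 → B ⊔ cg a B = A ⊔ B
  genB : ∀ b ∈ B, b ≠ 1 → A ⊔ cg b A = A ⊔ B
  conj : ∃ l ∈ A ⊔ B, B = cg l A
  fxA : ∀ y ∈ fx V A, ∃ a ∈ A, ∃ w : V, ∃ c ∈ fx V (A ⊔ B), y = a • w - w + c
  fxB : ∀ y ∈ fx V B, ∃ b ∈ B, ∃ w : V, ∃ c ∈ fx V (A ⊔ B), y = b • w - w + c
  main : ∃ (F : Type) (_ : Field F) (_ : Fintype F)
    (ρ : ↥(A ⊔ B) ≃* Matrix.SpecialLinearGroup (Fin 2) F) (Ψ : V →+ (Fin 2 → F)), Function.Surjective Ψ ∧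
      (∀ v, Ψ v = 0 ↔ v ∈ fx V (A ⊔ B)) ∧ (∀ (h : ↥(A ⊔ B)) (v : V),
      Ψ ((h : H) • v) = ((ρ h : Matrix.SpecialLinearGroup (Fin 2) F) : Matrix (Fin 2) (Fin 2) F).mulVec (Ψ v)) ∧
      Fintype.card F = Nat.card A

section pq

variable {p : ℕ} [hp : Fact p.Prime] {H V : Type*} [Group H] [Finite H] [AddCommGroup V] [Finite V]
  [DistribMulAction H V] {A B : Subgroup H}

theorem PQ.cardB (h : PQ p V A B) : Nat.card B = Nat.card A := h.offB.card

theorem PQ.symm (h : PQ p V A B) : PQ p V B A := by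
  obtain ⟨h1, h2, h3, h4, h5, h6, h7, h8, ⟨l, hl, hlB⟩, h10, h11, h12⟩ := h
  have hc : Nat.card B = Nat.card A := h3.card
  refine ⟨by rw [hc]; exact h1, by rw [hc]; exact h3, by rw [hc]; exact h2, ?_, h6, h5, ?_, ?_, ?_, ?_, ?_, ?_⟩
  · rw [hc]
    exact ⟨by rw [inf_comm]; exact h4.cB, by rw [inf_comm]; exact h4.cA, by rw [inf_comm]; exact h4.cV⟩
  · rw [sup_comm]; exact h8
  · rw [sup_comm B A]; exact h7
  · refine ⟨l⁻¹, by rw [sup_comm]; exact inv_mem hl, ?_⟩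
    rw [hlB, cg_inv_cg]
  · rw [sup_comm]; exact h11
  · rw [sup_comm]; exact h10
  · rw [sup_comm B A, hc]; exact h12

theorem PQ.of_pm {L : Subgroup H} (hL : A ⊔ B = L) {T₀ : Sylow p L} {M₀ : Subgroup L}
    (pm : PM p V (T₀ : Subgroup L) M₀ (A.subgroupOf L)) {l : L} (hl : l ∉ M₀) (hB : B = cg (l : H) A) :
    PQ p V A B := by
  have hA : (A.subgroupOf L).map L.subtype = A := by
    rw [Subgroup.subgroupOf_map_subtype, inf_eq_left.2 (hL ▸ le_sup_left)]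
  have hB' : (cg l (A.subgroupOf L)).map L.subtype = B := by rw [map_cg, hA, hB]
  have hc : Nat.card (A.subgroupOf L) = Nat.card A := by rw [← card_mapS, hA]
  have hl1 : (1 : L)⁻¹ * l ∉ M₀ := by rwa [inv_one, one_mul]
  have hl2 := inv_mul_not_mem hl1
  have hoff := pm.off
  rw [hc] at hoff
  have hcg : cg (1 : L) (A.subgroupOf L) = A.subgroupOf L := cg_one _
  have hmapL : (⊤ : Subgroup L).map L.subtype = L := map_top'
  refine ⟨?_, ?_, ?_, ?_, ?_, ?_, ?_, ?_, ?_, ?_, ?_, ?_⟩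
  · rw [← hc]; exact pm.one_lt
  · have := Off.mapS hoff
    rwa [hA] at this
  · have := Off.mapS (hoff.cg l)
    rwa [hB'] at this
  · have h1 := pm.sp hl1
    rw [hcg, hc] at h1
    have := sp_mapS h1
    rwa [hA, hB'] at this
  · have h1 := pm.int hl1
    rw [hcg] at h1
    have := int_mapS h1
    rwa [hA, hB'] at this
  · have h1 := pm.int hl2
    rw [hcg] at h1
    have := int_mapS h1
    rwa [hA, hB'] at this
  · intro a ha ha1
    have ha' : (⟨a, hL ▸ le_sup_left (α := Subgroup H) ha⟩ : L) ∈ A.subgroupOf L := Subgroup.mem_subgroupOf.2 ha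
    set a' : L := ⟨a, hL ▸ le_sup_left (α := Subgroup H) ha⟩ with hadef
    have ha'1 : a' ≠ 1 := fun h => ha1 (congrArg Subtype.val h)
    have h1 := pm.conj_not_mem ha' ha'1 hl
    have h2 := pm.gen' (g := l) (h := a' * l) (by
      have e : l⁻¹ * (a' * l) = l⁻¹ * a' * l := by group
      rw [e]; exact h1)
    have h3 := congrArg (Subgroup.map L.subtype) h2
    rw [Subgroup.map_sup, hB', ← cg_cg, map_cg, hB', hmapL] at h3
    rw [hL]; exact h3
  · intro b hb hb1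
    have hb' : (⟨b, hL ▸ le_sup_right (α := Subgroup H) hb⟩ : L) ∈ cg l (A.subgroupOf L) := by
      rw [mem_cg, Subgroup.mem_subgroupOf]
      rw [hB, mem_cg] at hb
      exact hb
    set b' : L := ⟨b, hL ▸ le_sup_right (α := Subgroup H) hb⟩ with hbdef
    have hb'1 : b' ≠ 1 := fun h => hb1 (congrArg Subtype.val h)
    rw [mem_cg] at hb'
    have h1 := pm.conj_not_mem hb' (by
      intro h2
      apply hb'1
      have e : b' = l * (l⁻¹ * b' * l) * l⁻¹ := by group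
      rw [e, h2]; group) (x := l⁻¹) (fun h2 => hl (by simpa using inv_mem h2))
    have h2 := pm.gen' (g := 1) (h := b') (by
      have e : (l⁻¹)⁻¹ * (l⁻¹ * b' * l) * l⁻¹ = (1 : L)⁻¹ * b' := by group
      rw [e] at h1; exact h1)
    have h3 := congrArg (Subgroup.map L.subtype) h2
    rw [Subgroup.map_sup, hcg, hA, map_cg, hA, hmapL] at h3
    rw [hL]; exact h3
  · exact ⟨l, hL ▸ l.2, hB⟩
  · intro y hy
    rw [← hA, fx_mapS] at hy
    obtain ⟨a, ha, w, c, hc, hy⟩ := pm.fx_eq hy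
    refine ⟨a, Subgroup.mem_subgroupOf.1 ha, w, c, ?_, hy⟩
    rw [hL, ← hmapL, fx_mapS]
    exact hc
  · intro y hy
    rw [hB, mem_fx_cg, ← hA, fx_mapS] at hy
    obtain ⟨a, ha, w, c, hc, hy⟩ := pm.fx_eq hy
    have hcL : c ∈ fx V (A ⊔ B) := by
      rw [hL, ← hmapL, fx_mapS]
      exact hc
    refine ⟨(l : H) * a * (l : H)⁻¹, ?_, (l : H) • w, c, hcL, ?_⟩
    · rw [hB, mem_cg]
      have e : (l : H)⁻¹ * ((l : H) * a * (l : H)⁻¹) * l = a := by group
      rw [e]; exact Subgroup.mem_subgroupOf.1 ha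
    · have h1 : y = (l : H) • (a • w - w + c) := by rw [← hy, smul_inv_smul]
      rw [h1, smul_add, smul_sub, mul_smul, mul_smul, inv_smul_smul, hcL l (hL ▸ l.2)]
      rfl
  · obtain ⟨F, i1, i2, ρ, Ψ, h1, h2, h3, h4⟩ := pm.main
    subst hL
    refine ⟨F, i1, i2, ρ, Ψ, h1, ?_, h3, by rw [h4, hc]⟩
    intro v
    rw [h2]
    exact ⟨fun h x hx => h ⟨x, hx⟩, fun h x => h x x.2⟩

end pq

end H51.OG
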