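import Cfsg.Agent.Lib.H51.OffG
import Cfsg.Agent.Lib.H51.NAct
import Cfsg.Prelude.Def_LocalEven
import Cfsg.Prelude.Def_PLocal

/-!
From the group theoretic hypotheses to the module theoretic situation.
-/

set_option autoImplicit false
set_option linter.unusedSectionVars false
set_option linter.unusedVariables false

namespace H51.OG

open Cfsg Subgroup H51.FF H51.SylowAmb H53.PU

section

variable {p : ℕ} [hp : Fact p.Prime]

theorem ms_of {P : Type*} [Group P] [Finite P] (hmin : Cfsg.IsPMinimal p P) (T : Sylow p P) (M : Subgroup P)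
    (hM : IsCoatom M) (hTM : (T : Subgroup P) ≤ M) (hOp : Cfsg.pCore p P = ⊥) : MS p (T : Subgroup P) M := by
  refine ⟨T.2, ?_, hM.1, hTM, ?_, ?_⟩
  · rw [Subgroup.relIndex_top_right]; exact T.not_dvd_index
  · intro N hN hTN
    obtain ⟨_, M₀, _, hu⟩ := hmin T
    obtain ⟨M₁, hM₁, hNM₁⟩ := (eq_top_or_exists_le_coatom N).resolve_left hN
    have h1 := hu M₁ ⟨hM₁, hTN.trans hNM₁⟩
    have h2 := hu M ⟨hM, hTM⟩
    rw [h2, ← h1]
    exact hNM₁
  · intro N hN hNp
    rw [eq_bot_iff, ← hOp]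
    exact H13.Cores.le_pCore hN hNp

variable {G : Type*} [Group G] [Finite G]

theorem ab_of {p : ℕ} {V : Subgroup G} (hV : Cfsg.IsElementaryAbelian p V) : ∀ a ∈ V, ∀ b ∈ V, a * b = b * a := by
  obtain ⟨hVcomm, hVp⟩ := hV
  intro a ha b hb
  have h1 := hVcomm.is_comm.comm (⟨a, ha⟩ : V) ⟨b, hb⟩
  exact congrArg Subtype.val h1

theorem pz_of {p : ℕ} {V : Subgroup G} (hV : Cfsg.IsElementaryAbelian p V) (hVab : ∀ a ∈ V, ∀ b ∈ V, a * b = b * a) :
    letI := H51.NAct.addV V hVab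
    ∀ v : Additive V, p • v = 0 := by
  letI := H51.NAct.addV V hVab
  intro v
  obtain ⟨v, rfl⟩ := Additive.ofMul.surjective v
  apply Additive.toMul.injective
  apply Subtype.ext
  show ((v ^ p : V) : G) = 1
  rw [Subgroup.coe_pow]
  exact hV.2 v v.2

theorem faith_of {V P : Subgroup G} (hVab : ∀ a ∈ V, ∀ b ∈ V, a * b = b * a) (hPV : P ≤ normalizer (V : Set G))
    (hfaith : P ⊓ centralizer (V : Set G) = ⊥) :
    letI := H51.NAct.addV V hVab
    letI := H51.NAct.actV V P hVab hPV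
    ∀ h : ↥P, (∀ v : Additive V, h • v = v) → h = 1 := by
  letI := H51.NAct.addV V hVab
  letI := H51.NAct.actV V P hVab hPV
  intro g hg
  have h1 : (g : G) ∈ P ⊓ Subgroup.centralizer (V : Set G) :=
    Subgroup.mem_inf.2 ⟨g.2, (H51.NAct.fix_all_iff V P hVab hPV g).1 hg⟩
  rw [hfaith, Subgroup.mem_bot] at h1
  exact Subtype.ext h1

theorem off_of {V P : Subgroup G} (hVab : ∀ a ∈ V, ∀ b ∈ V, a * b = b * a) (hPV : P ≤ normalizer (V : Set G))
    (hfaith : P ⊓ centralizer (V : Set G) = ⊥)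
    (hoff : ∃ A : Subgroup G, A ≤ P ∧ ¬ A ≤ Subgroup.centralizer (V : Set G) ∧ Cfsg.IsBestOffenderOn p V A) :
    letI := H51.NAct.addV V hVab
    letI := H51.NAct.actV V P hVab hPV
    ∃ A : Subgroup ↥P, IsPGroup p A ∧ Cm A A ∧ A ≠ ⊥ ∧ Nat.card (Additive V) ≤ vl (Additive V) A := by
  letI := H51.NAct.addV V hVab
  letI := H51.NAct.actV V P hVab hPV
  obtain ⟨A, hAP, hAV, hbest, hcomm, hpow⟩ := hoff
  have hAmap : (A.subgroupOf P).map P.subtype = A := by
    rw [Subgroup.subgroupOf_map_subtype, inf_eq_left.2 hAP]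
  have hbot : ∀ x ∈ P, x ∈ centralizer (V : Set G) → x = 1 := by
    intro x hx hx'
    have h1 : x ∈ P ⊓ centralizer (V : Set G) := Subgroup.mem_inf.2 ⟨hx, hx'⟩
    rwa [hfaith, Subgroup.mem_bot] at h1
  refine ⟨A.subgroupOf P, ?_, ?_, ?_, ?_⟩
  · intro ⟨a, ha⟩
    refine ⟨1, Subtype.ext (Subtype.ext ?_)⟩
    rw [pow_one]
    show (a : G) ^ p = 1
    exact hbot _ (pow_mem a.2 p) (hpow _ (Subgroup.mem_subgroupOf.1 ha))
  · intro a ha b hb
    apply Subtype.ext
    show (a : G) * b = b * a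
    have h1 := hcomm (Subgroup.commutator_mem_commutator (Subgroup.mem_subgroupOf.1 ha) (Subgroup.mem_subgroupOf.1 hb))
    have h2 := hbot _ (mul_mem (mul_mem (mul_mem a.2 b.2) (inv_mem a.2)) (inv_mem b.2)) h1
    exact commutatorElement_eq_one_iff_mul_comm.1 h2
  · intro h
    apply hAV
    rw [← hAmap, h, Subgroup.map_bot]
    exact bot_le
  · have h1 := hbest ⊥ bot_le
    have h2 : V ⊓ centralizer ((⊥ : Subgroup G) : Set G) = V := by
      rw [inf_eq_left]
      intro v _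
      rw [mem_centralizer_iff]
      intro x hx
      rw [Subgroup.mem_bot.1 hx]; simp
    rw [Subgroup.card_bot, one_mul, h2] at h1
    unfold vl
    rw [H51.NAct.card_fx V P hVab hPV, hAmap, Nat.card_congr (Subgroup.subgroupOfEquivOfLe hAP).toEquiv]
    exact h1

/-- the translation for subgroups -/
theorem tr_of {V P : Subgroup G} (hVab : ∀ a ∈ V, ∀ b ∈ V, a * b = b * a) (hPV : P ≤ normalizer (V : Set G)) :
    letI := H51.NAct.addV V hVab
    letI := H51.NAct.actV V P hVab hPV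
    Tr P V (MonoidHom.id ↥P) (fun w : Additive V => ((w.toMul : V) : G)) := by
  letI := H51.NAct.addV V hVab
  letI := H51.NAct.actV V P hVab hPV
  refine ⟨?_, ?_, ?_, ?_, Function.surjective_id⟩
  · intro x y h
    exact Additive.toMul.injective (Subtype.ext h)
  · intro g
    constructor
    · intro h
      exact ⟨Additive.ofMul ⟨g, h⟩, rfl⟩
    · rintro ⟨w, rfl⟩
      exact (w.toMul : V).2
  · intro x y
    rfl
  · intro k w
    rfl

theorem up_id {P : Subgroup G} (E : Subgroup ↥P) : up (MonoidHom.id ↥P) E = E.map P.subtype := by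
  unfold up
  rw [Subgroup.comap_id]

end

end H51.OG
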