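import Cfsg.Agent.Lib.H51.OffAsm

/-!
Groups generated by pairwise noncommuting transvections over `F₂`: symmetric groups on their even-weight modules.
-/

set_option autoImplicit false
set_option linter.unusedSectionVars false
set_option linter.unusedVariables false

namespace H51.OG

open Cfsg Subgroup H51.FF H51.SylowAmb H53.PU H51.AmalgamBasic

section perm

variable {J : Type*} [Fintype J] [DecidableEq J]

theorem closure_star : Subgroup.closure (Set.range fun j : J => Equiv.swap (none : Option J) (some j)) = ⊤ := by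
  rw [eq_top_iff, ← Equiv.Perm.closure_isSwap, Subgroup.closure_le]
  rintro _ ⟨x, y, hxy, rfl⟩
  have h0 : ∀ j : J, Equiv.swap (none : Option J) (some j) ∈
      Subgroup.closure (Set.range fun j : J => Equiv.swap (none : Option J) (some j)) :=
    fun j => Subgroup.subset_closure ⟨j, rfl⟩
  cases x with
  | none =>
    cases y with
    | none => exact absurd rfl hxy
    | some j => exact h0 j
  | some i =>
    cases y with
    | none => rw [Equiv.swap_comm]; exact h0 i
    | some j =>
      have hij : some i ≠ some j := hxy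
      have e : Equiv.swap (some i) (some j) =
          Equiv.swap (none : Option J) (some i) * Equiv.swap (none : Option J) (some j) *
            Equiv.swap (none : Option J) (some i) := by
        have h1 := Equiv.swap_mul_swap_mul_swap (x := some j) (y := (none : Option J)) (z := some i)
          (by simp) hij.symm
        rw [← h1, Equiv.swap_comm (some j) (none : Option J)]
      rw [e]
      exact mul_mem (mul_mem (h0 i) (h0 j)) (h0 i)

/-- uniqueness of the permutation -/
theorem perm_unique {X : Type*} [Fintype X] [DecidableEq X] (hX : 3 ≤ Fintype.card X) {π π' : Equiv.Perm X}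
    (h : ∀ w : X → ZMod 2, ∑ x, w x = 0 → ∀ x, w (π x) = w (π' x)) : π = π' := by
  ext x
  by_contra hne
  have hne' : π x ≠ π' x := hne
  obtain ⟨y, hy1, hy2⟩ : ∃ y, y ≠ π x ∧ y ≠ π' x := by
    by_contra hcon
    push Not at hcon
    have h1 : (Finset.univ : Finset X) ⊆ {π x, π' x} := by
      intro y _
      by_cases hy : y = π x
      · simp [hy]
      · simp [hcon y hy]
    have h2 := Finset.card_le_card h1
    rw [Finset.card_univ] at h2
    have h3 := Finset.card_le_two (a := π x) (b := π' x)
    omega
  have h1 := h (fun z => if z = π x ∨ z = y then 1 else 0) (by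
    rw [Finset.sum_ite, Finset.sum_const_zero, add_zero, Finset.sum_const]
    have e : (Finset.univ.filter fun z => z = π x ∨ z = y) = {π x, y} := by
      ext z; simp
    rw [e, Finset.card_pair hy1.symm]
    decide) x
  simp only [true_or, if_true] at h1
  rw [if_neg] at h1
  · exact absurd h1 (by decide)
  · rintro (h2 | h2)
    · exact hne' h2.symm
    · exact hy2 h2.symm

end perm

section star

variable {H V : Type*} [Group H] [AddCommGroup V] [DistribMulAction H V]

/-- scaling by an element of `ZMod 2` -/
def sc (c : V) (x : ZMod 2) : V := if x = 0 then 0 else c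

theorem sc_zero (c : V) : sc c 0 = 0 := if_pos rfl
theorem sc_one (c : V) : sc c 1 = c := if_neg (by decide)

theorem z2_cases (x : ZMod 2) : x = 0 ∨ x = 1 := by
  revert x; decide

theorem map_sc (f : V →+ ZMod 2) (c : V) (x : ZMod 2) : f (sc c x) = f c * x := by
  rcases z2_cases x with rfl | rfl
  · rw [sc_zero, map_zero, mul_zero]
  · rw [sc_one, mul_one]

/-- a star of transvections -/
structure Star {H V : Type*} [Group H] [AddCommGroup V] [DistribMulAction H V] {J : Type*} [DecidableEq J] (s : J → H)
    (φ : J → V →+ ZMod 2) (c : J → V) : Prop where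
  act : ∀ j v, s j • v = v + sc (c j) (φ j v)
  pair : ∀ i j, φ i (c j) = if i = j then 0 else 1

variable {J : Type*} [Fintype J] [DecidableEq J] {s : J → H} {φ : J → V →+ ZMod 2} {c : J → V}

/-- the coordinate map -/
def coo (φ : J → V →+ ZMod 2) : V →+ (Option J → ZMod 2) where
  toFun v := fun x => (match x with | none => 0 | some j => φ j v) + ∑ i, φ i v
  map_zero' := by
    ext x
    cases x <;> simp
  map_add' := by
    intro v w
    ext x
    cases x with
    | none => simp [Finset.sum_add_distrib]
    | some j =>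
      simp only [map_add, Finset.sum_add_distrib, Pi.add_apply]
      ring

theorem coo_none (v : V) : coo φ v none = ∑ i, φ i v := zero_add _

theorem coo_some (v : V) (j : J) : coo φ v (some j) = φ j v + ∑ i, φ i v := rfl

theorem add_self2 (x : ZMod 2) : x + x = 0 := by revert x; decide

theorem coo_sum (hJ : Even (Fintype.card J)) (v : V) : ∑ x, coo φ v x = 0 := by
  rw [Fintype.sum_option, coo_none]
  simp only [coo_some]
  rw [Finset.sum_add_distrib, Finset.sum_const, Finset.card_univ]
  obtain ⟨k, hk⟩ := hJ
  rw [hk, nsmul_eq_mul, Nat.cast_add, add_self2 (k : ZMod 2), zero_mul, add_zero, add_self2]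

theorem coo_diff (v : V) (j : J) : coo φ v none + coo φ v (some j) = φ j v := by
  rw [coo_none, coo_some, add_comm, add_assoc, add_self2, add_zero]

theorem coo_eq_zero (v : V) : coo φ v = 0 ↔ ∀ j, φ j v = 0 := by
  constructor
  · intro h j
    rw [← coo_diff v j, h]
    rfl
  · intro h
    ext x
    cases x with
    | none => rw [coo_none]; simp [h]
    | some j => rw [coo_some]; simp [h]

theorem Star.sum_pair (st : Star s φ c) (hJ : Even (Fintype.card J)) (j : J) : ∑ i, φ i (c j) = 1 := by
  have h1 : ∑ i, φ i (c j) = ∑ i, ((1 : ZMod 2) + if i = j then 1 else 0) := by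
    apply Finset.sum_congr rfl
    intro i _
    rw [st.pair]
    split_ifs
    · decide
    · rw [add_zero]
  rw [h1, Finset.sum_add_distrib, Finset.sum_const, Finset.card_univ, Finset.sum_ite_eq' Finset.univ j]
  obtain ⟨k, hk⟩ := hJ
  rw [hk, nsmul_eq_mul, Nat.cast_add, mul_one, add_self2 (k : ZMod 2), zero_add]
  simp

theorem Star.coo_c (st : Star s φ c) (hJ : Even (Fintype.card J)) (j : J) (x : Option J) :
    coo φ (c j) x = if x = none ∨ x = some j then 1 else 0 := by
  cases x with
  | none => rw [coo_none, st.sum_pair hJ, if_pos (Or.inl rfl)]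
  | some i =>
    rw [coo_some, st.sum_pair hJ, st.pair]
    by_cases h : i = j
    · subst h; simp
    · rw [if_neg h, if_neg]
      · decide
      · rintro (h1 | h1)
        · exact absurd h1 (by simp)
        · exact h (Option.some.inj h1)

theorem Star.coo_smul (st : Star s φ c) (hJ : Even (Fintype.card J)) (j : J) (v : V) (x : Option J) :
    coo φ (s j • v) x = coo φ v (Equiv.swap none (some j) x) := by
  rw [st.act, map_add, Pi.add_apply]
  have hsc : coo φ (sc (c j) (φ j v)) x = φ j v * coo φ (c j) x := by
    rcases z2_cases (φ j v) with h | h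
    · rw [h, sc_zero, map_zero, zero_mul]; rfl
    · rw [h, sc_one, one_mul]
  rw [hsc, st.coo_c hJ]
  by_cases h1 : x = none
  · subst h1
    rw [Equiv.swap_apply_left, if_pos (Or.inl rfl), mul_one, ← coo_diff v j, ← add_assoc, add_self2, zero_add]
  · by_cases h2 : x = some j
    · subst h2
      rw [Equiv.swap_apply_right, if_pos (Or.inr rfl), mul_one, ← coo_diff v j, add_comm (coo φ v none), ← add_assoc,
        add_self2, zero_add]
    · rw [Equiv.swap_apply_of_ne_of_ne h1 h2, if_neg (by rintro (h | h); exact h1 h; exact h2 h), mul_zero, add_zero]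

/-- the vectors of even weight are hit by combinations of the centres -/
theorem Star.exists_comb (st : Star s φ c) (hJ : Even (Fintype.card J)) (w : Option J → ZMod 2)
    (hw : ∑ x, w x = 0) : coo φ (∑ j, sc (c j) (w (some j))) = w := by
  have hsc : ∀ j (a : ZMod 2) x, coo φ (sc (c j) a) x = a * coo φ (c j) x := by
    intro j a x
    rcases z2_cases a with h | h
    · rw [h, sc_zero, map_zero, zero_mul]; rfl
    · rw [h, sc_one, one_mul]
  ext x
  rw [map_sum, Finset.sum_apply]
  simp only [hsc, st.coo_c hJ]
  cases x with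
  | none =>
    simp only [true_or, if_true, mul_one]
    rw [Fintype.sum_option] at hw
    have : w none = ∑ j, w (some j) := by
      have h1 : w none + (∑ j, w (some j) + ∑ j, w (some j)) = ∑ j, w (some j) := by
        rw [← add_assoc, hw, zero_add]
      rwa [add_self2, add_zero] at h1
    rw [this]
  | some i =>
    have : ∀ j, (w (some j) * if (some i : Option J) = none ∨ some i = some j then (1 : ZMod 2) else 0) =
        if j = i then w (some i) else 0 := by
      intro j
      by_cases h : j = i
      · subst h; simp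
      · rw [if_neg h, if_neg, mul_zero]
        rintro (h1 | h1)
        · exact absurd h1 (by simp)
        · exact h (Option.some.inj h1).symm
    simp only [this]
    rw [Finset.sum_ite_eq' Finset.univ i]
    simp

/-- the homomorphism to the symmetric group -/
theorem Star.exists_hom (st : Star s φ c) (hJ : Even (Fintype.card J)) (hJ0 : Nonempty J) {E : Subgroup H}
    (hE : E = Subgroup.closure (Set.range s)) :
    ∃ ρ : E →* Equiv.Perm (Option J), Function.Surjective ρ ∧
      ∀ (g : E) (v : V) (x : Option J), coo φ ((g : H) • v) x = coo φ v ((ρ g)⁻¹ x) := by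
  classical
  subst hE
  have hcard : 3 ≤ Fintype.card (Option J) := by
    rw [Fintype.card_option]
    obtain ⟨k, hk⟩ := hJ
    have : 0 < Fintype.card J := Fintype.card_pos
    omega
  let K : Subgroup H :=
    { carrier := {g | ∃ π : Equiv.Perm (Option J), ∀ (v : V) (x : Option J), coo φ (g • v) x = coo φ v (π⁻¹ x)}
      one_mem' := ⟨1, fun v x => by rw [one_smul]; rfl⟩
      mul_mem' := by
        rintro g g' ⟨π, hπ⟩ ⟨π', hπ'⟩
        refine ⟨π * π', fun v x => ?_⟩
        rw [mul_smul, hπ, hπ', mul_inv_rev]
        rfl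
      inv_mem' := by
        rintro g ⟨π, hπ⟩
        refine ⟨π⁻¹, fun v x => ?_⟩
        have h1 := hπ (g⁻¹ • v) (π x)
        have e1 : π⁻¹ (π x) = x := π.symm_apply_apply x
        rw [smul_inv_smul, e1] at h1
        rw [inv_inv, h1] }
  have hK : Subgroup.closure (Set.range s) ≤ K := by
    rw [Subgroup.closure_le]
    rintro _ ⟨j, rfl⟩
    refine ⟨Equiv.swap none (some j), fun v x => ?_⟩
    rw [st.coo_smul hJ, Equiv.swap_inv]
  have huniq : ∀ (g : H) (π π' : Equiv.Perm (Option J)), (∀ (v : V) x, coo φ (g • v) x = coo φ v (π⁻¹ x)) →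
      (∀ (v : V) x, coo φ (g • v) x = coo φ v (π'⁻¹ x)) → π = π' := by
    intro g π π' h1 h2
    have : π⁻¹ = π'⁻¹ := by
      apply perm_unique hcard
      intro w hw x
      rw [← st.exists_comb hJ w hw, ← h1, ← h2]
    exact inv_injective this
  choose f hf using fun g : ↥(Subgroup.closure (Set.range s)) => hK g.2
  let ρ : ↥(Subgroup.closure (Set.range s)) →* Equiv.Perm (Option J) :=
    { toFun := f
      map_one' := by
        apply huniq 1
        · intro v x
          exact hf 1 v x
        · intro v x
          rw [one_smul]; rfl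
      map_mul' := by
        intro g g'
        apply huniq (g * g')
        · intro v x
          exact hf (g * g') v x
        · intro v x
          rw [mul_smul, hf g, hf g', mul_inv_rev]
          rfl }
  refine ⟨ρ, ?_, hf⟩
  rw [← MonoidHom.range_eq_top, eq_top_iff, ← closure_star, Subgroup.closure_le]
  rintro _ ⟨j, rfl⟩
  refine ⟨⟨s j, Subgroup.subset_closure ⟨j, rfl⟩⟩, ?_⟩
  apply huniq (s j)
  · intro v x
    exact hf ⟨s j, Subgroup.subset_closure ⟨j, rfl⟩⟩ v x
  · intro v x
    rw [st.coo_smul hJ, Equiv.swap_inv]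

theorem Star.fx_iff (st : Star s φ c) (hc : ∀ j, c j ≠ 0) {E : Subgroup H}
    (hE : E = Subgroup.closure (Set.range s)) (v : V) : v ∈ fx V E ↔ ∀ j, φ j v = 0 := by
  subst hE
  constructor
  · intro h j
    have h1 := h (s j) (Subgroup.subset_closure ⟨j, rfl⟩)
    rw [st.act] at h1
    rcases z2_cases (φ j v) with h2 | h2
    · exact h2
    · rw [h2, sc_one] at h1
      exact absurd (left_eq_add.1 h1.symm) (hc j)
  · intro h
    have h1 : Subgroup.closure (Set.range s) ≤ MulAction.stabilizer H v := by
      rw [Subgroup.closure_le]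
      rintro _ ⟨j, rfl⟩
      show s j • v = v
      rw [st.act, h j, sc_zero, add_zero]
    exact fun x hx => h1 hx

theorem Star.mem_cmt (st : Star s φ c) (hJ : Even (Fintype.card J)) {E : Subgroup H}
    (hE : E = Subgroup.closure (Set.range s)) (j : J) : c j ∈ cmt V E := by
  subst hE
  -- some `i ≠ j`
  obtain ⟨i, hi⟩ : ∃ i, i ≠ j := by
    by_contra hcon
    push Not at hcon
    have h1 : Fintype.card J = 1 := Fintype.card_eq_one_iff.2 ⟨j, hcon⟩
    rw [h1] at hJ
    exact absurd hJ (by decide)
  have h1 : c j = s j • c i - c i := by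
    rw [st.act, st.pair, if_neg hi.symm, sc_one]; abel
  rw [h1]
  exact sub_mem_cmt (Subgroup.subset_closure (Set.mem_range_self j)) _

/-- the splitting -/
theorem Star.split (st : Star s φ c) (hJ : Even (Fintype.card J)) (hc : ∀ j, c j ≠ 0) {E : Subgroup H}
    (hE : E = Subgroup.closure (Set.range s)) (v : V) : ∃ a ∈ fx V E, ∃ d ∈ cmt V E, v = a + d := by
  refine ⟨v - ∑ j, sc (c j) (coo φ v (some j)), ?_, ∑ j, sc (c j) (coo φ v (some j)), ?_, by abel⟩
  · rw [st.fx_iff hc hE, ← coo_eq_zero, map_sub, st.exists_comb hJ _ (coo_sum hJ v), sub_self]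
  · apply AddSubgroup.sum_mem
    intro j _
    rcases z2_cases (coo φ v (some j)) with h | h
    · rw [h, sc_zero]; exact AddSubgroup.zero_mem _
    · rw [h, sc_one]; exact st.mem_cmt hJ hE j

/-- the isomorphism with the symmetric group -/
theorem Star.main (st : Star s φ c) (hJ : Even (Fintype.card J)) (hJ0 : Nonempty J) (hc : ∀ j, c j ≠ 0) {E : Subgroup H}
    (hE : E = Subgroup.closure (Set.range s)) (hK : ∀ g ∈ E, (∀ v : V, g • v - v ∈ fx V E) → g = 1)
    {n : ℕ} (hn : Fintype.card J + 1 = n) :
    ∃ (ρ : E ≃* Equiv.Perm (Fin n)) (Ψ : V →+ (Fin n → ZMod 2)),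
      (∀ v, ∑ i, Ψ v i = 0) ∧ (∀ w : Fin n → ZMod 2, ∑ i, w i = 0 → ∃ v, Ψ v = w) ∧ (∀ v, Ψ v = 0 ↔ v ∈ fx V E) ∧
      (∀ (g : E) (v : V) (i : Fin n), Ψ ((g : H) • v) i = Ψ v ((ρ g)⁻¹ i)) := by
  classical
  obtain ⟨ρ, hρ, hρ2⟩ := st.exists_hom hJ hJ0 hE
  have hinj : Function.Injective ρ := by
    rw [injective_iff_map_eq_one]
    intro g hg
    apply Subtype.ext
    apply hK g g.2
    intro v
    rw [st.fx_iff hc hE, ← coo_eq_zero, map_sub, sub_eq_zero]
    ext x
    rw [hρ2, hg]
    rfl
  have hcn : Fintype.card (Option J) = n := by rw [Fintype.card_option, hn]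
  let e : Option J ≃ Fin n := Fintype.equivFinOfCardEq hcn
  let ρ' : E ≃* Equiv.Perm (Fin n) := (MulEquiv.ofBijective ρ ⟨hinj, hρ⟩).trans e.permCongrHom
  let Ψ : V →+ (Fin n → ZMod 2) :=
    { toFun := fun v i => coo φ v (e.symm i)
      map_zero' := by rw [map_zero]; rfl
      map_add' := by intro v w; rw [map_add]; rfl }
  refine ⟨ρ', Ψ, ?_, ?_, ?_, ?_⟩
  · intro v
    show ∑ i, coo φ v (e.symm i) = 0
    rw [Equiv.sum_comp e.symm (fun x => coo φ v x)]
    exact coo_sum hJ v
  · intro w hw
    refine ⟨∑ j, sc (c j) ((fun x => w (e x)) (some j)), ?_⟩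
    have h1 := st.exists_comb hJ (fun x => w (e x)) (by
      rw [Equiv.sum_comp e (fun x => w x)]; exact hw)
    ext i
    show coo φ _ (e.symm i) = w i
    rw [h1]
    simp
  · intro v
    rw [st.fx_iff hc hE, ← coo_eq_zero]
    constructor
    · intro h
      ext x
      have := congrFun h (e x)
      have h2 : coo φ v (e.symm (e x)) = 0 := this
      rwa [Equiv.symm_apply_apply] at h2
    · intro h
      ext i
      show coo φ v (e.symm i) = 0
      rw [h]; rfl
  · intro g v i
    show coo φ ((g : H) • v) (e.symm i) = coo φ v (e.symm ((ρ' g)⁻¹ i))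
    rw [hρ2, ← map_inv ρ' g, ← map_inv ρ g]
    show _ = coo φ v (e.symm (e (ρ g⁻¹ (e.symm i))))
    rw [Equiv.symm_apply_apply]

end star

end H51.OG
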