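import Cfsg.Agent.Lib.H51.OffUniq

/-!
The members inside the Sylow subgroup `T`.
-/

set_option autoImplicit false
set_option linter.unusedSectionVars false
set_option linter.unusedVariables false

namespace H51.OG

open Cfsg Subgroup H51.FF H51.SylowAmb H53.PU H51.AmalgamBasic

section

variable {p : ℕ} [hp : Fact p.Prime] {H V : Type*} [Group H] [Finite H] [AddCommGroup V] [Finite V]
  [DistribMulAction H V]

/-- the members in `T` -/
def AT (p : ℕ) {H : Type*} (V : Type*) [Group H] [AddCommGroup V] [DistribMulAction H V] (T : Subgroup H) :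
    Set (Subgroup H) := {X | X ∈ offs p H V ∧ X ≤ T}

/-- the product of the other members in `T` -/
def DX (p : ℕ) {H : Type*} (V : Type*) [Group H] [AddCommGroup V] [DistribMulAction H V] (T X : Subgroup H) :
    Subgroup H := sSup {Y | Y ∈ AT p V T ∧ Y ≠ X}

/-- the line group of `X` -/
def LX (p : ℕ) {H : Type*} (V : Type*) [Group H] [AddCommGroup V] [DistribMulAction H V] (T X : Subgroup H) :
    Subgroup H := sSup (Wm p H V (DX p V T X))

theorem at_cg {T X : Subgroup H} (hX : X ∈ AT p V T) {t : H} (ht : t ∈ T) : cg t X ∈ AT p V T := by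
  refine ⟨offs_cg hX.1 t, ?_⟩
  have := cg_mono (g := t) hX.2
  rwa [cg_eq_self ht] at this

theorem dx_cg {T X : Subgroup H} {t : H} (ht : t ∈ T) : DX p V T (cg t X) = cg t (DX p V T X) := by
  unfold DX
  rw [sSup_cg]
  congr 1
  ext Y
  constructor
  · rintro ⟨h1, h2⟩
    refine ⟨cg t⁻¹ Y, ⟨at_cg h1 (inv_mem ht), ?_⟩, cg_cg_inv t Y⟩
    intro h3
    apply h2
    rw [← h3, cg_cg_inv]
  · rintro ⟨Z, ⟨h1, h2⟩, rfl⟩
    exact ⟨at_cg h1 ht, fun h3 => h2 (cg_inj.1 h3)⟩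

theorem wm_image {D : Subgroup H} (t : H) : (cg t) '' (Wm p H V D) = Wm p H V (cg t D) := by
  have key : ∀ (t : H) (D X : Subgroup H), X ∈ Wm p H V D → cg t X ∈ Wm p H V (cg t D) := by
    rintro t D X ⟨h1, h2, h3⟩
    refine ⟨offs_cg h1 t, ?_, fun h => h3 (cg_le_cg.1 h)⟩
    rw [← cg_nz]; exact cg_mono h2
  ext Y
  constructor
  · rintro ⟨X, hX, rfl⟩
    exact key t D X hX
  · intro hY
    refine ⟨cg t⁻¹ Y, ?_, cg_cg_inv t Y⟩
    have := key t⁻¹ _ _ hY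
    rwa [cg_inv_cg] at this

theorem lx_cg {T X : Subgroup H} {t : H} (ht : t ∈ T) : LX p V T (cg t X) = cg t (LX p V T X) := by
  unfold LX
  rw [dx_cg ht, sSup_cg, wm_image]

section gd

variable {T M : Subgroup H} (sit : Sit p V T M) (wd : Wd p H V) (fam : Fam p (offs p H V))

include sit wd fam

omit sit fam in
theorem at_cm {X Y : Subgroup H} (hT : IsPGroup p T) (hX : X ∈ AT p V T) (hY : Y ∈ AT p V T) : Cm X Y :=
  wd.comm_of_pg hX.1 hY.1 (hT.to_le (sup_le hX.2 hY.2))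

section
variable {D R : Subgroup H} (gd : Gd p (offs p H V) M D R)
include gd

theorem wm_cm_D {W : Subgroup H} (hW : W ∈ Wm p H V D) : Cm W D := by
  have h1 : Cm D W := by
    rw [← gd.clD]
    apply cm_sSup
    intro Y hY
    apply wd.comm_of_pg hY.1 hW.1
    have h1 : IsPGroup p ↥(W ⊔ D) := hW.1.1.to_sup_of_normal_right' gd.pgD hW.2.1
    exact h1.to_le (sup_le (hY.2.trans le_sup_right) le_sup_left)
  exact h1.symm

theorem exA_wm : ∃ A ∈ Wm p H V D, A ≤ R := by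
  obtain ⟨A₀, hA₀, hA₀R, hA₀D⟩ := gd.exA
  exact ⟨A₀, ⟨hA₀, hA₀R.trans gd.RN, hA₀D⟩, hA₀R⟩

theorem exB_wm : ∃ B ∈ Wm p H V D, ¬ B ≤ M := by
  obtain ⟨B₀, hB₀, hB₀N, hB₀M⟩ := gd.exB
  exact ⟨B₀, ⟨hB₀, hB₀N, fun h => hB₀M (h.trans gd.DM)⟩, hB₀M⟩

/-- `D` is the product of the other members -/
theorem eq_dx {A : Subgroup H} (hRT : R ≤ T) (hA : A ∈ Wm p H V D) (hAT : A ≤ T) : D = DX p V T A := by
  have hTM := sit.ms.TM
  apply le_antisymm
  · conv_lhs => rw [← gd.clD]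
    apply sSup_le
    intro Y hY
    exact le_sSup ⟨⟨hY.1, hY.2.trans (gd.DR.trans hRT)⟩, fun h => hA.2.2 (h ▸ hY.2)⟩
  · apply sSup_le
    rintro Y ⟨hY, hne⟩
    by_contra hYD
    apply hne
    have h1 : Cm D Y := by
      rw [← gd.clD]
      apply cm_sSup
      intro Z hZ
      exact at_cm wd sit.ms.pgT ⟨hZ.1, hZ.2.trans (gd.DR.trans hRT)⟩ hY
    refine wm_uniq sit wd fam gd ⟨hY.1, h1.symm.le_nz, hYD⟩ hA ⟨1, one_mem _, ?_, ?_⟩
    · rw [cg_one]; exact hY.2.trans hTM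
    · rw [cg_one]; exact hAT.trans hTM

theorem at_trans {A : Subgroup H} (hRT : R ≤ T) (hA : A ∈ Wm p H V D) (hAT : A ≤ T) {X : Subgroup H}
    (hX : X ∈ AT p V T) : ∃ t ∈ T, X = cg t A := by
  classical
  by_contra hcon
  push Not at hcon
  set O : Set (Subgroup H) := {Y | Y ∈ AT p V T ∧ ∀ t ∈ T, Y ≠ cg t A} with hO
  have hTO : T ≤ normalizer ((sSup O : Subgroup H) : Set H) := by
    have hle : ∀ t ∈ T, cg t (sSup O) ≤ sSup O := by
      intro t ht
      rw [cg_le_iff]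
      apply sSup_le
      intro Y hY
      rw [← cg_le_iff]
      refine le_sSup ⟨at_cg hY.1 ht, fun s hs h => ?_⟩
      apply hY.2 (t⁻¹ * s) (mul_mem (inv_mem ht) hs)
      rw [← cg_cg, ← h, cg_inv_cg]
    intro t ht
    rw [mem_nz_iff]
    apply le_antisymm (hle t ht)
    have := cg_mono (g := t) (hle t⁻¹ (inv_mem ht))
    rwa [cg_cg_inv] at this
  have hOD : sSup O ≤ D := by
    rw [eq_dx sit wd fam gd hRT hA hAT]
    apply sSup_le
    intro Y hY
    refine le_sSup ⟨hY.1, ?_⟩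
    intro h
    apply hY.2 1 (one_mem _)
    rw [cg_one]; exact h
  obtain ⟨B, hB, hBM⟩ := exB_wm sit wd fam gd
  have hBO : B ≤ normalizer ((sSup O : Subgroup H) : Set H) :=
    ((wm_cm_D sit wd fam gd hB).mono le_rfl hOD).le_nz
  have htop : normalizer ((sSup O : Subgroup H) : Set H) = ⊤ := by
    by_contra h
    exact hBM (hBO.trans (sit.ms.huniq _ h hTO))
  have h1 : sSup O = ⊥ := sit.ms.core _ (Subgroup.normalizer_eq_top_iff.1 htop) (gd.pgD.to_le hOD)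
  have h2 : X ≤ sSup O := le_sSup ⟨hX, hcon⟩
  rw [h1, le_bot_iff] at h2
  exact hX.1.2.2.1 h2

end

/-- the facts for every member of `T` -/
theorem at_gd {X : Subgroup H} (hX : X ∈ AT p V T) :
    ∃ R : Subgroup H, Gd p (offs p H V) M (DX p V T X) R ∧ R ≤ T ∧ X ∈ Wm p H V (DX p V T X) := by
  obtain ⟨D, R, gd, hRT⟩ := exists_Gd fam sit.ms
  obtain ⟨A, hA, hAR⟩ := exA_wm sit wd fam gd
  obtain ⟨t, ht, rfl⟩ := at_trans sit wd fam gd hRT hA (hAR.trans hRT) hX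
  have hD := eq_dx sit wd fam gd hRT hA (hAR.trans hRT)
  have gd' := gd.cg' fam t
  rw [cg_eq_self (sit.ms.TM ht), hD, ← dx_cg ht] at gd'
  refine ⟨_, gd', ?_, ?_⟩
  · have := cg_mono (g := t) hRT
    rwa [cg_eq_self ht] at this
  · rw [dx_cg ht, ← hD, ← wm_image]
    exact ⟨A, hA, rfl⟩

theorem at_trans' {X Y : Subgroup H} (hX : X ∈ AT p V T) (hY : Y ∈ AT p V T) : ∃ t ∈ T, Y = cg t X := by
  obtain ⟨R, gd, hRT, hXW⟩ := at_gd sit wd fam hX
  exact at_trans sit wd fam gd hRT hXW hX.2 hY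

theorem at_nonempty : (AT p V T).Nonempty := by
  obtain ⟨D, R, gd, hRT⟩ := exists_Gd fam sit.ms
  obtain ⟨A, hA, hAR⟩ := exA_wm sit wd fam gd
  exact ⟨A, hA.1, hAR.trans hRT⟩

section
variable {X : Subgroup H} (hX : X ∈ AT p V T)
include hX

theorem at_self : X ∈ Wm p H V (DX p V T X) := by
  obtain ⟨R, gd, hRT, hXW⟩ := at_gd sit wd fam hX
  exact hXW

theorem at_pq {Y Z : Subgroup H} (hY : Y ∈ Wm p H V (DX p V T X)) (hZ : Z ∈ Wm p H V (DX p V T X)) (hne : Y ≠ Z) :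
    PQ p V Y Z := by
  obtain ⟨R, gd, hRT, hXW⟩ := at_gd sit wd fam hX
  exact pq_of sit wd fam gd hY hZ (fun h => hne (wm_uniq sit wd fam gd hY hZ h))

theorem at_ln {Y Z W : Subgroup H} (hY : Y ∈ Wm p H V (DX p V T X)) (hZ : Z ∈ Wm p H V (DX p V T X)) (hne : Y ≠ Z)
    (hW : W ∈ Wm p H V (DX p V T X)) : Ln Y Z W := by
  obtain ⟨R, gd, hRT, hXW⟩ := at_gd sit wd fam hX
  obtain ⟨L, hL, h⟩ := reach sit wd fam gd hY hZ (fun h => hne (wm_uniq sit wd fam gd hY hZ h)) hW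
  rw [wm_uniq sit wd fam gd hW (ln_wm hY hZ hL) h]
  exact hL

theorem at_lx {Y Z : Subgroup H} (hY : Y ∈ Wm p H V (DX p V T X)) (hZ : Z ∈ Wm p H V (DX p V T X)) (hne : Y ≠ Z) :
    LX p V T X = Y ⊔ Z := by
  apply le_antisymm
  · apply sSup_le
    intro W hW
    exact ln_le (at_ln sit wd fam hX hY hZ hne hW)
  · exact sup_le (le_sSup hY) (le_sSup hZ)

theorem at_exZ : ∃ Z ∈ Wm p H V (DX p V T X), Z ≠ X ∧ ¬ Z ≤ M := by
  obtain ⟨R, gd, hRT, hXW⟩ := at_gd sit wd fam hX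
  obtain ⟨B, hB, hBM⟩ := exB_wm sit wd fam gd
  refine ⟨B, hB, ?_, hBM⟩
  rintro rfl
  exact hBM (hX.2.trans sit.ms.TM)

theorem at_cmD {W : Subgroup H} (hW : W ∈ Wm p H V (DX p V T X)) : Cm W (DX p V T X) := by
  obtain ⟨R, gd, hRT, hXW⟩ := at_gd sit wd fam hX
  exact wm_cm_D sit wd fam gd hW

theorem at_cmL : Cm (LX p V T X) (DX p V T X) := cm_sSup fun W hW => at_cmD sit wd fam hX hW

theorem at_cm' {Y : Subgroup H} (hY : Y ∈ AT p V T) (hne : Y ≠ X) : Cm (LX p V T X) Y :=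
  (at_cmL sit wd fam hX).mono le_rfl (le_sSup ⟨hY, hne⟩)

theorem at_nle : ¬ X ≤ DX p V T X := (at_self sit wd fam hX).2.2

theorem lx_not_le : ¬ LX p V T X ≤ M := by
  obtain ⟨Z, hZ, _, hZM⟩ := at_exZ sit wd fam hX
  exact fun h => hZM ((le_sSup hZ).trans h)

theorem lx_sup : LX p V T X ⊔ T = ⊤ := by
  by_contra h
  exact lx_not_le sit wd fam hX (le_sup_left.trans (sit.ms.huniq _ h le_sup_right))

/-- commutators and fixed points of `L_X` -/
theorem lx_split (v : V) : ∃ c ∈ fx V (LX p V T X), ∃ d ∈ cmt V (LX p V T X), v = c + d := by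
  obtain ⟨Z, hZ, hne, _⟩ := at_exZ sit wd fam hX
  have hXW := at_self sit wd fam hX
  have pq := at_pq sit wd fam hX hXW hZ hne.symm
  rw [at_lx sit wd fam hX hXW hZ hne.symm]
  obtain ⟨x, hx, y, hy, rfl⟩ := pq.sp.exists_add v
  obtain ⟨a, ha, w, c, hc, rfl⟩ := pq.fxA x hx
  obtain ⟨b, hb, w', c', hc', rfl⟩ := pq.fxB y hy
  refine ⟨c + c', AddSubgroup.add_mem _ hc hc', (a • w - w) + (b • w' - w'), AddSubgroup.add_mem _ ?_ ?_, by abel⟩
  · exact sub_mem_cmt (Subgroup.mem_sup_left ha) w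
  · exact sub_mem_cmt (Subgroup.mem_sup_right hb) w'

end

theorem at_card {X Y : Subgroup H} (hX : X ∈ AT p V T) (hY : Y ∈ AT p V T) : Nat.card X = Nat.card Y := by
  obtain ⟨t, ht, rfl⟩ := at_trans' sit wd fam hX hY
  rw [card_cg]

/-- every member is conjugate to a member of `T` -/
theorem exists_at {X : Subgroup H} (hX : X ∈ offs p H V) : ∃ g : H, cg g X ∈ AT p V T := by
  obtain ⟨g, _, hg⟩ := exists_conj_le (K := ⊤) le_top sit.ms.pgT sit.ms.ndT le_top hX.1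
  exact ⟨g, offs_cg hX g, hg⟩

end gd

end

end H51.OG
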