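import Cfsg.Agent.Lib.H51.OffWorld

/-!
The points of the members: `SL₂`-pairs, lines, uniqueness.
-/

set_option autoImplicit false
set_option linter.unusedSectionVars false
set_option linter.unusedVariables false

namespace H51.OG

open Subgroup H51.FF H51.SylowAmb H53.PU H51.AmalgamBasic

section

variable {p : ℕ} [hp : Fact p.Prime] {H V : Type*} [Group H] [Finite H] [AddCommGroup V] [Finite V]
  [DistribMulAction H V]

theorem Sit.cen' {T M : Subgroup H} (sit : Sit p V T M) {g : H} {S : Subgroup H} (hSg : S ≤ cg g M)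
    (hSp : IsPGroup p S) {l : H} (hl : ∀ v ∈ fx V S, l • v = v) : l ∈ cg g M := by
  have ms' := sit.ms.cg' g
  obtain ⟨T₂, hST₂, hT₂M, hT₂p, hT₂s⟩ := exists_sylow_ge (p := p) hSg hSp
  obtain ⟨m, hm, hmT⟩ := ms'.conj_of_le hT₂M hT₂p hT₂s
  have hT₂ : T₂ = cg (m⁻¹ * g) T := by rw [← cg_cg, ← hmT, cg_inv_cg]
  have h1 : ∀ v ∈ fx V T₂, l • v = v := fun v hv => hl v (fx_anti hST₂ hv)
  have h2 := sit.cen ((m⁻¹ * g)⁻¹ * l * (m⁻¹ * g)) (by
    intro v hv
    have h3 := h1 ((m⁻¹ * g) • v) (by rw [hT₂, mem_fx_cg, inv_smul_smul]; exact hv)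
    rw [mul_smul, mul_smul, h3, inv_smul_smul])
  have h3 : m * l * m⁻¹ ∈ cg g M := by
    rw [mem_cg]
    have e : g⁻¹ * (m * l * m⁻¹) * g = (m⁻¹ * g)⁻¹ * l * (m⁻¹ * g) := by group
    rw [e]; exact h2
  have e : l = m⁻¹ * (m * l * m⁻¹) * m := by group
  rw [e]
  exact mul_mem (mul_mem (inv_mem hm) h3) hm

theorem Wd.fam (wd : Wd p H V) (hne : (offs p H V).Nonempty) : Fam p (offs p H V) :=
  ⟨fun X hX => hX.1, fun X hX => hX.2.2.1, fun X hX g => offs_cg hX g, hne⟩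

theorem Wd.off (wd : Wd p H V) {A : Subgroup H} (hA : A ∈ offs p H V) : Off p (Nat.card A) V A :=
  ⟨rfl, hA.1, hA.2.1, wd.quad A hA, (wd.card_eq hA).ge⟩

theorem Wd.one_lt (wd : Wd p H V) {A : Subgroup H} (hA : A ∈ offs p H V) : 1 < Nat.card A := by
  rw [Subgroup.one_lt_card_iff_ne_bot]; exact hA.2.2.1

/-- a full offender contains a minimal one -/
theorem Wd.exists_mem (wd : Wd p H V) {K : Subgroup H} (h1 : IsPGroup p K) (h2 : Cm K K) (h3 : K ≠ ⊥)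
    (h4 : vl V K = Nat.card V) : ∃ A ∈ offs p H V, A ≤ K := by
  classical
  let mn : Set (Subgroup H) := {A | A ≤ K ∧ A ≠ ⊥ ∧ vl V A = Nat.card V}
  obtain ⟨A, hA, hmin⟩ := Set.exists_min_image mn (fun A => Nat.card A) (Set.toFinite _) ⟨K, le_rfl, h3, h4⟩
  refine ⟨A, ⟨h1.to_le hA.1, h2.mono hA.1 hA.1, hA.2.1, hA.2.2, ?_⟩, hA.1⟩
  intro Z hZ hZ1 hZ2
  refine lt_of_le_of_ne (wd.le Z (h1.to_le (hZ.trans hA.1)) (h2.mono (hZ.trans hA.1) (hZ.trans hA.1))) ?_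
  intro h
  apply hZ2
  exact Subgroup.eq_of_le_of_card_ge hZ (hmin Z ⟨hZ.trans hA.1, hZ1, h⟩)

theorem card_range_dm {a : H} {F : AddSubgroup V} (h1 : ∀ v : V, a • v = v → v ∈ F) (h2 : ∀ v ∈ F, a • v = v) :
    Nat.card (dm V a).range * Nat.card F = Nat.card V := by
  have h3 := AddSubgroup.card_mul_index (dm V a).ker
  rw [AddSubgroup.index_ker] at h3
  have h4 : (dm V a).ker = F := by
    ext v
    rw [AddMonoidHom.mem_ker, dm_apply, sub_eq_zero]
    exact ⟨h1 v, h2 v⟩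
  rw [h4] at h3
  rw [← h3, mul_comm]

theorem PQ.fxA_le {A B : Subgroup H} (pq : PQ p V A B) {U : AddSubgroup V} (hU : fx V (A ⊔ B) ≤ U)
    (hinv : ∀ a ∈ A, ∀ u ∈ U, a • u ∈ U) {u : V} (hu : u ∈ U) (huA : u ∉ fx V A) : fx V A ≤ U := by
  obtain ⟨x, hx, z, hz, rfl⟩ := pq.sp.exists_add u
  have hzA : z ∉ fx V A := fun h => huA (AddSubgroup.add_mem _ hx h)
  have hinj := int_inj pq.IA pq.offA.quad hz hzA
  have hbij : Function.Bijective (fun x : A × ↥(fx V A ⊓ fx V B) =>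
      (⟨(x.1 : H) • z - z + x.2, AddSubgroup.add_mem _ (pq.offA.quad _ x.1.2 z) x.2.2.1⟩ : fx V A)) := by
    rw [Nat.bijective_iff_injective_and_card]
    refine ⟨hinj, ?_⟩
    rw [Nat.card_prod, pq.sp.cA]
  intro y hy
  obtain ⟨⟨⟨a, ha⟩, ⟨c, hc⟩⟩, hac⟩ := hbij.2 ⟨y, hy⟩
  have h2 : a • z - z + c = y := congrArg Subtype.val hac
  have e : y = (a • (x + z) - (x + z)) + c := by rw [← h2, smul_add, hx a ha]; abel
  rw [e]
  refine AddSubgroup.add_mem _ (AddSubgroup.sub_mem _ (hinv a ha _ hu) hu) (hU ?_)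
  rw [fx_sup]; exact hc

theorem PQ.exists_fx {A B : Subgroup H} (pq : PQ p V A B) : ∃ w ∈ fx V B, w ∉ fx V A := by
  by_contra hcon
  push Not at hcon
  have h1 : fx V A ⊓ fx V B = fx V B := inf_eq_right.2 hcon
  have h2 := pq.sp.cB
  rw [h1] at h2
  have h3 := pq.one_lt
  have h4 : 0 < Nat.card (fx V B) := Nat.card_pos
  nlinarith

/-- irreducibility modulo the fixed points -/
theorem PQ.irr {A B : Subgroup H} (pq : PQ p V A B) {U : AddSubgroup V} (hU : fx V (A ⊔ B) ≤ U)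
    (hinv : ∀ a ∈ A ⊔ B, ∀ u ∈ U, a • u ∈ U) {u : V} (hu : u ∈ U) (huA : u ∉ fx V (A ⊔ B)) : U = ⊤ := by
  have key : ∀ {A B : Subgroup H}, PQ p V A B → fx V (A ⊔ B) ≤ U → (∀ a ∈ A ⊔ B, ∀ u ∈ U, a • u ∈ U) →
      ∀ u ∈ U, u ∉ fx V A → U = ⊤ := by
    intro A B pq hU hinv u hu huA
    have h1 := pq.fxA_le hU (fun a ha => hinv a (Subgroup.mem_sup_left ha)) hu huA
    obtain ⟨w, hw, hwB⟩ := pq.symm.exists_fx
    have h2 := pq.symm.fxA_le (U := U) (by rw [sup_comm]; exact hU) (fun b hb => hinv b (Subgroup.mem_sup_right hb))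
      (h1 hw) hwB
    rw [eq_top_iff, ← pq.sp.sup_top]
    exact sup_le h1 h2
  by_cases h : u ∈ fx V A
  · have h1 : u ∉ fx V B := by
      intro h1
      apply huA
      rw [fx_sup]; exact ⟨h, h1⟩
    exact key pq.symm (by rw [sup_comm]; exact hU) (by rw [sup_comm]; exact hinv) u hu h1
  · exact key pq hU hinv u hu h

/-- line membership -/
def Ln (A B X : Subgroup H) : Prop := X = A ∨ ∃ a ∈ A, X = cg a B

theorem ln_le {A B X : Subgroup H} (h : Ln A B X) : X ≤ A ⊔ B := by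
  rcases h with rfl | ⟨a, ha, rfl⟩
  · exact le_sup_left
  · have := cg_mono (g := a) (le_sup_right : B ≤ A ⊔ B)
    rwa [cg_eq_self (Subgroup.mem_sup_left ha)] at this

theorem PQ.ln_card {A B X : Subgroup H} (pq : PQ p V A B) (h : Ln A B X) : Nat.card X = Nat.card A := by
  rcases h with rfl | ⟨a, ha, rfl⟩
  · rfl
  · rw [card_cg]; exact pq.cardB

theorem PQ.cover {A B : Subgroup H} (pq : PQ p V A B) (v : V) : ∃ X, Ln A B X ∧ v ∈ fx V X := by
  rcases pq.sp.cover pq.offA pq.IA v with h | ⟨a, ha, h⟩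
  · exact ⟨A, Or.inl rfl, h⟩
  · exact ⟨_, Or.inr ⟨a, ha, rfl⟩, h⟩

/-- the members with respect to `D` -/
def Wm (p : ℕ) (H V : Type*) [Group H] [AddCommGroup V] [DistribMulAction H V] (D : Subgroup H) : Set (Subgroup H) :=
  {X | X ∈ offs p H V ∧ X ≤ normalizer (D : Set H) ∧ ¬ X ≤ D}

theorem wm_cg {D X : Subgroup H} (hX : X ∈ Wm p H V D) {n : H} (hn : n ∈ normalizer (D : Set H)) :
    cg n X ∈ Wm p H V D := by
  refine ⟨offs_cg hX.1 n, ?_, ?_⟩
  · have := cg_mono (g := n) hX.2.1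
    rwa [cg_eq_self hn] at this
  · intro h
    rw [← mem_nz_iff.1 hn] at h
    exact hX.2.2 (cg_le_cg.1 h)

theorem ln_wm {D A B X : Subgroup H} (hA : A ∈ Wm p H V D) (hB : B ∈ Wm p H V D) (h : Ln A B X) :
    X ∈ Wm p H V D := by
  rcases h with rfl | ⟨a, ha, rfl⟩
  · exact hA
  · exact wm_cg hB (hA.2.1 ha)

theorem Sm.symm {M D A B : Subgroup H} (h : Sm M D A B) : Sm M D B A := by
  obtain ⟨g, hg, h1, h2⟩ := h
  exact ⟨g, hg, h2, h1⟩

theorem Sm.cg {M D A B : Subgroup H} (h : Sm M D A B) {n : H} (hn : n ∈ normalizer (D : Set H)) :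
    Sm M D (cg n A) (cg n B) := by
  obtain ⟨g, hg, h1, h2⟩ := h
  refine ⟨n * g, mul_mem hn hg, ?_, ?_⟩
  · rw [← cg_cg]; exact cg_mono h1
  · rw [← cg_cg]; exact cg_mono h2

section gd

variable {T M D R : Subgroup H} (sit : Sit p V T M) (wd : Wd p H V) (fam : Fam p (offs p H V))
  (gd : Gd p (offs p H V) M D R)

include sit wd fam gd

theorem pt_uniq {X : Subgroup H} (hX : X ∈ Wm p H V D) {g k : H} (hg : g ∈ normalizer (D : Set H))
    (hk : k ∈ normalizer (D : Set H)) (h1 : X ≤ cg g M) (h2 : X ≤ cg k M) : g⁻¹ * k ∈ M :=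
  gd.uniq fam sit.ms hX.2.1 hX.1.1 (cl_mem hX.1) hX.2.2 hg hk h1 h2

theorem pt_uniq' {X : Subgroup H} (hX : X ∈ Wm p H V D) {g k : H} (hg : g ∈ normalizer (D : Set H))
    (hk : k ∈ normalizer (D : Set H)) (h1 : X ≤ cg g M) (h2 : X ≤ cg k M) : cg g M = cg k M :=
  cg_eq_of_inv_mul_mem (pt_uniq sit wd fam gd hX hg hk h1 h2)

theorem sm_trans {X Y Z : Subgroup H} (hY : Y ∈ Wm p H V D) (h1 : Sm M D X Y) (h2 : Sm M D Y Z) : Sm M D X Z := by
  obtain ⟨g, hg, a1, a2⟩ := h1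
  obtain ⟨k, hk, b1, b2⟩ := h2
  have := pt_uniq' sit wd fam gd hY hg hk a2 b1
  exact ⟨g, hg, a1, by rw [this]; exact b2⟩

theorem sm_of_cm {X Y : Subgroup H} (hX : X ∈ Wm p H V D) (hY : Y ∈ Wm p H V D) (h : Cm X Y) : Sm M D X Y := by
  obtain ⟨g, hg, h1⟩ := gd.exists_pt fam sit.ms (sup_le hX.2.1 hY.2.1) (pg_sup hX.1.1 hY.1.1 h)
  exact ⟨g, hg, le_sup_left.trans h1, le_sup_right.trans h1⟩

theorem nsm_cg {X : Subgroup H} (hX : X ∈ Wm p H V D) {g : H} (hg : g ∈ normalizer (D : Set H)) (hXg : X ≤ cg g M)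
    {l : H} (hl : l ∈ normalizer (D : Set H)) (hlg : l ∉ cg g M) : ¬ Sm M D X (cg l X) := by
  rintro ⟨k, hk, h1, h2⟩
  apply hlg
  have h3 := pt_uniq sit wd fam gd hX hg hk hXg h1
  rw [cg_le_iff, cg_cg] at h2
  have h4 := pt_uniq sit wd fam gd hX hg (mul_mem (inv_mem hl) hk) hXg h2
  rw [mem_cg]
  have e : g⁻¹ * l * g = (g⁻¹ * k) * (g⁻¹ * (l⁻¹ * k))⁻¹ := by group
  rw [e]
  exact mul_mem h3 (inv_mem h4)

/-- distinct members of a line have distinct points -/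
theorem ln_inj {A B : Subgroup H} (hA : A ∈ Wm p H V D) (hB : B ∈ Wm p H V D) (pq : PQ p V A B)
    (hn : ¬ Sm M D A B) {X Y : Subgroup H} (hX : Ln A B X) (hY : Ln A B Y) (h : Sm M D X Y) : X = Y := by
  have key : ∀ a ∈ A, ¬ Sm M D A (cg a B) := by
    intro a ha h1
    apply hn
    have h2 := h1.cg (inv_mem (hA.2.1 ha))
    rw [cg_inv_cg, cg_eq_self (inv_mem ha)] at h2
    exact h2
  rcases hX with rfl | ⟨a, ha, rfl⟩
  · rcases hY with rfl | ⟨b, hb, rfl⟩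
    · rfl
    · exact absurd h (key b hb)
  · rcases hY with rfl | ⟨b, hb, rfl⟩
    · exact absurd h.symm (key a ha)
    · by_cases hab : a⁻¹ * b = 1
      · rw [inv_mul_eq_one.1 hab]
      · exfalso
        apply hn
        have h2 := h.cg (inv_mem (hA.2.1 ha))
        rw [cg_inv_cg, cg_cg] at h2
        obtain ⟨k, hk, h3, h4⟩ := h2
        have h5 := pq.genA _ (mul_mem (inv_mem ha) hb) hab
        have h6 : A ⊔ B ≤ cg k M := by rw [← h5]; exact sup_le h3 h4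
        exact ⟨k, hk, le_sup_left.trans h6, le_sup_right.trans h6⟩

/-- all pairs with different points are `SL₂`-pairs -/
theorem c3 : ∀ (n : ℕ) (A B : Subgroup H), Nat.card ↥(A ⊔ B) ≤ n → A ∈ Wm p H V D → B ∈ Wm p H V D →
    ¬ Sm M D A B → PQ p V A B := by
  intro n
  induction n with
  | zero =>
    intro A B h
    exact absurd (Nat.card_pos (α := ↥(A ⊔ B))) (by omega)
  | succ n ih =>
    intro A B hcard hA hB hn
    obtain ⟨g, hg, hAg⟩ := gd.exists_pt fam sit.ms hA.2.1 hA.1.1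
    have hLN : A ⊔ B ≤ normalizer (D : Set H) := sup_le hA.2.1 hB.2.1
    have hLg : ¬ A ⊔ B ≤ cg g M := fun h => hn ⟨g, hg, hAg, le_sup_right.trans h⟩
    have hnc : ¬ Cm A B := fun h => hn (sm_of_cm sit wd fam gd hA hB h)
    obtain ⟨l, hl, hlB⟩ := wd.conj hA.1 hB.1 hnc
    have hBl : B = cg l⁻¹ A := by rw [← hlB, cg_inv_cg]
    have hcB : Nat.card B = Nat.card A := by rw [hBl, card_cg]
    have hlg : l⁻¹ ∉ cg g M := by
      intro h
      apply hn
      refine ⟨g, hg, hAg, ?_⟩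
      rw [hBl]
      have := cg_mono (g := l⁻¹) hAg
      rwa [cg_eq_self h] at this
    by_cases hgen : ∀ l ∈ A ⊔ B, l ∉ cg g M → A ⊔ cg l A = A ⊔ B
    · obtain ⟨T₀, pm⟩ := pm_of fam sit gd hA.1 hA.1.2.1 (wd.card_eq hA.1).ge (by
        rw [hA.1.2.2.2.1]; exact hA.1.2.2.2.2) (L := A ⊔ B) le_sup_left hLN hA.2.2 hg hAg hLg hgen
      exact PQ.of_pm rfl pm (l := ⟨l⁻¹, inv_mem hl⟩) (fun h => hlg (Subgroup.mem_subgroupOf.1 h)) hBl
    exfalso
    push Not at hgen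
    obtain ⟨k, hk, hkg, hkne⟩ := hgen
    have hA' := wm_cg hA (hLN hk)
    have hnA' := nsm_cg sit wd fam gd hA hg hAg (hLN hk) hkg
    have hle' : A ⊔ cg k A ≤ A ⊔ B := by
      have := cg_mono (g := k) (le_sup_left : A ≤ A ⊔ B)
      rw [cg_eq_self hk] at this
      exact sup_le le_sup_left this
    have hlt : ∀ Y : Subgroup H, Y ≤ A ⊔ B → Y ≠ A ⊔ B → Nat.card Y ≤ n := by
      intro Y h1 h2
      have h3 : Nat.card Y < Nat.card ↥(A ⊔ B) := by
        apply lt_of_le_of_ne (Subgroup.card_le_of_le h1)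
        intro h4
        exact h2 (Subgroup.eq_of_le_of_card_ge h1 h4.ge)
      omega
    have pq' := ih A (cg k A) (hlt _ hle' hkne) hA hA' hnA'
    -- equality of the fixed spaces
    have hoB : Off p (Nat.card A) V B := by
      have := wd.off hB.1
      rwa [hcB] at this
    have hC : fx V A ⊓ fx V B = fx V A ⊓ fx V (cg k A) := by
      apply AddSubgroup.eq_of_le_of_card_ge
      · rw [← fx_sup, ← fx_sup]; exact fx_anti hle'
      · have h1 := V_le (wd.off hA.1) hoB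
        rw [pq'.sp.cV] at h1
        have h2 := Nat.card_pos (α := A)
        exact Nat.le_of_mul_le_mul_left (Nat.le_of_mul_le_mul_left h1 h2) h2
    have hcov : ∀ u ∈ fx V B, u ∉ fx V A ⊓ fx V B → ∀ X : Subgroup H, Ln A (cg k A) X → u ∈ fx V X → Sm M D X B := by
      intro u hu huC X hX huX
      by_contra hns
      have hXW := ln_wm hA hA' hX
      have hXL : X ≤ A ⊔ B := (ln_le hX).trans hle'
      apply huC
      have hleC : fx V A ⊓ fx V B ≤ fx V X ⊓ fx V B := by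
        rw [← fx_sup, ← fx_sup]
        exact fx_anti (sup_le hXL le_sup_right)
      by_cases hXB : X ⊔ B = A ⊔ B
      · rw [← fx_sup, ← hXB, fx_sup]
        exact ⟨huX, hu⟩
      · have pqX := ih X B (hlt _ (sup_le hXL le_sup_right) hXB) hXW hB hns
        have h1 : fx V A ⊓ fx V B = fx V X ⊓ fx V B := by
          apply AddSubgroup.eq_of_le_of_card_ge hleC
          have h2 := pqX.sp.cV
          rw [pq'.ln_card hX, pq'.sp.cV, ← hC] at h2
          have h3 := Nat.card_pos (α := A)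
          exact (Nat.eq_of_mul_eq_mul_left h3 (Nat.eq_of_mul_eq_mul_left h3 h2)).ge
        rw [h1]
        exact ⟨huX, hu⟩
    obtain ⟨u₀, hu₀, hu₀C⟩ : ∃ u ∈ fx V B, u ∉ fx V A ⊓ fx V B := by
      by_contra hcon
      push Not at hcon
      have h1 : fx V B ≤ fx V A ⊓ fx V B := hcon
      have h2 := card_le _ _ h1
      have h3 := wd.card_eq hB.1
      rw [hcB, pq'.sp.cV, ← hC] at h3
      have h4 := Nat.eq_of_mul_eq_mul_left (Nat.card_pos (α := A)) h3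
      have h5 := wd.one_lt hA.1
      have h6 : 0 < Nat.card ↥(fx V A ⊓ fx V B) := Nat.card_pos
      nlinarith
    obtain ⟨X₀, hX₀, hX₀u⟩ := pq'.cover u₀
    have hs₀ := hcov u₀ hu₀ hu₀C X₀ hX₀ hX₀u
    have hX₀L : X₀ ≤ A ⊔ B := (ln_le hX₀).trans hle'
    have hle : fx V B ≤ fx V X₀ := by
      intro u hu
      by_cases huC : u ∈ fx V A ⊓ fx V B
      · rw [← fx_sup] at huC
        exact fx_anti hX₀L huC
      · obtain ⟨X, hX, hXu⟩ := pq'.cover u
        have hs := hcov u hu huC X hX hXu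
        have h1 := ln_inj sit wd fam gd hA hA' pq' hnA' hX hX₀ (sm_trans sit wd fam gd hB hs hs₀.symm)
        rw [← h1]; exact hXu
    have hX₀W := ln_wm hA hA' hX₀
    have h1 : fx V B = fx V X₀ := by
      apply AddSubgroup.eq_of_le_of_card_ge hle
      have h2 := wd.card_eq hX₀W.1
      rw [← wd.card_eq hB.1, pq'.ln_card hX₀, hcB] at h2
      exact (Nat.eq_of_mul_eq_mul_left Nat.card_pos h2).le
    have h2 := wd.eqfx hB.1 hX₀W.1 h1
    apply hkne
    apply le_antisymm hle'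
    apply sup_le le_sup_left
    rw [h2]
    exact ln_le hX₀

theorem pq_of {A B : Subgroup H} (hA : A ∈ Wm p H V D) (hB : B ∈ Wm p H V D) (hn : ¬ Sm M D A B) : PQ p V A B :=
  c3 sit wd fam gd _ A B le_rfl hA hB hn

theorem sm_of_comm {X Z : Subgroup H} (hX : X ∈ Wm p H V D) (hZ : Z ∈ Wm p H V D) {x : H} (hx : x ∈ X) {v : V}
    (hv : x • v ≠ v) (h : x • v - v ∈ fx V Z) : Sm M D X Z := by
  by_contra hn
  have pq := pq_of sit wd fam gd hX hZ hn
  obtain ⟨y, hy, z, hz, rfl⟩ := pq.sp.exists_add v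
  have e : x • (y + z) - (y + z) = x • z - z := by rw [smul_add, hy x hx]; abel
  rw [e] at h
  have hx1 : x ≠ 1 := by
    rintro rfl
    exact hv (one_smul _ _)
  have h1 := pq.IA x hx hx1 z hz (by
    have e : x • z = (x • z - z) + z := by abel
    rw [e]
    exact AddSubgroup.add_mem _ h hz)
  apply hv
  rw [smul_add, hy x hx, h1 x hx]

theorem exists_nsm {X : Subgroup H} (hX : X ∈ Wm p H V D) : ∃ Z ∈ Wm p H V D, ¬ Sm M D X Z := by
  obtain ⟨A₀, hA₀, hA₀R, hA₀D⟩ := gd.exA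
  obtain ⟨B₀, hB₀, hB₀N, hB₀M⟩ := gd.exB
  have hA : A₀ ∈ Wm p H V D := ⟨hA₀, hA₀R.trans gd.RN, hA₀D⟩
  have hB : B₀ ∈ Wm p H V D := ⟨hB₀, hB₀N, fun h => hB₀M (h.trans gd.DM)⟩
  by_contra hcon
  push Not at hcon
  have h1 := sm_trans sit wd fam gd hX (hcon A₀ hA).symm (hcon B₀ hB)
  obtain ⟨k, hk, h2, h3⟩ := h1
  have h4 := pt_uniq' sit wd fam gd hA (one_mem _) hk (by rw [cg_one]; exact hA₀R.trans gd.RM) h2
  rw [cg_one] at h4
  exact hB₀M (by rw [h4]; exact h3)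

theorem exists_moved {X : Subgroup H} (hX : X ∈ offs p H V) : ∃ x ∈ X, x ≠ 1 ∧ ∃ v : V, x • v ≠ v := by
  obtain ⟨x, hx1⟩ := (Subgroup.ne_bot_iff_exists_ne_one.1 hX.2.2.1)
  refine ⟨x, x.2, fun h => hx1 (Subtype.ext h), ?_⟩
  by_contra hcon
  push Not at hcon
  exact hx1 (Subtype.ext (wd.faith _ hcon))

theorem reach {X Z Y : Subgroup H} (hX : X ∈ Wm p H V D) (hZ : Z ∈ Wm p H V D) (hn : ¬ Sm M D X Z)
    (hY : Y ∈ Wm p H V D) : ∃ L, Ln X Z L ∧ Sm M D Y L := by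
  obtain ⟨y, hy, hy1, v, hv⟩ := exists_moved sit wd fam gd hY.1
  obtain ⟨L, hL, hLv⟩ := (pq_of sit wd fam gd hX hZ hn).cover (y • v - v)
  exact ⟨L, hL, sm_of_comm sit wd fam gd hY (ln_wm hX hZ hL) hy hv hLv⟩

theorem cm_of_sm_aux {X Y : Subgroup H} (hX : X ∈ Wm p H V D) (hY : Y ∈ Wm p H V D) (h : Sm M D X Y) :
    ∀ x ∈ X, ∀ v : V, x • v - v ∈ fx V Y := by
  intro x hx v
  by_cases hv : x • v = v
  · rw [hv, sub_self]; exact AddSubgroup.zero_mem _
  obtain ⟨Z, hZ, hn⟩ := exists_nsm sit wd fam gd hY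
  have pq := pq_of sit wd fam gd hY hZ hn
  obtain ⟨L, hL, hLv⟩ := pq.cover (x • v - v)
  have h1 := sm_of_comm sit wd fam gd hX (ln_wm hY hZ hL) hx hv hLv
  have h2 := sm_trans sit wd fam gd hX h.symm h1
  have h3 := ln_inj sit wd fam gd hY hZ pq hn (Or.inl rfl) hL h2
  rw [h3]; exact hLv

theorem cm_of_sm {X Y : Subgroup H} (hX : X ∈ Wm p H V D) (hY : Y ∈ Wm p H V D) (h : Sm M D X Y) : Cm X Y :=
  cm_of_cmt wd.faith (cm_of_sm_aux sit wd fam gd hX hY h) (cm_of_sm_aux sit wd fam gd hY hX h.symm)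

end gd

end

end H51.OG
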