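import Cfsg.Agent.Lib.H51.OffStar

/-!
The case of members of order two: transvections over `F₂`.
-/

set_option autoImplicit false
set_option linter.unusedSectionVars false
set_option linter.unusedVariables false

namespace H51.OG

open Cfsg Subgroup H51.FF H51.SylowAmb H53.PU H51.AmalgamBasic

section tv

variable {p : ℕ} [hp : Fact p.Prime] {H V : Type*} [Group H] [Finite H] [AddCommGroup V] [Finite V]
  [DistribMulAction H V]

/-- a transvection subgroup -/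
structure Tv {H V : Type*} [Group H] [AddCommGroup V] [DistribMulAction H V] (A : Subgroup H) (a : H)
    (φ : V →+ ZMod 2) (c : V) : Prop where
  mem : ∀ x, x ∈ A ↔ x = 1 ∨ x = a
  act : ∀ v : V, a • v = v + sc c (φ v)
  ker : ∀ v, φ v = 0 ↔ v ∈ fx V A
  ex : ∃ v, φ v = 1
  c0 : φ c = 0

theorem Tv.c_ne {A : Subgroup H} {a : H} {φ : V →+ ZMod 2} {c : V} (t : Tv A a φ c) : c ≠ 0 := by
  rintro rfl
  obtain ⟨v, hv⟩ := t.ex
  have h1 : v ∈ fx V A := by
    intro x hx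
    rcases (t.mem x).1 hx with rfl | rfl
    · exact one_smul _ _
    · rw [t.act, hv, sc_one, add_zero]
  rw [← t.ker, hv] at h1
  exact absurd h1 (by decide)

theorem Tv.a_mem {A : Subgroup H} {a : H} {φ : V →+ ZMod 2} {c : V} (t : Tv A a φ c) : a ∈ A :=
  (t.mem a).2 (Or.inr rfl)

theorem Tv.a_ne {A : Subgroup H} {a : H} {φ : V →+ ZMod 2} {c : V} (t : Tv A a φ c) : a ≠ 1 := by
  rintro rfl
  obtain ⟨v, hv⟩ := t.ex
  have := t.act v
  rw [one_smul, hv, sc_one] at this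
  exact t.c_ne (left_eq_add.1 this)

theorem Tv.sq {A : Subgroup H} {a : H} {φ : V →+ ZMod 2} {c : V} (t : Tv A a φ c) : a * a = 1 := by
  rcases (t.mem _).1 (mul_mem t.a_mem t.a_mem) with h | h
  · exact h
  · exact absurd (mul_eq_left.1 h) t.a_ne

theorem Tv.inv {A : Subgroup H} {a : H} {φ : V →+ ZMod 2} {c : V} (t : Tv A a φ c) : a⁻¹ = a :=
  inv_eq_of_mul_eq_one_left t.sq

theorem Tv.closure {A : Subgroup H} {a : H} {φ : V →+ ZMod 2} {c : V} (t : Tv A a φ c) :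
    A = Subgroup.closure {a} := by
  apply le_antisymm
  · intro x hx
    rcases (t.mem x).1 hx with rfl | rfl
    · exact one_mem _
    · exact Subgroup.subset_closure rfl
  · rw [Subgroup.closure_le]
    rintro _ rfl
    exact t.a_mem

variable (wd : Wd p H V)

include wd

theorem exists_tv {A : Subgroup H} (hA : A ∈ offs p H V) (h2 : Nat.card A = 2) :
    ∃ (a : H) (φ : V →+ ZMod 2) (c : V), Tv A a φ c := by
  classical
  obtain ⟨a', ha'⟩ := Subgroup.ne_bot_iff_exists_ne_one.1 hA.2.2.1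
  obtain ⟨a, haA⟩ := a'
  have ha1 : a ≠ 1 := fun h => ha' (Subtype.ext h)
  have hmem : ∀ x, x ∈ A ↔ x = 1 ∨ x = a := by
    intro x
    constructor
    · intro hx
      by_contra hcon
      push Not at hcon
      have h3 := Nat.card_eq_two_iff' (1 : A) |>.1 h2
      obtain ⟨y, hy, hyu⟩ := h3
      have e1 := hyu ⟨x, hx⟩ (fun h => hcon.1 (congrArg Subtype.val h))
      have e2 := hyu ⟨a, haA⟩ (fun h => ha1 (congrArg Subtype.val h))
      exact hcon.2 (congrArg Subtype.val (e1.trans e2.symm))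
    · rintro (rfl | rfl)
      · exact one_mem _
      · exact haA
  have hidx : (fx V A).index = 2 := by
    have h3 := AddSubgroup.card_mul_index (fx V A)
    rw [← wd.card_eq hA, h2, mul_comm] at h3
    exact Nat.eq_of_mul_eq_mul_right Nat.card_pos h3
  have hadd : ∀ v w : V, v + w ∈ fx V A ↔ (v ∈ fx V A ↔ w ∈ fx V A) := fun v w =>
    AddSubgroup.add_mem_iff_of_index_two hidx
  let φ : V →+ ZMod 2 :=
    { toFun := fun v => if v ∈ fx V A then 0 else 1
      map_zero' := if_pos (AddSubgroup.zero_mem _)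
      map_add' := by
        intro v w
        by_cases hv : v ∈ fx V A
        · by_cases hw : w ∈ fx V A
          · rw [if_pos hv, if_pos hw, if_pos ((hadd v w).2 ⟨fun _ => hw, fun _ => hv⟩), add_zero]
          · rw [if_pos hv, if_neg hw, if_neg (fun h => hw (((hadd v w).1 h).1 hv)), zero_add]
        · by_cases hw : w ∈ fx V A
          · rw [if_neg hv, if_pos hw, if_neg (fun h => hv (((hadd v w).1 h).2 hw)), add_zero]
          · rw [if_neg hv, if_neg hw, if_pos ((hadd v w).2 ⟨fun h => absurd h hv, fun h => absurd h hw⟩)]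
            decide }
  obtain ⟨v₀, hv₀⟩ : ∃ v₀, v₀ ∉ fx V A := by
    by_contra hcon
    push Not at hcon
    exact ha1 (wd.faith a (fun v => hcon v a haA))
  have hφ : ∀ v, φ v = if v ∈ fx V A then 0 else 1 := fun _ => rfl
  refine ⟨a, φ, a • v₀ - v₀, hmem, ?_, ?_, ⟨v₀, by rw [hφ, if_neg hv₀]⟩, ?_⟩
  · intro v
    by_cases hv : v ∈ fx V A
    · rw [hφ, if_pos hv, sc_zero, add_zero]; exact hv a haA
    · rw [hφ, if_neg hv, sc_one]
      have h3 : v + -v₀ ∈ fx V A := (hadd _ _).2 ⟨fun h => absurd h hv, fun h => absurd (neg_mem_iff.1 h) hv₀⟩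
      have h4 := h3 a haA
      rw [smul_add, smul_neg] at h4
      have e : a • v = (a • v + -(a • v₀)) + a • v₀ := by abel
      rw [e, h4]; abel
  · intro v
    rw [hφ]
    by_cases hv : v ∈ fx V A
    · rw [if_pos hv]; exact ⟨fun _ => hv, fun _ => rfl⟩
    · rw [if_neg hv]; exact ⟨fun h => absurd h (by decide), fun h => absurd h hv⟩
  · rw [hφ, if_pos (wd.quad A hA a haA v₀)]

theorem Tv.pair {A B : Subgroup H} (hA : A ∈ offs p H V) (hB : B ∈ offs p H V) {a b : H} {φ ψ : V →+ ZMod 2}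
    {c d : V} (tA : Tv A a φ c) (tB : Tv B b ψ d) : φ d = 0 ↔ Cm A B := by
  constructor
  · intro h
    have hd : d ∈ fx V A := (tA.ker d).1 h
    have had : a • d = d := hd a tA.a_mem
    have hdB : d ∈ fx V B := (tB.ker d).1 tB.c0
    have hdB' : d ∈ fx V (cg a B) := by
      rw [mem_fx_cg, tA.inv, had]; exact hdB
    have hBv : ∀ x ∈ B, ∀ v : V, x • v - v = 0 ∨ x • v - v = d := by
      intro x hx v
      rcases (tB.mem x).1 hx with rfl | rfl
      · left; rw [one_smul, sub_self]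
      · rw [tB.act]
        rcases z2_cases (ψ v) with h1 | h1
        · left; rw [h1, sc_zero]; abel
        · right; rw [h1, sc_one]; abel
    have hcm : Cm B (cg a B) := by
      apply cm_of_cmt wd.faith
      · intro x hx v
        rcases hBv x hx v with h1 | h1
        · rw [h1]; exact AddSubgroup.zero_mem _
        · rw [h1]; exact hdB'
      · intro y hy v
        have h1 := mem_cg.1 hy
        have e : y • v - v = a • ((a⁻¹ * y * a) • (a⁻¹ • v) - a⁻¹ • v) := by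
          rw [smul_sub, smul_inv_smul, ← mul_smul, ← mul_smul]
          congr 2
          group
        rw [e]
        rcases hBv _ h1 (a⁻¹ • v) with h2 | h2
        · rw [h2, smul_zero]; exact AddSubgroup.zero_mem _
        · rw [h2, had]; exact hdB
    have hpg : IsPGroup p ↥(B ⊔ cg a B) := pg_sup hB.1 (pg_cg hB.1) hcm
    have hn : A ≤ normalizer ((B ⊔ cg a B : Subgroup H) : Set H) := by
      intro x hx
      rcases (tA.mem x).1 hx with rfl | rfl
      · exact one_mem _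
      · rw [mem_nz_iff, cg_sup, cg_cg, tA.sq, cg_one, sup_comm]
    have hpg2 : IsPGroup p ↥(A ⊔ (B ⊔ cg a B)) := hA.1.to_sup_of_normal_right' hpg hn
    exact wd.comm_of_pg hA hB (hpg2.to_le (sup_le le_sup_left (le_sup_left.trans le_sup_right)))
  · intro h
    obtain ⟨v, hv⟩ := tB.ex
    have h1 := wd.cmt_le hB hA h.symm b tB.a_mem v
    rw [tB.act, hv, sc_one] at h1
    have e : v + d - v = d := by abel
    rw [e] at h1
    exact (tA.ker d).2 h1

theorem Tv.pair1 {A B : Subgroup H} (hA : A ∈ offs p H V) (hB : B ∈ offs p H V) {a b : H} {φ ψ : V →+ ZMod 2}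
    {c d : V} (tA : Tv A a φ c) (tB : Tv B b ψ d) (h : ¬ Cm A B) : φ d = 1 := by
  rcases z2_cases (φ d) with h1 | h1
  · exact absurd ((Tv.pair wd hA hB tA tB).1 h1) h
  · exact h1

/-- products of pairwise commuting members -/
theorem vl_sSup {𝒯 : Set (Subgroup H)} (hT : ∀ X ∈ 𝒯, X ∈ offs p H V) (hc : ∀ X ∈ 𝒯, ∀ Y ∈ 𝒯, Cm X Y) :
    vl V (sSup 𝒯) = Nat.card V := by
  have key : ∀ 𝒰 : Set (Subgroup H), 𝒰.Finite → 𝒰 ⊆ 𝒯 → vl V (sSup 𝒰) = Nat.card V := by
    intro 𝒰 h𝒰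
    induction 𝒰, h𝒰 using Set.Finite.induction_on with
    | empty => intro _; rw [sSup_empty]; exact vl_bot
    | insert hX hs ih =>
      rename_i X s
      intro hsub
      have hsT : s ⊆ 𝒯 := fun Y hY => hsub (Or.inr hY)
      have hXT : X ∈ 𝒯 := hsub (Or.inl rfl)
      have h1 := ih hsT
      have hcs : ∀ Y ∈ insert X s, ∀ Z ∈ insert X s, Cm Y Z := fun Y hY Z hZ => hc Y (hsub hY) Z (hsub hZ)
      have hab := ab_sSup hcs
      have hpg := pg_sSup hcs (fun Y hY => (hT Y (hsub hY)).1)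
      rw [sSup_insert] at hab hpg ⊢
      exact (le_vl_inf (V := V) hab (le_sup_left : X ≤ X ⊔ sSup s) le_sup_right
        (fun Z hZ => wd.le Z (hpg.to_le hZ) (hab.mono hZ hZ)) (hT X hXT).2.2.2.1 h1).2.2.1
  exact key 𝒯 (Set.toFinite _) le_rfl

end tv

section claw

variable {p : ℕ} [hp : Fact p.Prime] {H V : Type*} [Group H] [Finite H] [AddCommGroup V] [Finite V]
  [DistribMulAction H V] {T M : Subgroup H} (sit : Sit p V T M) (wd : Wd p H V) (fam : Fam p (offs p H V))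

include sit wd fam

/-- independence of commuting members -/
theorem indep {𝒯 : Set (Subgroup H)} (hT : ∀ X ∈ 𝒯, X ∈ offs p H V) (hc : ∀ X ∈ 𝒯, ∀ Y ∈ 𝒯, Cm X Y)
    {B : Subgroup H} (hB : B ∈ offs p H V) (hBc : ∀ X ∈ 𝒯, Cm X B) (hBn : B ∉ 𝒯) :
    ∃ v ∈ fx V (sSup 𝒯), v ∉ fx V B := by
  by_contra hcon
  push Not at hcon
  have hcon' : fx V (sSup 𝒯) ≤ fx V B := hcon
  have hab := ab_sSup hc
  have hpg := pg_sSup hc (fun X hX => (hT X hX).1)
  have hEB : Cm (sSup 𝒯) B := cm_sSup hBc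
  have hab2 := ab_sup hab hB.2.1 hEB
  have hpg2 : IsPGroup p ↥(sSup 𝒯 ⊔ B) := pg_sup hpg hB.1 hEB
  have hv := vl_sSup wd hT hc
  have hv2 := (le_vl_inf (V := V) hab2 (le_sup_left : sSup 𝒯 ≤ sSup 𝒯 ⊔ B) le_sup_right
        (fun Z hZ => wd.le Z (hpg2.to_le hZ) (hab2.mono hZ hZ)) hv hB.2.2.2.1).2.2.1
  have hBE : B ≤ sSup 𝒯 := by
    unfold vl at hv hv2
    rw [fx_sup, inf_eq_left.2 hcon', ← hv] at hv2
    have h1 := Nat.eq_of_mul_eq_mul_right Nat.card_pos hv2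
    rw [Subgroup.eq_of_le_of_card_ge (le_sup_left : sSup 𝒯 ≤ sSup 𝒯 ⊔ B) h1.le]
    exact le_sup_right
  obtain ⟨g, _, hg⟩ := exists_conj_le (K := ⊤) le_top sit.ms.pgT sit.ms.ndT le_top hpg2
  have hg' : cg g (sSup 𝒯 ⊔ B) ≤ T := hg
  have hBT : cg g B ∈ AT p V T := ⟨offs_cg hB g, (cg_mono le_sup_right).trans hg'⟩
  apply at_nle sit wd fam hBT
  refine (cg_mono hBE).trans ?_
  rw [sSup_cg]
  apply sSup_le
  rintro _ ⟨X, hX, rfl⟩
  refine le_sSup ⟨⟨offs_cg (hT X hX) g, (cg_mono ((le_sSup hX).trans le_sup_left)).trans hg'⟩, ?_⟩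
  intro h
  exact hBn (cg_inj.1 h ▸ hX)

/-- no claws -/
theorem claw {A₀ A₁ A₂ A₃ : Subgroup H} (h0 : A₀ ∈ offs p H V) (h1 : A₁ ∈ offs p H V) (h2 : A₂ ∈ offs p H V)
    (h3 : A₃ ∈ offs p H V) (k0 : Nat.card A₀ = 2) (k1 : Nat.card A₁ = 2) (k2 : Nat.card A₂ = 2)
    (k3 : Nat.card A₃ = 2) (n1 : ¬ Cm A₀ A₁) (n2 : ¬ Cm A₀ A₂) (n3 : ¬ Cm A₀ A₃) (c12 : Cm A₁ A₂) (c13 : Cm A₁ A₃)
    (c23 : Cm A₂ A₃) (d12 : A₁ ≠ A₂) (d13 : A₁ ≠ A₃) (d23 : A₂ ≠ A₃) : False := by
  classical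
  obtain ⟨b₀, φ₀, e₀, t0⟩ := exists_tv wd h0 k0
  obtain ⟨b₁, φ₁, e₁, t1⟩ := exists_tv wd h1 k1
  obtain ⟨b₂, φ₂, e₂, t2⟩ := exists_tv wd h2 k2
  obtain ⟨b₃, φ₃, e₃, t3⟩ := exists_tv wd h3 k3
  have p01 := Tv.pair1 wd h0 h1 t0 t1 n1
  have p02 := Tv.pair1 wd h0 h2 t0 t2 n2
  have p03 := Tv.pair1 wd h0 h3 t0 t3 n3
  have p10 := Tv.pair1 wd h1 h0 t1 t0 (fun h => n1 h.symm)
  have p20 := Tv.pair1 wd h2 h0 t2 t0 (fun h => n2 h.symm)
  have p30 := Tv.pair1 wd h3 h0 t3 t0 (fun h => n3 h.symm)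
  have p12 := (Tv.pair wd h1 h2 t1 t2).2 c12
  have p21 := (Tv.pair wd h2 h1 t2 t1).2 c12.symm
  have p13 := (Tv.pair wd h1 h3 t1 t3).2 c13
  have p31 := (Tv.pair wd h3 h1 t3 t1).2 c13.symm
  have p23 := (Tv.pair wd h2 h3 t2 t3).2 c23
  have p32 := (Tv.pair wd h3 h2 t3 t2).2 c23.symm
  have q0 := t0.c0
  have q1 := t1.c0
  have q2 := t2.c0
  have q3 := t3.c0
  set g := b₀ * b₃ * b₂ * b₀ with hg
  set B := cg g A₁ with hB
  have hBo : B ∈ offs p H V := offs_cg h1 g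
  have hfx : ∀ v : V, v ∈ fx V B ↔ φ₁ v + φ₂ v + φ₃ v = 0 := by
    intro v
    have e1 : g⁻¹ • v = b₀ • b₂ • b₃ • b₀ • v := by
      rw [hg, ← mul_smul, ← mul_smul, ← mul_smul]
      congr 1
      rw [mul_inv_rev, mul_inv_rev, mul_inv_rev, t0.inv, t2.inv, t3.inv]
      group
    rw [hB, mem_fx_cg, ← t1.ker, e1]
    have e2 : φ₁ (b₀ • b₂ • b₃ • b₀ • v) = φ₁ v + φ₂ v + φ₃ v := by
      simp only [t0.act, t2.act, t3.act, map_add, map_sc, p01, p02, p03, p10, p20, p30, p12, p21, p13, p31, p23,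
        p32, q0, q1, q2, q3]
      generalize φ₀ v = x₀
      generalize φ₁ v = x₁
      generalize φ₂ v = x₂
      generalize φ₃ v = x₃
      revert x₀ x₁ x₂ x₃
      decide
    rw [e2]
  have kB : Nat.card B = 2 := by rw [hB, card_cg, k1]
  obtain ⟨b, ψ, e, tB⟩ := exists_tv wd hBo kB
  have hc1 : Cm A₁ B := by
    refine ((Tv.pair wd hBo h1 tB t1).1 ?_).symm
    rw [tB.ker, hfx, q1, p21, p31]; decide
  have hc2 : Cm A₂ B := by
    refine ((Tv.pair wd hBo h2 tB t2).1 ?_).symm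
    rw [tB.ker, hfx, p12, q2, p32]; decide
  have hc3 : Cm A₃ B := by
    refine ((Tv.pair wd hBo h3 tB t3).1 ?_).symm
    rw [tB.ker, hfx, p13, p23, q3]; decide
  -- `B` is different from the `A_i`
  have key : ∀ X Y Z : Subgroup H, ∀ x y z : V →+ ZMod 2, (∀ v, x v = 0 ↔ v ∈ fx V X) → (∀ v, y v = 0 ↔ v ∈ fx V Y) →
      (∀ v, z v = 0 ↔ v ∈ fx V Z) → (∀ v, v ∈ fx V B ↔ x v + y v + z v = 0) → X ∈ offs p H V → Y ∈ offs p H V →
      Z ∈ offs p H V → Cm X Y → Cm X Z → Cm Y Z → X ≠ Y → Z ≠ Y → B ≠ X := by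
    intro X Y Z x y z hx hy hz hxyz oX oY oZ cXY cXZ cYZ nXY nZY hBX
    obtain ⟨v, hv, hvY⟩ := indep sit wd fam (𝒯 := {X, Z}) (B := Y) (by
      rintro W (rfl | rfl)
      · exact oX
      · exact oZ) (by
      rintro W (rfl | rfl) W' (rfl | rfl)
      · exact oX.2.1
      · exact cXZ
      · exact cXZ.symm
      · exact oZ.2.1) oY (by
      rintro W (rfl | rfl)
      · exact cXY
      · exact cYZ.symm) (by
      rintro (h | h)
      · exact nXY h.symm
      · exact nZY h.symm)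
    have a1 : v ∈ fx V X := fx_anti (le_sSup (Or.inl rfl)) hv
    have a2 : v ∈ fx V Z := fx_anti (le_sSup (Or.inr rfl)) hv
    have a3 : v ∈ fx V B := by rw [hBX]; exact a1
    rw [hxyz, (hx v).2 a1, (hz v).2 a2, zero_add, add_zero, hy] at a3
    exact hvY a3
  have nB1 : B ≠ A₁ := key A₁ A₂ A₃ φ₁ φ₂ φ₃ t1.ker t2.ker t3.ker hfx h1 h2 h3 c12 c13 c23 d12 d23.symm
  have nB2 : B ≠ A₂ := key A₂ A₁ A₃ φ₂ φ₁ φ₃ t2.ker t1.ker t3.ker
    (fun v => by rw [hfx, add_comm (φ₁ v)]) h2 h1 h3 c12.symm c23 c13 d12.symm d13.symm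
  have nB3 : B ≠ A₃ := key A₃ A₁ A₂ φ₃ φ₁ φ₂ t3.ker t1.ker t2.ker
    (fun v => by rw [hfx, add_comm (φ₁ v + φ₂ v), ← add_assoc]) h3 h1 h2 c13.symm c23.symm c12 d13.symm d12.symm
  obtain ⟨v, hv, hvB⟩ := indep sit wd fam (𝒯 := {A₁, A₂, A₃}) (B := B) (by
      rintro W (rfl | rfl | rfl)
      · exact h1
      · exact h2
      · exact h3) (by
      rintro W (rfl | rfl | rfl) W' (rfl | rfl | rfl)
      · exact h1.2.1
      · exact c12
      · exact c13
      · exact c12.symm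
      · exact h2.2.1
      · exact c23
      · exact c13.symm
      · exact c23.symm
      · exact h3.2.1) hBo (by
      rintro W (rfl | rfl | rfl)
      · exact hc1
      · exact hc2
      · exact hc3) (by
      rintro (h | h | h)
      · exact nB1 h
      · exact nB2 h
      · exact nB3 h)
  apply hvB
  rw [hfx, (t1.ker v).2 (fx_anti (le_sSup (Or.inl rfl)) hv), (t2.ker v).2 (fx_anti (le_sSup (Or.inr (Or.inl rfl))) hv),
    (t3.ker v).2 (fx_anti (le_sSup (Or.inr (Or.inr rfl))) hv)]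
  decide

end claw

end H51.OG
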