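import Cfsg.Agent.Lib.H51.OffTwo

/-!
The components in the case of members of order two.
-/

set_option autoImplicit false
set_option linter.unusedSectionVars false
set_option linter.unusedVariables false
set_option linter.unusedSimpArgs false

namespace H51.OG

open Cfsg Subgroup H51.FF H51.SylowAmb H53.PU H51.AmalgamBasic

section

variable {p : ℕ} [hp : Fact p.Prime] {H V : Type*} [Group H] [Finite H] [AddCommGroup V] [Finite V]
  [DistribMulAction H V]

/-- line groups that do not commute -/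
def Rel (p : ℕ) {H : Type*} (V : Type*) [Group H] [AddCommGroup V] [DistribMulAction H V] (T X Y : Subgroup H) : Prop :=
  X = Y ∨ ¬ Cm (LX p V T X) (LX p V T Y)

/-- the component of `X` -/
def EX2 (p : ℕ) {H : Type*} (V : Type*) [Group H] [AddCommGroup V] [DistribMulAction H V] (T X : Subgroup H) :
    Subgroup H := sSup {L | ∃ Y ∈ AT p V T, Rel p V T X Y ∧ L = LX p V T Y}

theorem cm_cg_iff (g : H) {A B : Subgroup H} : Cm (cg g A) (cg g B) ↔ Cm A B := by
  constructor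
  · intro h
    have := h.cg g⁻¹
    rwa [cg_inv_cg, cg_inv_cg] at this
  · exact fun h => h.cg g

theorem Rel.refl {T : Subgroup H} (X : Subgroup H) : Rel p V T X X := Or.inl rfl

theorem Rel.symm {T X Y : Subgroup H} (h : Rel p V T X Y) : Rel p V T Y X := by
  rcases h with rfl | h
  · exact Or.inl rfl
  · exact Or.inr fun h1 => h h1.symm

theorem rel_cg {T X Y : Subgroup H} {t : H} (ht : t ∈ T) : Rel p V T (cg t X) (cg t Y) ↔ Rel p V T X Y := by
  unfold Rel
  rw [lx_cg ht, lx_cg ht, cm_cg_iff, cg_inj]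

variable {T M : Subgroup H} (sit : Sit p V T M) (wd : Wd p H V) (fam : Fam p (offs p H V))

omit sit wd fam in
theorem PQ.not_cm {A B : Subgroup H} (pq : PQ p V A B) : ¬ Cm A B := by
  intro h
  obtain ⟨a, ha⟩ := Subgroup.ne_bot_iff_exists_ne_one.1 ((Subgroup.one_lt_card_iff_ne_bot A).1 pq.one_lt)
  have h1 := pq.genA a a.2 (fun h => ha (Subtype.ext h))
  rw [mem_nz_iff.1 (h.le_nz a.2), sup_idem] at h1
  obtain ⟨w, hw, hwA⟩ := pq.exists_fx
  apply hwA
  have h2 : A ≤ B := by rw [h1]; exact le_sup_left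
  exact fx_anti h2 hw

include sit wd fam

/-- commuting can be tested on one pair -/
theorem cm_of_pair {X Y Z W : Subgroup H} (hX : X ∈ AT p V T) (hY : Y ∈ AT p V T) (hne : X ≠ Y)
    (hZ : Z ∈ Wm p H V (DX p V T X)) (hZX : Z ≠ X) (hW : W ∈ Wm p H V (DX p V T Y)) (hWY : W ≠ Y) (h : Cm Z W) :
    Cm (LX p V T X) (LX p V T Y) := by
  rw [at_lx sit wd fam hX (at_self sit wd fam hX) hZ hZX.symm]
  rw [at_lx sit wd fam hY (at_self sit wd fam hY) hW hWY.symm]
  have h1 : Cm (LX p V T X) Y := at_cm' sit wd fam hX hY hne.symm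
  have h2 : Cm (LX p V T Y) X := at_cm' sit wd fam hY hX hne
  have hXW := le_sSup (at_self sit wd fam hX) (a := X) 
  have a1 : Cm X (Y ⊔ W) := by
    refine (h2.mono ?_ le_rfl).symm
    exact sup_le (le_sSup (at_self sit wd fam hY)) (le_sSup hW)
  have a2 : Cm Z Y := h1.mono (le_sSup hZ) le_rfl
  exact a1.sup (a2.symm.sup h.symm).symm

variable (h2c : ∀ X ∈ AT p V T, Nat.card X = 2)

include h2c

theorem offs_card {X : Subgroup H} (hX : X ∈ offs p H V) : Nat.card X = 2 := by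
  obtain ⟨g, hg⟩ := exists_at sit wd fam hX
  rw [← card_cg g]; exact h2c _ hg

theorem rel_trans {X Y W : Subgroup H} (hX : X ∈ AT p V T) (hY : Y ∈ AT p V T) (hW : W ∈ AT p V T)
    (h1 : Rel p V T X Y) (h2 : Rel p V T Y W) : Rel p V T X W := by
  by_cases hXW : X = W
  · exact Or.inl hXW
  by_cases hXY : X = Y
  · rw [hXY]; exact h2
  by_cases hYW : Y = W
  · rw [← hYW]; exact h1
  right
  intro hcm
  have n1 := h1.resolve_left hXY
  have n2 := h2.resolve_left hYW
  obtain ⟨Zx, hZx, hZxn, _⟩ := at_exZ sit wd fam hX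
  obtain ⟨Zy, hZy, hZyn, _⟩ := at_exZ sit wd fam hY
  obtain ⟨Zw, hZw, hZwn, _⟩ := at_exZ sit wd fam hW
  have m1 : ¬ Cm Zy Zx := fun h => n1 (cm_of_pair sit wd fam hX hY hXY hZx hZxn hZy hZyn h.symm)
  have m2 : ¬ Cm Zy Zw := fun h => n2 (cm_of_pair sit wd fam hY hW hYW hZy hZyn hZw hZwn h)
  have m3 : ¬ Cm Zy Y := (at_pq sit wd fam hY hZy (at_self sit wd fam hY) hZyn).not_cm
  have m4 : Cm Zx Zw := hcm.mono (le_sSup hZx) (le_sSup hZw)
  have m5 : Cm Zx Y := (at_cm' sit wd fam hX hY (fun h => hXY h.symm)).mono (le_sSup hZx) le_rfl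
  have m6 : Cm Zw Y := (at_cm' sit wd fam hW hY hYW).mono (le_sSup hZw) le_rfl
  have m7 : ¬ Cm Zw W := (at_pq sit wd fam hW hZw (at_self sit wd fam hW) hZwn).not_cm
  have m8 : ¬ Cm Zx X := (at_pq sit wd fam hX hZx (at_self sit wd fam hX) hZxn).not_cm
  have d1 : Zx ≠ Zw := by
    intro h
    apply m7
    rw [← h]
    exact (at_cm' sit wd fam hX hW (fun h => hXW h.symm)).mono (le_sSup hZx) le_rfl
  have d2 : Zx ≠ Y := by
    intro h
    apply m8
    rw [h]
    exact (at_cm wd sit.ms.pgT hY hX)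
  have d3 : Zw ≠ Y := by
    intro h
    apply m7
    rw [h]
    exact (at_cm wd sit.ms.pgT hY hW)
  have oc := fun {X : Subgroup H} (hX : X ∈ offs p H V) => offs_card sit wd fam h2c hX
  exact claw sit wd fam hZy.1 hZx.1 hZw.1 hY.1 (oc hZy.1) (oc hZx.1) (oc hZw.1) (oc hY.1) m1 m2 m3 m4 m5 m6 d1 d2 d3

theorem ex2_eq {X Y : Subgroup H} (hX : X ∈ AT p V T) (hY : Y ∈ AT p V T) (h : Rel p V T X Y) :
    EX2 p V T X = EX2 p V T Y := by
  unfold EX2
  congr 1
  ext L
  constructor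
  · rintro ⟨W, hW, h1, rfl⟩
    exact ⟨W, hW, rel_trans sit wd fam h2c hY hX hW h.symm h1, rfl⟩
  · rintro ⟨W, hW, h1, rfl⟩
    exact ⟨W, hW, rel_trans sit wd fam h2c hX hY hW h h1, rfl⟩

omit h2c in
/-- commuting line groups have commutators in the fixed spaces -/
theorem lx_cmt {X Y : Subgroup H} (h : Cm (LX p V T X) (LX p V T Y)) :
    ∀ l ∈ LX p V T X, ∀ v : V, l • v - v ∈ fx V (LX p V T Y) := by
  apply cmt_sSup
  intro W hW x hx v
  apply fx_sSup
  intro W' hW'
  exact wd.cmt_le hW.1 hW'.1 (h.mono (le_sSup hW) (le_sSup hW')) x hx v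

theorem ex2_e3 {X Y : Subgroup H} (hX : X ∈ AT p V T) (hY : Y ∈ AT p V T) (hne : EX2 p V T X ≠ EX2 p V T Y) :
    ∀ l ∈ EX2 p V T X, ∀ v : V, l • v - v ∈ fx V (EX2 p V T Y) := by
  apply cmt_sSup
  rintro _ ⟨X', hX', hXX', rfl⟩ x hx v
  apply fx_sSup
  rintro _ ⟨Y', hY', hYY', rfl⟩
  refine lx_cmt sit wd fam ?_ x hx v
  by_contra hcm
  apply hne
  apply ex2_eq sit wd fam h2c hX hY
  exact rel_trans sit wd fam h2c hX hX' hY hXX'
    (rel_trans sit wd fam h2c hX' hY' hY (Or.inr hcm) hYY'.symm)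

/-- the class is a power of two -/
theorem class_card {X : Subgroup H} (hX : X ∈ AT p V T) :
    ∃ k : ℕ, Nat.card ↥{Y | Y ∈ AT p V T ∧ Rel p V T X Y} = p ^ k := by
  classical
  let act : MulAction H (Subgroup H) :=
    { smul := cg
      one_smul := cg_one
      mul_smul := fun g h A => (cg_cg g h A).symm }
  let S : Subgroup H :=
    { carrier := {t | t ∈ T ∧ Rel p V T X (cg t X)}
      one_mem' := ⟨one_mem _, by rw [cg_one]; exact Rel.refl X⟩
      mul_mem' := by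
        rintro s t ⟨hs, hs'⟩ ⟨ht, ht'⟩
        refine ⟨mul_mem hs ht, ?_⟩
        rw [← cg_cg]
        exact rel_trans sit wd fam h2c hX (at_cg hX hs) (at_cg (at_cg hX ht) hs) hs' ((rel_cg hs).2 ht')
      inv_mem' := by
        rintro s ⟨hs, hs'⟩
        refine ⟨inv_mem hs, ?_⟩
        have := (rel_cg (p := p) (V := V) (inv_mem hs)).2 hs'
        rw [cg_inv_cg] at this
        exact this.symm }
  have hSp : IsPGroup p S := sit.ms.pgT.to_le (fun s hs => hs.1)
  have horb : (MulAction.orbit S X : Set (Subgroup H)) = {Y | Y ∈ AT p V T ∧ Rel p V T X Y} := by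
    ext Y
    constructor
    · rintro ⟨⟨s, hs, hs'⟩, rfl⟩
      exact ⟨at_cg hX hs, hs'⟩
    · rintro ⟨hY, hXY⟩
      obtain ⟨t, ht, rfl⟩ := at_trans' sit wd fam hX hY
      exact ⟨⟨t, ht, hXY⟩, rfl⟩
  obtain ⟨k, hk⟩ := hSp.card_orbit X
  exact ⟨k, by rw [← horb]; exact hk⟩

/-- the star of a component -/
theorem exists_star {X : Subgroup H} (hX : X ∈ AT p V T) :
    ∃ (J : Type) (_ : Fintype J) (_ : DecidableEq J) (s : J → H) (φ : J → V →+ ZMod 2) (c : J → V) (k : ℕ),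
      Star s φ c ∧ (∀ j, c j ≠ 0) ∧ EX2 p V T X = Subgroup.closure (Set.range s) ∧ Fintype.card J = 2 * p ^ k := by
  classical
  have hp2 : p = 2 := by
    have h1 := h2c X hX
    obtain ⟨n, hn⟩ := IsPGroup.iff_card.1 hX.1.1
    rw [h1] at hn
    have h2 : n ≠ 0 := by rintro rfl; simp at hn
    have h3 : p ∣ 2 := by rw [hn]; exact dvd_pow_self p h2
    exact (Nat.prime_dvd_prime_iff_eq hp.out Nat.prime_two).1 h3
  set I := ↥{Y | Y ∈ AT p V T ∧ Rel p V T X Y} with hI
  have hIf : Finite I := inferInstance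
  obtain ⟨k, hk⟩ := class_card sit wd fam h2c hX
  let m := Nat.card I
  let e : Fin m ≃ I := (Finite.equivFin I).symm
  -- the second and third member of each line
  have hex : ∀ Y : I, ∃ Z ∈ Wm p H V (DX p V T Y), Z ≠ (Y : Subgroup H) := by
    intro Y
    obtain ⟨Z, hZ, hZn, _⟩ := at_exZ sit wd fam Y.2.1
    exact ⟨Z, hZ, hZn⟩
  choose Z hZ hZn using hex
  have oc := fun {X : Subgroup H} (hX : X ∈ offs p H V) => offs_card sit wd fam h2c hX
  have hτ : ∀ Y : I, ∃ τ ∈ (Y : Subgroup H), τ ≠ 1 := by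
    intro Y
    obtain ⟨a, ha⟩ := Subgroup.ne_bot_iff_exists_ne_one.1 Y.2.1.1.2.2.1
    exact ⟨a, a.2, fun h => ha (Subtype.ext h)⟩
  choose τ hτ hτ1 using hτ
  let S : I × Bool → Subgroup H := fun j => if j.2 then cg (τ j.1) (Z j.1) else Z j.1
  have hSt : ∀ Y : I, S (Y, true) = cg (τ Y) (Z Y) := fun Y => if_pos rfl
  have hSf : ∀ Y : I, S (Y, false) = Z Y := fun Y => if_neg (by simp)
  have hSW : ∀ j : I × Bool, S j ∈ Wm p H V (DX p V T j.1) := by
    rintro ⟨Y, b⟩
    cases b with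
    | false => rw [hSf]; exact hZ Y
    | true =>
      rw [hSt]
      exact wm_cg (hZ Y) ((at_self sit wd fam Y.2.1).2.1 (hτ Y))
  have hpqZ : ∀ Y : I, PQ p V (Y : Subgroup H) (Z Y) := fun Y =>
    at_pq sit wd fam Y.2.1 (at_self sit wd fam Y.2.1) (hZ Y) (hZn Y).symm
  have hSn : ∀ j : I × Bool, S j ≠ (j.1 : Subgroup H) := by
    rintro ⟨Y, b⟩
    cases b with
    | false => rw [hSf]; exact hZn Y
    | true =>
      rw [hSt]
      intro h
      apply hZn Y
      have h1 : cg (τ Y) (Y : Subgroup H) = Y := cg_eq_self (hτ Y)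
      conv_rhs at h => rw [← h1]
      exact cg_inj.1 h
  have hSne : ∀ Y : I, S (Y, false) ≠ S (Y, true) := by
    intro Y h
    rw [hSf, hSt] at h
    have h1 := (hpqZ Y).genA (τ Y) (hτ Y) (hτ1 Y)
    rw [← h, sup_idem] at h1
    have h2 : (Y : Subgroup H) ≤ Z Y := by rw [h1]; exact le_sup_left
    obtain ⟨w, hw, hwA⟩ := (hpqZ Y).exists_fx
    exact hwA (fx_anti h2 hw)
  have hSL : ∀ Y : I, LX p V T (Y : Subgroup H) = S (Y, false) ⊔ S (Y, true) := fun Y =>
    at_lx sit wd fam Y.2.1 (hSW (Y, false)) (hSW (Y, true)) (hSne Y)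
  have hSo : ∀ j, S j ∈ offs p H V := fun j => (hSW j).1
  choose s φ c tv using fun j => exists_tv wd (hSo j) (oc (hSo j))
  -- noncommuting
  have hnc : ∀ i j, i ≠ j → ¬ Cm (S i) (S j) := by
    rintro ⟨Y, b⟩ ⟨Y', b'⟩ hij
    by_cases hYY : Y = Y'
    · subst hYY
      have hbb : b ≠ b' := fun h => hij (by rw [h])
      apply (at_pq sit wd fam Y.2.1 (hSW (Y, b)) (hSW (Y, b')) ?_).not_cm
      cases b <;> cases b'
      · exact absurd rfl hbb
      · exact hSne Y
      · exact (hSne Y).symm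
      · exact absurd rfl hbb
    · have hYY' : (Y : Subgroup H) ≠ Y' := fun h => hYY (Subtype.ext h)
      intro hcm
      have h1 := cm_of_pair sit wd fam Y.2.1 Y'.2.1 hYY' (hSW (Y, b)) (hSn (Y, b)) (hSW (Y', b')) (hSn (Y', b')) hcm
      have h2 : Rel p V T (Y : Subgroup H) Y' :=
        rel_trans sit wd fam h2c Y.2.1 hX Y'.2.1 Y.2.2.symm Y'.2.2
      exact (h2.resolve_left hYY') h1
  let J := Fin m × Bool
  let f : J → I × Bool := fun j => (e j.1, j.2)
  have hf : Function.Bijective f := by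
    constructor
    · rintro ⟨a, b⟩ ⟨a', b'⟩ h
      have h1 : e a = e a' := congrArg Prod.fst h
      have h2 : b = b' := congrArg Prod.snd h
      rw [e.injective h1, h2]
    · rintro ⟨Y, b⟩
      exact ⟨(e.symm Y, b), by show (e (e.symm Y), b) = _; rw [Equiv.apply_symm_apply]⟩
  refine ⟨J, inferInstance, inferInstance, fun j => s (f j), fun j => φ (f j), fun j => c (f j), k, ⟨?_, ?_⟩, ?_, ?_, ?_⟩
  · intro j v
    exact (tv (f j)).act v
  · intro i j
    by_cases hij : i = j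
    · subst hij; rw [if_pos rfl]; exact (tv (f i)).c0
    · rw [if_neg hij]
      exact Tv.pair1 wd (hSo _) (hSo _) (tv (f i)) (tv (f j)) (hnc _ _ (fun h => hij (hf.1 h)))
  · intro j
    exact (tv (f j)).c_ne
  · apply le_antisymm
    · apply sSup_le
      rintro _ ⟨Y, hY, hXY, rfl⟩
      rw [hSL ⟨Y, hY, hXY⟩, (tv _).closure, (tv (_, true)).closure]
      have key : ∀ j : I × Bool, Subgroup.closure {s j} ≤ Subgroup.closure (Set.range fun j => s (f j)) := by
        intro j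
        rw [Subgroup.closure_le]
        rintro _ rfl
        obtain ⟨j', rfl⟩ := hf.2 j
        exact Subgroup.subset_closure ⟨j', rfl⟩
      exact sup_le (key _) (key _)
    · rw [Subgroup.closure_le]
      rintro _ ⟨j, rfl⟩
      have h1 : S (f j) ≤ LX p V T ((f j).1 : Subgroup H) := le_sSup (hSW (f j))
      have h2 : LX p V T ((f j).1 : Subgroup H) ≤ EX2 p V T X := le_sSup ⟨_, (f j).1.2.1, (f j).1.2.2, rfl⟩
      exact h2 (h1 (tv (f j)).a_mem)
  · show Fintype.card (Fin m × Bool) = 2 * p ^ k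
    rw [Fintype.card_prod, Fintype.card_fin, Fintype.card_bool, mul_comm, ← hk]

theorem asm2 : Asm p V T M (EX2 p V T) := by
  refine ⟨?_, ?_, ?_, ?_, ?_⟩
  · intro X hX t ht
    unfold EX2
    rw [sSup_cg]
    congr 1
    ext L
    constructor
    · rintro ⟨Y, hY, h1, rfl⟩
      refine ⟨LX p V T (cg t⁻¹ Y), ⟨cg t⁻¹ Y, at_cg hY (inv_mem ht), ?_, rfl⟩, ?_⟩
      · rw [← rel_cg ht, cg_cg_inv]; exact h1
      · rw [← lx_cg ht, cg_cg_inv]
    · rintro ⟨_, ⟨Y, hY, h1, rfl⟩, rfl⟩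
      exact ⟨cg t Y, at_cg hY ht, (rel_cg ht).2 h1, (lx_cg ht).symm⟩
  · intro X hX
    exact le_sSup ⟨X, hX, Rel.refl X, rfl⟩
  · intro X hX Y hY hne
    exact ex2_e3 sit wd fam h2c hX hY hne
  · intro X hX v
    obtain ⟨J, i1, i2, s, φ, c, k, st, hc, hE, hJ⟩ := exists_star sit wd fam h2c hX
    exact st.split (by rw [hJ]; exact even_two_mul _) hc hE v
  · intro X hX
    apply sSup_le
    rintro _ ⟨Y, hY, _, rfl⟩
    exact le_sSup ⟨Y, hY, rfl⟩

end

end H51.OG
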