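import Cfsg.Agent.Lib.H51.OffTheta

/-!
Each point belongs to exactly one member.
-/

set_option autoImplicit false
set_option linter.unusedSectionVars false
set_option linter.unusedVariables false

namespace H51.OG

open Cfsg Subgroup H51.FF H51.SylowAmb H53.PU H51.AmalgamBasic

section

variable {p : ℕ} [hp : Fact p.Prime] {H V : Type*} [Group H] [Finite H] [AddCommGroup V] [Finite V]
  [DistribMulAction H V] {T M D R : Subgroup H} (sit : Sit p V T M) (wd : Wd p H V) (fam : Fam p (offs p H V))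
  (gd : Gd p (offs p H V) M D R)

include sit wd fam gd

/-- the kernel on the points -/
theorem exists_kernel : ∃ K : Subgroup H, K ≤ normalizer (D : Set H) ∧ normalizer (D : Set H) ≤ normalizer (K : Set H) ∧
    ∀ x : H, x ∈ K ↔ x ∈ normalizer (D : Set H) ∧ ∀ k ∈ normalizer (D : Set H), x ∈ cg k M := by
  let K : Subgroup H :=
    { carrier := {x | x ∈ normalizer (D : Set H) ∧ ∀ k ∈ normalizer (D : Set H), x ∈ cg k M}
      one_mem' := ⟨one_mem _, fun k _ => one_mem _⟩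
      mul_mem' := fun ha hb => ⟨mul_mem ha.1 hb.1, fun k hk => mul_mem (ha.2 k hk) (hb.2 k hk)⟩
      inv_mem' := fun ha => ⟨inv_mem ha.1, fun k hk => inv_mem (ha.2 k hk)⟩ }
  have hle : ∀ n ∈ normalizer (D : Set H), cg n K ≤ K := by
    intro n hn x hx
    rw [mem_cg] at hx
    refine ⟨?_, fun k hk => ?_⟩
    · have e : x = n * (n⁻¹ * x * n) * n⁻¹ := by group
      rw [e]
      exact mul_mem (mul_mem hn hx.1) (inv_mem hn)
    · have h1 := hx.2 (n⁻¹ * k) (mul_mem (inv_mem hn) hk)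
      rw [mem_cg] at h1 ⊢
      have e : k⁻¹ * x * k = (n⁻¹ * k)⁻¹ * (n⁻¹ * x * n) * (n⁻¹ * k) := by group
      rw [e]; exact h1
  refine ⟨K, fun x hx => hx.1, ?_, fun x => Iff.rfl⟩
  intro n hn
  rw [mem_nz_iff]
  apply le_antisymm (hle n hn)
  have := cg_mono (g := n) (hle n⁻¹ (inv_mem hn))
  rwa [cg_cg_inv] at this

theorem wm_uniq {X X' : Subgroup H} (hX : X ∈ Wm p H V D) (hX' : X' ∈ Wm p H V D) (hs : Sm M D X X') : X = X' := by
  classical
  by_contra hne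
  obtain ⟨Z, hZ, hn⟩ := exists_nsm sit wd fam gd hX
  have hn' : ¬ Sm M D X' Z := fun h => hn (sm_trans sit wd fam gd hX' hs h)
  have pq := pq_of sit wd fam gd hX hZ hn
  have pq' := pq_of sit wd fam gd hX' hZ hn'
  have hqZ : Nat.card Z = Nat.card X := pq.cardB
  have hqX' : Nat.card X' = Nat.card X := by rw [← pq'.cardB, hqZ]
  set q := Nat.card X with hq
  have hq1 : 1 < q := pq.one_lt
  obtain ⟨g₁, hg₁, hXg, hX'g⟩ := hs
  obtain ⟨k₀, hk₀, hZk⟩ := gd.exists_pt fam sit.ms hZ.2.1 hZ.1.1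
  have hs : Sm M D X X' := ⟨g₁, hg₁, hXg, hX'g⟩
  have hcm := cm_of_sm sit wd fam gd hX hX' hs
  have hXcg : ∀ a ∈ X, cg a X' = X' := fun a ha => mem_nz_iff.1 (hcm.le_nz ha)
  have hX'cg : ∀ a ∈ X', cg a X = X := fun a ha => mem_nz_iff.1 (hcm.symm.le_nz ha)
  -- `M₂ = cg k₀ M`
  have hLM2 : ∀ Y ∈ Wm p H V D, (¬ Sm M D Y Z) → Y ⊓ cg k₀ M = ⊥ := by
    intro Y hY hYn
    rw [eq_bot_iff]
    intro a ha
    rw [Subgroup.mem_bot]
    by_contra ha1
    apply hYn
    have pqY := pq_of sit wd fam gd hY hZ hYn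
    have h1 := pqY.genA a ha.1 ha1
    have h2 : cg a Z ≤ cg k₀ M := by
      have := cg_mono (g := a) hZk
      rwa [cg_eq_self ha.2] at this
    have h3 : Y ⊔ Z ≤ cg k₀ M := by rw [← h1]; exact sup_le hZk h2
    exact ⟨k₀, hk₀, le_sup_left.trans h3, le_sup_right.trans h3⟩
  have hXM2 := hLM2 X hX hn
  have hX'M2 := hLM2 X' hX' hn'
  have hne12 : cg g₁ M ≠ cg k₀ M := by
    intro h
    apply hn
    exact ⟨g₁, hg₁, hXg, by rw [h]; exact hZk⟩
  set J := X ⊔ X' with hJ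
  have hJab : Cm J J := ab_sup hX.1.2.1 hX'.1.2.1 hcm
  have hJp : IsPGroup p J := pg_sup hX.1.1 hX'.1.1 hcm
  have hJcard : Nat.card J = q * q := by
    rw [(wd.comm_pair hX.1 hX'.1 hne hcm).2.2, hqX']
  set E := J ⊓ cg k₀ M with hE
  have hEJ : E ≤ J := inf_le_left
  have hEab : Cm E E := hJab.mono hEJ hEJ
  have hEp : IsPGroup p E := hJp.to_le hEJ
  have hXE : X ⊓ E = ⊥ := by
    rw [eq_bot_iff, ← hXM2]
    exact le_inf inf_le_left (inf_le_right.trans inf_le_right)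
  have hX'E : X' ⊓ E = ⊥ := by
    rw [eq_bot_iff, ← hX'M2]
    exact le_inf inf_le_left (inf_le_right.trans inf_le_right)
  have hXX' : X ⊓ X' = ⊥ := wd.inf_bot hX.1 hX'.1 hne
  have hX'XE : X' ≤ X ⊔ E := by
    intro x' hx'
    have hx'N := hX'.2.1 hx'
    obtain ⟨L, hL, hsL⟩ := reach sit wd fam gd hX hZ hn (wm_cg hZ hx'N)
    rcases hL with rfl | ⟨a, ha, rfl⟩
    · exfalso
      apply hn
      have h1 := hsL.cg (inv_mem hx'N)
      rw [cg_inv_cg, hX'cg _ (inv_mem hx')] at h1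
      exact h1.symm
    · obtain ⟨k, hk, h1, h2⟩ := hsL
      have haN := hX.2.1 ha
      have h3 := pt_uniq sit wd fam gd (wm_cg hZ hx'N) (mul_mem hx'N hk₀) hk (by
        rw [← cg_cg]; exact cg_mono hZk) h1
      have h4 := pt_uniq sit wd fam gd (wm_cg hZ haN) (mul_mem haN hk₀) hk (by
        rw [← cg_cg]; exact cg_mono hZk) h2
      have h5 : a⁻¹ * x' ∈ cg k₀ M := by
        rw [mem_cg]
        have e : k₀⁻¹ * (a⁻¹ * x') * k₀ = ((a * k₀)⁻¹ * k) * ((x' * k₀)⁻¹ * k)⁻¹ := by group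
        rw [e]
        exact mul_mem h4 (inv_mem h3)
      have h6 : a⁻¹ * x' ∈ E := Subgroup.mem_inf.2
        ⟨mul_mem (inv_mem (Subgroup.mem_sup_left ha)) (Subgroup.mem_sup_right hx'), h5⟩
      have e : x' = a * (a⁻¹ * x') := by group
      rw [e]
      exact mul_mem (Subgroup.mem_sup_left ha) (Subgroup.mem_sup_right h6)
  have hXEJ : X ⊔ E = J := le_antisymm (sup_le le_sup_left hEJ) (sup_le le_sup_left hX'XE)
  have hEcard : Nat.card E = q := by
    have h1 := card_sup_inf_comm hJab (le_sup_left : X ≤ J) hEJ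
    rw [hXEJ, hXE, Subgroup.card_bot, mul_one, hJcard] at h1
    exact (Nat.eq_of_mul_eq_mul_left (by omega) h1).symm
  have hfxXE : fx V X ⊓ fx V E = fx V X ⊓ fx V X' := by rw [← fx_sup, hXEJ, hJ, fx_sup]
  have hEg₁ : E ≤ cg g₁ M := hEJ.trans (sup_le hXg hX'g)
  have hJN : J ≤ normalizer (D : Set H) := sup_le hX.2.1 hX'.2.1
  -- the kernel
  obtain ⟨K, hKN, hNK, hKmem⟩ := exists_kernel sit wd fam gd
  have hEK : E ≤ K := by
    intro e he
    rw [hKmem]
    refine ⟨hJN (hEJ he), fun k hk => ?_⟩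
    obtain ⟨A₀, hA₀, hA₀R, hA₀D⟩ := gd.exA
    have hA : A₀ ∈ Wm p H V D := ⟨hA₀, hA₀R.trans gd.RN, hA₀D⟩
    have hAk := wm_cg hA hk
    obtain ⟨L, hL, k', hk', h1, h2⟩ := reach sit wd fam gd hX hZ hn hAk
    have h3 := pt_uniq' sit wd fam gd hAk hk hk' (cg_mono (hA₀R.trans gd.RM)) h1
    rw [h3]
    have hLW := ln_wm hX hZ hL
    rcases hL with rfl | ⟨a, ha, rfl⟩
    · rw [← pt_uniq' sit wd fam gd hX hg₁ hk' hXg h2]
      exact hEg₁ he
    · have haN := hX.2.1 ha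
      rw [← pt_uniq' sit wd fam gd hLW (mul_mem haN hk₀) hk' (by rw [← cg_cg]; exact cg_mono hZk) h2, ← cg_cg,
        mem_cg]
      have e1 : a⁻¹ * e * a = e := by
        have := hJab e (hEJ he) a (Subgroup.mem_sup_left ha)
        rw [mul_assoc, this]; group
      rw [e1]
      exact (Subgroup.mem_inf.1 he).2
  set J₁ := sSup {Y | Y ∈ Wm p H V D ∧ Y ≤ cg g₁ M} with hJ₁
  have hcm1 : ∀ Y ∈ {Y | Y ∈ Wm p H V D ∧ Y ≤ cg g₁ M}, ∀ Y' ∈ {Y | Y ∈ Wm p H V D ∧ Y ≤ cg g₁ M}, Cm Y Y' :=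
    fun Y hY Y' hY' => cm_of_sm sit wd fam gd hY.1 hY'.1 ⟨g₁, hg₁, hY.2, hY'.2⟩
  have hJ₁p : IsPGroup p J₁ := pg_sSup hcm1 (fun Y hY => hY.1.1.1)
  have hKJ₁ : K ≤ normalizer (J₁ : Set H) := by
    have hle : ∀ x ∈ K, cg x J₁ ≤ J₁ := by
      intro x hx
      rw [cg_le_iff]
      apply sSup_le
      intro Y hY
      rw [← cg_le_iff]
      have hx1 := (hKmem x).1 hx
      refine le_sSup ⟨wm_cg hY.1 hx1.1, ?_⟩
      have := cg_mono (g := x) hY.2
      rwa [cg_eq_self (hx1.2 g₁ hg₁)] at this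
    intro x hx
    rw [mem_nz_iff]
    apply le_antisymm (hle x hx)
    have := cg_mono (g := x) (hle x⁻¹ (inv_mem hx))
    rwa [cg_cg_inv] at this
  have hEJ₁ : E ≤ J₁ := hEJ.trans (sup_le (le_sSup ⟨hX, hXg⟩) (le_sSup ⟨hX', hX'g⟩))
  set Q := pCoreOf p K with hQ
  have hEQ : E ≤ Q := by
    refine (le_inf hEJ₁ hEK).trans ?_
    apply le_pCoreOf inf_le_right _ (hJ₁p.to_le inf_le_left)
    intro x hx
    rw [mem_nz_iff, cg_inf, mem_nz_iff.1 (hKJ₁ hx), cg_eq_self hx]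
  have hQp : IsPGroup p Q := isPGroup_pCoreOf K
  have hQK : Q ≤ K := pCoreOf_le K
  have hQg : Q ≤ cg g₁ M := fun x hx => ((hKmem x).1 (hQK hx)).2 g₁ hg₁
  have hNQ : normalizer (D : Set H) ≤ normalizer (Q : Set H) := hNK.trans (normalizer_le_normalizer_pCoreOf K)
  -- `fx Q` and `fx L`
  set L := X ⊔ Z with hL
  have hLN : L ≤ normalizer (D : Set H) := sup_le hX.2.1 hZ.2.1
  obtain ⟨u, huQ, huL⟩ : ∃ u ∈ fx V Q, u ∉ fx V L := by
    by_contra hcon
    push Not at hcon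
    apply hn
    have h1 : L ≤ cg g₁ M := by
      intro l hl
      exact sit.cen' hQg hQp (fun v hv => hcon v hv l hl)
    exact ⟨g₁, hg₁, le_sup_left.trans h1, le_sup_right.trans h1⟩
  have htop : fx V Q ⊔ fx V L = ⊤ := by
    refine pq.irr (U := fx V Q ⊔ fx V L) le_sup_right ?_ (AddSubgroup.mem_sup_left huQ) huL
    intro l hl v hv
    obtain ⟨a, ha, b, hb, rfl⟩ := AddSubgroup.mem_sup.1 hv
    rw [smul_add]
    refine AddSubgroup.add_mem _ (AddSubgroup.mem_sup_left ?_) (AddSubgroup.mem_sup_right ?_)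
    · rw [← mem_nz_iff.1 (hNQ (hLN hl)), mem_fx_cg, inv_smul_smul]; exact ha
    · rw [hb l hl]; exact hb
  have htopE : fx V E ⊔ fx V L = ⊤ := by
    rw [eq_top_iff, ← htop]
    exact sup_le_sup_right (fx_anti hEQ) _
  have hLX : fx V L ≤ fx V X := fx_anti le_sup_left
  have hLZ : fx V L ≤ fx V Z := fx_anti le_sup_right
  have hinfE : fx V E ⊓ fx V L = fx V L ⊓ fx V X' := by
    apply le_antisymm
    · rintro v ⟨h1, h2⟩
      have h3 : v ∈ fx V X ⊓ fx V E := ⟨hLX h2, h1⟩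
      rw [hfxXE] at h3
      exact ⟨h2, h3.2⟩
    · rintro v ⟨h1, h2⟩
      have h3 : v ∈ fx V X ⊓ fx V X' := ⟨hLX h1, h2⟩
      rw [← hfxXE] at h3
      exact ⟨h3.2, h1⟩
  have hcVX' : q * Nat.card (fx V X') = Nat.card V := by rw [← hqX']; exact wd.card_eq hX'.1
  have hcVX : q * Nat.card (fx V X) = Nat.card V := wd.card_eq hX.1
  have hEle : q * Nat.card (fx V E) ≤ Nat.card V := by
    have := wd.le E hEp hEab
    unfold vl at this
    rwa [hEcard] at this
  have hX'E2 : Nat.card (fx V X') ≤ Nat.card (fx V E) := by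
    have h1 := add_card_sup_inf (fx V E) (fx V L)
    rw [htopE, AddSubgroup.card_top, hinfE] at h1
    have h2 := add_card_sup_inf (fx V L) (fx V X')
    have h3 : Nat.card ↥(fx V L ⊔ fx V X') ≤ Nat.card V :=
      Nat.card_le_card_of_injective _ (AddSubgroup.subtype_injective _)
    apply Nat.le_of_mul_le_mul_left _ (Nat.card_pos (α := fx V L))
    rw [← h2, mul_comm (Nat.card (fx V L)), ← h1]
    exact Nat.mul_le_mul_right _ h3
  have hcE : Nat.card (fx V E) = Nat.card (fx V X') := by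
    apply le_antisymm _ hX'E2
    rw [← hcVX'] at hEle
    exact Nat.le_of_mul_le_mul_left hEle (by omega)
  have hcVE : q * Nat.card (fx V E) = Nat.card V := by rw [hcE]; exact hcVX'
  have hfixX : ∀ x ∈ X, x ≠ 1 → Nat.card (dm V x).range = q := by
    intro x hx hx1
    have h1 := card_range_dm (V := V) (a := x) (F := fx V X) (fun v hv => wd.fixed X hX.1 x hx hx1 v hv)
      (fun v hv => hv x hx)
    rw [← hcVX] at h1
    exact Nat.eq_of_mul_eq_mul_right Nat.card_pos h1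
  have hfixX' : ∀ x ∈ X', x ≠ 1 → Nat.card (dm V x).range = q := by
    intro x hx hx1
    have h1 := card_range_dm (V := V) (a := x) (F := fx V X') (fun v hv => wd.fixed X' hX'.1 x hx hx1 v hv)
      (fun v hv => hv x hx)
    rw [← hcVX'] at h1
    exact Nat.eq_of_mul_eq_mul_right Nat.card_pos h1
  -- fixed points of the elements of `E`
  have hfixE : ∀ e ∈ E, e ≠ 1 → ∀ v : V, e • v = v → v ∈ fx V E := by
    intro e he he1
    obtain ⟨a, ha, x', hx', hax⟩ := (H13.Norm.mem_sup_of_le_normalizer hcm.le_nz).1 (hEJ he)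
    have ha1 : a ≠ 1 := by
      rintro rfl
      rw [one_mul] at hax
      have h1 : e ∈ X' ⊓ E := ⟨hax ▸ hx', he⟩
      rw [hX'E, Subgroup.mem_bot] at h1
      exact he1 h1
    have h1 := card_mul_le_of_map (fx V X') (dm V e).range ⊥ (fx V X ⊓ fx V X') (dm V e)
      (fun x _ => ⟨x, rfl⟩) bot_le (by
        intro x hx hx0
        rw [AddSubgroup.mem_bot, dm_apply, ← hax, mul_smul, hx x' hx', sub_eq_zero] at hx0
        exact ⟨wd.fixed X hX.1 a ha ha1 x hx0, hx⟩)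
    rw [AddSubgroup.card_bot, mul_one] at h1
    have h2 := wd.card_inf hX'.1 hX.1 (fun h => hne h.symm) hcm.symm
    rw [inf_comm] at h2
    rw [h2] at h1
    have h3 : q ≤ Nat.card (dm V e).range := Nat.le_of_mul_le_mul_right h1 Nat.card_pos
    have h4 := AddSubgroup.card_mul_index (dm V e).ker
    rw [AddSubgroup.index_ker, ← hcVE] at h4
    have hle : fx V E ≤ (dm V e).ker := by
      intro v hv
      rw [AddMonoidHom.mem_ker, dm_apply, hv e he, sub_self]
    have h5 : Nat.card (dm V e).ker ≤ Nat.card (fx V E) := by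
      have h6 : Nat.card (dm V e).ker * q ≤ Nat.card (fx V E) * q := by
        calc Nat.card (dm V e).ker * q ≤ Nat.card (dm V e).ker * Nat.card (dm V e).range := Nat.mul_le_mul_left _ h3
          _ = Nat.card (fx V E) * q := by rw [h4, mul_comm]
      exact Nat.le_of_mul_le_mul_right h6 (by omega)
    have h6 := AddSubgroup.eq_of_le_of_card_ge hle h5
    intro v hv
    rw [h6, AddMonoidHom.mem_ker, dm_apply, hv, sub_self]
  have hE1 : E ≠ ⊥ := by
    rw [← Subgroup.one_lt_card_iff_ne_bot, hEcard]; exact hq1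
  obtain ⟨A'', hA'', hA''E⟩ := wd.exists_mem hEp hEab hE1 (by unfold vl; rw [hEcard]; exact hcVE)
  have hEA : A'' = E := by
    obtain ⟨a'', ha''1⟩ := Subgroup.ne_bot_iff_exists_ne_one.1 hA''.2.2.1
    have ha1 : (a'' : H) ≠ 1 := fun h => ha''1 (Subtype.ext h)
    have h1 : fx V A'' = fx V E := by
      apply le_antisymm
      · intro v hv
        exact hfixE a'' (hA''E a''.2) ha1 v (hv a'' a''.2)
      · exact fx_anti hA''E
    apply Subgroup.eq_of_le_of_card_ge hA''E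
    have h2 := wd.card_eq hA''
    rw [h1, ← hcVE] at h2
    rw [hEcard]
    exact (Nat.eq_of_mul_eq_mul_right Nat.card_pos h2).ge
  have hEoff : E ∈ offs p H V := hEA ▸ hA''
  have hED : E ≤ D := by
    by_contra h
    apply hne12
    exact pt_uniq' sit wd fam gd ⟨hEoff, hEJ.trans hJN, h⟩ hg₁ hk₀ hEg₁ inf_le_right
  have hcmD : ∀ Y ∈ Wm p H V D, Cm E Y := by
    intro Y hY
    apply wd.comm_of_pg hEoff hY.1
    have h1 : IsPGroup p ↥(Y ⊔ D) := hY.1.1.to_sup_of_normal_right' gd.pgD hY.2.1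
    exact h1.to_le (sup_le (hED.trans le_sup_right) le_sup_left)
  have hcmL : Cm L E := (hcmD X hX).symm.sup (hcmD Z hZ).symm
  -- final contradiction
  obtain ⟨x', hx'1⟩ := Subgroup.ne_bot_iff_exists_ne_one.1 hX'.1.2.2.1
  obtain ⟨x', hx'⟩ := x'
  have hx'1 : x' ≠ 1 := fun h => hx'1 (Subtype.ext h)
  have hcmXE : Cm X E := hJab.mono le_sup_left hEJ
  obtain ⟨a, ha, e, he, hae⟩ := (H13.Norm.mem_sup_of_le_normalizer hcmXE.le_nz).1 (hX'XE hx')
  have ha1 : a ≠ 1 := by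
    rintro rfl
    rw [one_mul] at hae
    have h1 : x' ∈ X' ⊓ E := ⟨hx', hae ▸ he⟩
    rw [hX'E, Subgroup.mem_bot] at h1
    exact hx'1 h1
  have he1 : e ≠ 1 := by
    rintro rfl
    rw [mul_one] at hae
    have h1 : x' ∈ X ⊓ X' := ⟨hae ▸ ha, hx'⟩
    rw [hXX', Subgroup.mem_bot] at h1
    exact hx'1 h1
  have hr1 : (dm V a).range ≤ (dm V x').range := by
    rintro _ ⟨v, rfl⟩
    have hv : v ∈ fx V E ⊔ fx V L := by rw [htopE]; exact AddSubgroup.mem_top _
    obtain ⟨v₁, hv₁, v₂, hv₂, rfl⟩ := AddSubgroup.mem_sup.1 hv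
    refine ⟨v₁, ?_⟩
    rw [dm_apply, dm_apply, ← hae, mul_smul, hv₁ e he, smul_add, hv₂ a (Subgroup.mem_sup_left ha)]
    abel
  have hr2 : (dm V e).range ≤ (dm V x').range := by
    rintro _ ⟨v, rfl⟩
    have hv : v ∈ fx V E ⊔ fx V L := by rw [htopE]; exact AddSubgroup.mem_top _
    obtain ⟨v₁, hv₁, v₂, hv₂, rfl⟩ := AddSubgroup.mem_sup.1 hv
    refine ⟨v₂, ?_⟩
    have h1 : a • e • v₂ = e • v₂ := by
      rw [← mul_smul, hcmXE a ha e he, mul_smul, hv₂ a (Subgroup.mem_sup_left ha)]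
    rw [dm_apply, dm_apply, ← hae, mul_smul, h1, smul_add, hv₁ e he]
    abel
  have hce : Nat.card (dm V e).range = q := by
    have h1 := card_range_dm (V := V) (a := e) (F := fx V E) (hfixE e he he1) (fun v hv => hv e he)
    rw [← hcVE] at h1
    exact Nat.eq_of_mul_eq_mul_right Nat.card_pos h1
  have hra : (dm V a).range = (dm V x').range := AddSubgroup.eq_of_le_of_card_ge hr1 (by
    rw [hfixX a ha ha1, hfixX' x' hx' hx'1])
  have hre : (dm V e).range = (dm V x').range := AddSubgroup.eq_of_le_of_card_ge hr2 (by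
    rw [hce, hfixX' x' hx' hx'1])
  obtain ⟨w, hw, hwX⟩ := pq.exists_fx
  have h1 : dm V a w ∈ (dm V e).range := by rw [hre, ← hra]; exact ⟨w, rfl⟩
  obtain ⟨v, hv⟩ := h1
  have hvm : v ∈ fx V E ⊔ fx V L := by rw [htopE]; exact AddSubgroup.mem_top _
  obtain ⟨v₁, hv₁, v₂, hv₂, rfl⟩ := AddSubgroup.mem_sup.1 hvm
  rw [dm_apply, dm_apply, smul_add, hv₁ e he] at hv
  have h2 : a • w - w ∈ fx V L := by
    have e1 : a • w - w = e • v₂ - v₂ := by rw [← hv]; abel
    rw [e1]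
    refine AddSubgroup.sub_mem _ ?_ hv₂
    intro l hl
    rw [← mul_smul, hcmL l hl e he, mul_smul, hv₂ l hl]
  apply hwX
  apply pq.IA a ha ha1 w hw
  have e1 : a • w = (a • w - w) + w := by abel
  rw [e1]
  exact AddSubgroup.add_mem _ (hLZ h2) hw

end

end H51.OG
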