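import Cfsg.Agent.Lib.H51.OffComm

/-!
`p`-minimal groups with offenders: all minimal offenders are `SL₂`-type.
-/

set_option autoImplicit false
set_option linter.unusedSectionVars false
set_option linter.unusedVariables false

namespace H51.OG

open Subgroup H51.FF H51.SylowAmb H53.PU

section

variable {p : ℕ} [hp : Fact p.Prime] {H V : Type*} [Group H] [Finite H] [AddCommGroup V] [Finite V]
  [DistribMulAction H V]

/-- the situation -/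
structure Sit (p : ℕ) {H : Type*} (V : Type*) [Group H] [AddCommGroup V] [DistribMulAction H V]
    (T M : Subgroup H) : Prop where
  ms : MS p T M
  pz : ∀ v : V, p • v = 0
  faith : ∀ h : H, (∀ v : V, h • v = v) → h = 1
  cen : ∀ g : H, (∀ v ∈ fx V T, g • v = v) → g ∈ M
  off : ∃ A : Subgroup H, IsPGroup p A ∧ Cm A A ∧ A ≠ ⊥ ∧ Nat.card V ≤ vl V A

theorem pm_of {𝒮 : Set (Subgroup H)} (fam : Fam p 𝒮) {T M D R : Subgroup H} (sit : Sit p V T M)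
    (gd : Gd p 𝒮 M D R) {A : Subgroup H} (hA : A ∈ 𝒮) (hAc : Cm A A)
    (hff : Nat.card V ≤ Nat.card A * Nat.card (fx V A))
    (hst : ∀ Z ≤ A, Z ≠ ⊥ → Z ≠ A → vl V Z < vl V A) {L : Subgroup H} (hAL : A ≤ L)
    (hLN : L ≤ normalizer (D : Set H)) (hAD : ¬ A ≤ D) {g : H} (hg : g ∈ normalizer (D : Set H))
    (hAg : A ≤ cg g M) (hLg : ¬ L ≤ cg g M) (hgen : ∀ l ∈ L, l ∉ cg g M → A ⊔ cg l A = L) :
    ∃ T₀ : Sylow p L, PM p V (T₀ : Subgroup L) ((cg g M).subgroupOf L) (A.subgroupOf L) := by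
  have hAp := fam.pg A hA
  obtain ⟨S, hAS, hSK, hSp, hSs⟩ := exists_sylow_ge (p := p) (K := L ⊓ cg g M) (Q := A) (le_inf hAL hAg) hAp
  have hSL : S ≤ L := hSK.trans inf_le_left
  have hSg : S ≤ cg g M := hSK.trans inf_le_right
  have hSs' : ¬ p ∣ S.relIndex L := by
    apply not_dvd_of_forall hSL hSp
    intro R' a1 a2 a3 a4
    symm
    refine eq_of_syl a2 (le_inf a3 ?_) a1 hSs
    refine le_trans (le_inf (a3.trans hLN) (a4.trans (nz_cl_le fam.conj S))) ?_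
    exact gd.nz_le fam sit.ms hg ((cl_le S).trans hSg) ((cl_le S).trans (hSL.trans hLN)) (hSp.to_le (cl_le S))
      (cl_cl S) (fun h => hAD ((le_cl hA hAS).trans h))
  obtain ⟨T₀, hT₀⟩ := exists_sylow_of hSL hSp hSs'
  have hA0 : (A.subgroupOf L).map L.subtype = A := by
    rw [Subgroup.subgroupOf_map_subtype, inf_eq_left.2 hAL]
  have hmapinj : Function.Injective (Subgroup.map L.subtype) := Subgroup.map_injective L.subtype_injective
  have hmap_le : ∀ X Y : Subgroup L, X.map L.subtype ≤ Y.map L.subtype → X ≤ Y := fun X Y h =>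
    (Subgroup.map_le_map_iff_of_injective L.subtype_injective).1 h
  have hAT₀ : A.subgroupOf L ≤ T₀ := hmap_le _ _ (by rw [hA0, hT₀]; exact hAS)
  have hgen' : ∀ x ∉ (cg g M).subgroupOf L, A.subgroupOf L ⊔ cg x (A.subgroupOf L) = ⊤ := by
    intro x hx
    apply hmapinj
    rw [Subgroup.map_sup, map_cg, hA0, map_top']
    exact hgen x x.2 (fun h => hx (Subgroup.mem_subgroupOf.2 h))
  have hTM : (T₀ : Subgroup L) ≤ (cg g M).subgroupOf L := by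
    apply hmap_le
    rw [hT₀, Subgroup.subgroupOf_map_subtype]
    exact le_inf hSg hSL
  refine ⟨T₀, sit.pz, ?_, T₀.2, ?_, hTM, ?_, hAT₀, ?_, ?_, ?_, ?_, hgen'⟩
  · intro h hh
    exact Subtype.ext (sit.faith h hh)
  · intro h
    exact hLg (Subgroup.subgroupOf_eq_top.1 h)
  · intro N hN hTN
    by_contra hcon
    obtain ⟨n, hn, hnM⟩ := Set.not_subset.1 hcon
    apply hN
    rw [eq_top_iff, ← hgen' n hnM]
    refine sup_le (hAT₀.trans hTN) ?_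
    intro y hy
    rw [mem_cg] at hy
    have e : y = n * (n⁻¹ * y * n) * n⁻¹ := by group
    rw [e]
    exact mul_mem (mul_mem hn (hTN (hAT₀ hy))) (inv_mem hn)
  · intro a ha b hb
    exact Subtype.ext (hAc _ (Subgroup.mem_subgroupOf.1 ha) _ (Subgroup.mem_subgroupOf.1 hb))
  · rw [← card_mapS, ← fx_mapS, hA0]; exact hff
  · intro Z hZ hZ1 hZ2
    rw [← vl_mapS, ← vl_mapS, hA0]
    apply hst
    · rw [← hA0]; exact Subgroup.map_mono hZ
    · intro h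
      apply hZ1
      apply hmapinj
      rw [h, Subgroup.map_bot]
    · intro h
      apply hZ2
      apply hmapinj
      rw [h, hA0]
  · by_contra hcon
    push Not at hcon
    apply hLg
    have ms' := sit.ms.cg' g
    obtain ⟨T₂, hST₂, hT₂M, hT₂p, hT₂s⟩ := exists_sylow_ge (p := p) hSg hSp
    obtain ⟨m, hm, hmT⟩ := ms'.conj_of_le hT₂M hT₂p hT₂s
    have hT₂ : T₂ = cg (m⁻¹ * g) T := by rw [← cg_cg, ← hmT, cg_inv_cg]
    intro l hl
    have h1 : ∀ v ∈ fx V T₂, l • v = v := by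
      intro v hv
      have h2 : v ∈ fx V (T₀ : Subgroup L) := by
        rw [← fx_mapS, hT₀]; exact fx_anti hST₂ hv
      exact (hcon v h2) ⟨l, hl⟩ (Subgroup.mem_top _)
    have h2 := sit.cen ((m⁻¹ * g)⁻¹ * l * (m⁻¹ * g)) (by
      intro v hv
      have h3 := h1 ((m⁻¹ * g) • v) (by rw [hT₂, mem_fx_cg, inv_smul_smul]; exact hv)
      rw [mul_smul, mul_smul, h3, inv_smul_smul])
    have h3 : m * l * m⁻¹ ∈ cg g M := by
      rw [mem_cg]
      have e : g⁻¹ * (m * l * m⁻¹) * g = (m⁻¹ * g)⁻¹ * l * (m⁻¹ * g) := by group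
      rw [e]; exact h2
    have e : l = m⁻¹ * (m * l * m⁻¹) * m := by group
    rw [e]
    exact mul_mem (mul_mem (inv_mem hm) h3) hm

theorem PQ.fixed {A B : Subgroup H} (pq : PQ p V A B) {a : H} (ha : a ∈ A) (ha1 : a ≠ 1) {v : V} (h : a • v = v) :
    v ∈ fx V A := by
  obtain ⟨x, hx, y, hy, rfl⟩ := pq.sp.exists_add v
  have h1 : a • y = y := by
    rw [smul_add, hx a ha] at h
    exact add_left_cancel h
  exact AddSubgroup.add_mem _ hx (pq.IA a ha ha1 y hy (by rw [h1]; exact hy))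

theorem PQ.card_V {A B : Subgroup H} (pq : PQ p V A B) : Nat.card A * Nat.card (fx V A) = Nat.card V := by
  rw [pq.sp.cV, ← pq.sp.cA]

/-- minimal offenders are part of an `SL₂`-pair -/
theorem exists_pq_conj {T M : Subgroup H} (sit : Sit p V T M) {A : Subgroup H} (hAp : IsPGroup p A) (hAc : Cm A A)
    (hA1 : A ≠ ⊥) (hff : Nat.card V ≤ vl V A) (hst : ∀ Z ≤ A, Z ≠ ⊥ → Z ≠ A → vl V Z < vl V A) :
    ∃ (g : H) (B : Subgroup H), PQ p V (cg g A) B := by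
  classical
  set 𝒮 : Set (Subgroup H) := {X | ∃ g : H, X = cg g A} with h𝒮
  have fam : Fam p 𝒮 := by
    refine ⟨?_, ?_, ?_, ⟨A, 1, (cg_one A).symm⟩⟩
    · rintro _ ⟨g, rfl⟩; exact pg_cg hAp
    · rintro _ ⟨g, rfl⟩ h
      apply hA1
      rw [← cg_inv_cg g A, h, cg_bot]
    · rintro _ ⟨g, rfl⟩ x
      exact ⟨x * g, cg_cg _ _ _⟩
  have hff' : ∀ X ∈ 𝒮, Nat.card V ≤ Nat.card X * Nat.card (fx V X) := by
    rintro _ ⟨g, rfl⟩
    have := vl_cg (V := V) g A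
    unfold vl at this
    rw [this]; exact hff
  have hst' : ∀ X ∈ 𝒮, ∀ Z ≤ X, Z ≠ ⊥ → Z ≠ X → vl V Z < vl V X := by
    rintro _ ⟨g, rfl⟩ Z hZ hZ1 hZ2
    rw [← vl_cg g⁻¹ Z, vl_cg g A]
    apply hst
    · rw [cg_le_iff, inv_inv]; exact hZ
    · intro h
      apply hZ1
      rw [← cg_cg_inv g Z, h, cg_bot]
    · intro h
      apply hZ2
      rw [← cg_cg_inv g Z, h]
  have hc' : ∀ X ∈ 𝒮, Cm X X := by
    rintro _ ⟨g, rfl⟩; exact hAc.cg g
  obtain ⟨D, R, gd, -⟩ := exists_Gd fam sit.ms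
  obtain ⟨A₁, hA₁, hA₁R, hA₁D⟩ := gd.exA
  obtain ⟨B₁, hB₁, hB₁N, hB₁M⟩ := gd.exB
  let prs : Set (Subgroup H × Subgroup H) := {x | x.1 ∈ 𝒮 ∧ x.2 ∈ 𝒮 ∧ x.1 ≤ M ∧ ¬ x.1 ≤ D ∧
    x.1 ≤ normalizer (D : Set H) ∧ x.2 ≤ normalizer (D : Set H) ∧ ¬ x.2 ≤ M}
  obtain ⟨⟨A₂, B₂⟩, hx, hmin⟩ := Set.exists_min_image prs (fun x => Nat.card ↥(x.1 ⊔ x.2)) (Set.toFinite _)
    ⟨(A₁, B₁), hA₁, hB₁, hA₁R.trans gd.RM, hA₁D, hA₁R.trans gd.RN, hB₁N, hB₁M⟩
  obtain ⟨a1, a2, a3, a4, a5, a6, a7⟩ := hx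
  simp only at a1 a2 a3 a4 a5 a6 a7 hmin
  have hLN : A₂ ⊔ B₂ ≤ normalizer (D : Set H) := sup_le a5 a6
  have hLM : ¬ A₂ ⊔ B₂ ≤ M := fun h => a7 (le_sup_right.trans h)
  have hgen : ∀ l ∈ A₂ ⊔ B₂, l ∉ M → A₂ ⊔ cg l A₂ = A₂ ⊔ B₂ := by
    intro l hl hlM
    have h1 : cg l A₂ ≤ A₂ ⊔ B₂ := by
      have := cg_mono (g := l) (le_sup_left : A₂ ≤ A₂ ⊔ B₂)
      rwa [cg_eq_self hl] at this
    apply Subgroup.eq_of_le_of_card_ge (sup_le le_sup_left h1)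
    refine hmin (A₂, cg l A₂) ⟨a1, fam.conj _ a1 l, a3, a4, a5, h1.trans hLN, ?_⟩
    intro h2
    apply hlM
    rw [cg_le_iff] at h2
    have := gd.uniq0 fam sit.ms a5 (fam.pg _ a1) (cl_mem a1) a4 a3 (inv_mem (hLN hl)) h2
    simpa using inv_mem this
  obtain ⟨T₀, pm⟩ := pm_of fam sit gd a1 (hc' _ a1) (hff' _ a1) (hst' _ a1) (L := A₂ ⊔ B₂) le_sup_left hLN a4
    (g := 1) (one_mem _) (by rw [cg_one]; exact a3) (by rw [cg_one]; exact hLM) (by rw [cg_one]; exact hgen)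
  obtain ⟨l, hl, hlM⟩ := Set.not_subset.1 hLM
  obtain ⟨g, hg⟩ := a1
  refine ⟨g, cg l A₂, ?_⟩
  rw [← hg]
  refine PQ.of_pm (hgen l hl hlM) pm (l := ⟨l, hl⟩) ?_ rfl
  intro h
  rw [Subgroup.mem_subgroupOf, cg_one] at h
  exact hlM h

theorem vl_bot : vl V (⊥ : Subgroup H) = Nat.card V := by
  unfold vl
  have : fx V (⊥ : Subgroup H) = ⊤ := by
    rw [eq_top_iff]
    intro v _ a ha
    rw [Subgroup.mem_bot.1 ha, one_smul]
  rw [this, Subgroup.card_bot, one_mul]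
  exact AddSubgroup.card_top

theorem Sit.wd {T M : Subgroup H} (sit : Sit p V T M) : Wd p H V ∧ (offs p H V).Nonempty := by
  classical
  let ab : Set (Subgroup H) := {A | IsPGroup p A ∧ Cm A A ∧ A ≠ ⊥}
  obtain ⟨A₀, hA₀p, hA₀c, hA₀1, hA₀ff⟩ := sit.off
  obtain ⟨A₁, hA₁, hmax⟩ := Set.exists_max_image ab (fun A => vl V A) (Set.toFinite _) ⟨A₀, hA₀p, hA₀c, hA₀1⟩
  have hm0 : Nat.card V ≤ vl V A₁ := hA₀ff.trans (hmax A₀ ⟨hA₀p, hA₀c, hA₀1⟩)
  have hle : ∀ A : Subgroup H, IsPGroup p A → Cm A A → vl V A ≤ vl V A₁ := by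
    intro A h1 h2
    by_cases h3 : A = ⊥
    · rw [h3, vl_bot]; exact hm0
    · exact hmax A ⟨h1, h2, h3⟩
  -- a minimal one
  let mn : Set (Subgroup H) := {A | IsPGroup p A ∧ Cm A A ∧ A ≠ ⊥ ∧ vl V A = vl V A₁}
  obtain ⟨A₂, hA₂, hmin⟩ := Set.exists_min_image mn (fun A => Nat.card A) (Set.toFinite _) ⟨A₁, hA₁.1, hA₁.2.1, hA₁.2.2, rfl⟩
  have hst : ∀ Z ≤ A₂, Z ≠ ⊥ → Z ≠ A₂ → vl V Z < vl V A₂ := by
    intro Z hZ hZ1 hZ2
    rw [hA₂.2.2.2]
    refine lt_of_le_of_ne (hle Z (hA₂.1.to_le hZ) (hA₂.2.1.mono hZ hZ)) ?_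
    intro h
    apply hZ2
    exact Subgroup.eq_of_le_of_card_ge hZ (hmin Z ⟨hA₂.1.to_le hZ, hA₂.2.1.mono hZ hZ, hZ1, h⟩)
  obtain ⟨g, B, pq⟩ := exists_pq_conj sit hA₂.1 hA₂.2.1 hA₂.2.2.1 (hA₂.2.2.2 ▸ hm0) hst
  have hm : vl V A₁ = Nat.card V := by
    have h1 := pq.card_V
    have h2 := vl_cg (V := V) g A₂
    unfold vl at h2
    rw [h2] at h1
    rw [← hA₂.2.2.2]
    exact h1
  rw [hm] at hle
  have key : ∀ A ∈ offs p H V, (∀ a ∈ A, a ≠ 1 → ∀ v : V, a • v = v → v ∈ fx V A) ∧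
      (∀ a ∈ A, ∀ v : V, a • v - v ∈ fx V A) := by
    intro A hA
    obtain ⟨g, B, pq⟩ := exists_pq_conj sit hA.1 hA.2.1 hA.2.2.1 hA.2.2.2.1.ge (by
      rw [hA.2.2.2.1]; exact hA.2.2.2.2)
    have hc : ∀ a ∈ A, g * a * g⁻¹ ∈ cg g A := by
      intro a ha
      rw [mem_cg]
      have e : g⁻¹ * (g * a * g⁻¹) * g = a := by group
      rw [e]; exact ha
    constructor
    · intro a ha ha1 v hv
      have h1 := pq.fixed (hc a ha) (by
        intro h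
        apply ha1
        have e : a = g⁻¹ * (g * a * g⁻¹) * g := by group
        rw [e, h]; group) (v := g • v) (by
        have e : g * a * g⁻¹ * g = g * a := by group
        rw [← mul_smul, e, mul_smul, hv])
      rwa [mem_fx_cg, inv_smul_smul] at h1
    · intro a ha v
      have h1 := pq.offA.quad _ (hc a ha) (g • v)
      have e : g * a * g⁻¹ * g = g * a := by group
      rw [← mul_smul, e, mul_smul, ← smul_sub, mem_fx_cg, inv_smul_smul] at h1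
      exact h1
  refine ⟨⟨sit.pz, sit.faith, hle, fun A hA => (key A hA).1, fun A hA => (key A hA).2⟩, A₂, ?_⟩
  refine ⟨hA₂.1, hA₂.2.1, hA₂.2.2.1, by rw [hA₂.2.2.2, hm], ?_⟩
  rw [← hm, ← hA₂.2.2.2]
  exact hst

end

end H51.OG
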