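import Cfsg.Agent.Lib.H51.NormCentral

/-! Weak closure of elements: `p` odd, or `p`-th powers of central elements. -/

set_option autoImplicit false
set_option linter.unusedSectionVars false

namespace H51.WeakClosOdd

open Cfsg Subgroup H51.AmalgamBasic H51.AmalgamBasic2 H51.SylowAmb H51.ThompsonA H51.WeakClos H51.NormCentral

variable {G : Type*} [Group G] {p : ℕ} [hp : Fact p.Prime]

theorem mem_normalizer_map {N : Subgroup G} {K : Subgroup N} {n : N} (hn : n ∈ normalizer (K : Set N)) :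
    (n : G) ∈ normalizer ((K.map N.subtype : Subgroup G) : Set G) := by
  rw [mem_normalizer_iff]
  intro y
  constructor
  · rintro ⟨k, hk, rfl⟩
    exact ⟨n * k * n⁻¹, (mem_normalizer_iff.1 hn k).1 hk, rfl⟩
  · rintro ⟨k, hk, he⟩
    refine ⟨n⁻¹ * k * n, (mem_normalizer_iff''.1 hn k).1 hk, ?_⟩
    have he2 : (k : G) = n * y * (n : G)⁻¹ := he
    show (n : G)⁻¹ * (k : G) * n = y
    rw [he2]; group

theorem weakly_closed [Finite G] {S : Subgroup G} (hS : IsPGroup p S) (hSi : ¬ p ∣ S.index) {z : G} (hzS : z ∈ S)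
    (hzc : ∀ s ∈ S, s * z = z * s) {e : ℕ} (he : p ≠ 2 ∨ p ∣ e)
    (hx : ∀ n ∈ normalizer (J S : Set G), n * z ^ e * n⁻¹ = z ^ e) {g₀ : G} (h0 : g₀ * z ^ e * g₀⁻¹ ∈ S) :
    g₀ * z ^ e * g₀⁻¹ = z ^ e := by
  by_contra h1
  obtain ⟨N, D, T, g, hDT, hTN, hND, hT, hTi, hTg, hxD, hJ, ⟨n, hn, hne⟩, hz⟩ :=
    exists_reduction hS hSi (pow_mem hzS e) hx h0 h1
  have hzD := hz z hzS hzc
  have hDN : D ≤ N := hDT.trans hTN
  have hcoe : ((⟨g * z * g⁻¹, hDN hzD⟩ : N) ^ e : N) = ⟨g * z ^ e * g⁻¹, hDN hxD⟩ := by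
    apply Subtype.ext
    show (g * z * g⁻¹) ^ e = g * z ^ e * g⁻¹
    rw [conj_pow]
  have hc := central_of (p := p) _ (S := T.subgroupOf N) (H13.Cores.isPGroup_subgroupOf hT N) hTi
    (D := D.subgroupOf N) (Subgroup.normal_subgroupOf_of_le_normalizer hND)
    (fun x hx => hDT hx) (z := ⟨g * z * g⁻¹, hDN hzD⟩) hzD (by
      rintro ⟨t, htN⟩ ht
      apply Subtype.ext
      show t * (g * z * g⁻¹) = (g * z * g⁻¹) * t
      have h2 : g⁻¹ * t * g ∈ S := mem_cj.1 (hTg ht)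
      have h3 := hzc _ h2
      calc t * (g * z * g⁻¹) = g * ((g⁻¹ * t * g) * z) * g⁻¹ := by group
        _ = g * (z * (g⁻¹ * t * g)) * g⁻¹ := by rw [h3]
        _ = (g * z * g⁻¹) * t := by group) e he le_rfl (by
      intro m hm
      have h2 := mem_normalizer_map hm
      rw [map_subtype_J_subgroupOf hTN] at h2
      rw [hcoe]
      apply Subtype.ext
      exact hJ _ h2)
  rw [hcoe] at hc
  apply hne
  have h2 := Subgroup.mem_center_iff.1 hc ⟨n, hn⟩
  have h3 : n * (g * z ^ e * g⁻¹) = (g * z ^ e * g⁻¹) * n := congrArg Subtype.val h2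
  rw [h3, mul_inv_cancel_right]

end H51.WeakClosOdd
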