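import Cfsg.Agent.Lib.H51.Transvection
import Cfsg.Agent.Lib.H51.WeakClosOdd

/-! Weak closure of elements in `S₄`-free groups. -/

set_option autoImplicit false
set_option linter.unusedSectionVars false

namespace H51.S4Free

open Cfsg Subgroup H51.AmalgamBasic H51.AmalgamBasic2 H51.SylowAmb H51.ThompsonA H51.WeakClos H51.NormArg
  H51.MaxP H51.Involves MulAction

universe u

variable {G : Type u} [Group G]

/-- the intersection of a Sylow subgroup with a normal subgroup is Sylow there -/
theorem sylow_inf_normal [Finite G] {p : ℕ} [hp : Fact p.Prime] {S R : Subgroup G} (hSi : ¬ p ∣ S.index)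
    [hR : R.Normal] : ¬ p ∣ (S ⊓ R).relIndex R := by
  intro h
  apply hSi
  have h1 : S.relIndex (S ⊔ R) = (S ⊓ R).relIndex R := by
    have h4 := card_sup_mul_card_inf' (H := S) (K := R) (by
      rw [Subgroup.normalizer_eq_top_iff.2 hR]; exact le_top)
    have h5 := H3.PBasic.card_mul_relIndex (H := S) (K := S ⊔ R) le_sup_left
    have h6 := H3.PBasic.card_mul_relIndex (H := S ⊓ R) (K := R) inf_le_right
    have h7 : 0 < Nat.card S := Nat.card_pos
    have h8 : 0 < Nat.card (S ⊓ R : Subgroup G) := Nat.card_pos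
    apply Nat.eq_of_mul_eq_mul_left (Nat.mul_pos h7 h8)
    calc (Nat.card S * Nat.card (S ⊓ R : Subgroup G)) * S.relIndex (S ⊔ R)
        = (Nat.card S * S.relIndex (S ⊔ R)) * Nat.card (S ⊓ R : Subgroup G) := by ring
      _ = Nat.card S * Nat.card R := by rw [h5, h4]
      _ = (Nat.card S * Nat.card (S ⊓ R : Subgroup G)) * (S ⊓ R).relIndex R := by rw [← h6]; ring
  rw [← h1] at h
  exact h.trans (Subgroup.relIndex_dvd_index_of_le le_sup_left)

section

variable [Finite G] {S P : Subgroup G} {x : G} (h : Setup 2 S P x)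

include h

/-- `A ≤ R` implies `A ≤ P` where `R/C` is a normal 2-subgroup and `C ≤ C(x)` -/
theorem le_P_of_le [Fact (Nat.Prime 2)] {C R : Subgroup G} [hC : C.Normal] [hR : R.Normal] (hCR : C ≤ R) (hCx : C ≤ centralizer ({x} : Set G))
    (hRC : ∃ n : ℕ, C.relIndex R = 2 ^ n) {B : Subgroup G} (hB : MaxAb B S) (hBR : B ≤ R) : B ≤ P := by
  classical
  by_contra hBP
  set M := centralizer ({x} : Set G) with hM
  set Q := S ⊓ R with hQ
  have hQi : ¬ 2 ∣ Q.relIndex R := sylow_inf_normal h.hSi
  have hQp : IsPGroup 2 Q := h.hS.to_le inf_le_left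
  have hBQ : B ≤ Q := le_inf hB.1 hBR
  have hBm := maxP_of_sylow h.hS h.hSi hB
  have h1 := h.key (J Q) (gen_J hBm hBQ hQp) ((J_le Q).trans (inf_le_left.trans h.S_le))
    (fun h2 => hBP (((hBm.maxAb hBQ hQp).le_J).trans h2))
  have h2 : normalizer (Q : Set G) ≤ M := (normalizer_le_normalizer_J Q).trans h1
  -- R ≤ M
  have hRM : R ≤ M := by
    have h3 : (C ⊔ Q).relIndex R ∣ C.relIndex R := Subgroup.relIndex_dvd_of_le_left R le_sup_left
    have h4 : (C ⊔ Q).relIndex R ∣ Q.relIndex R := Subgroup.relIndex_dvd_of_le_left R le_sup_right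
    obtain ⟨n, hn⟩ := hRC
    rw [hn] at h3
    obtain ⟨k, _, hk⟩ := (Nat.dvd_prime_pow Nat.prime_two).1 h3
    have hk0 : k = 0 := by
      by_contra hk0
      apply hQi
      refine dvd_trans ?_ h4
      rw [hk]; exact dvd_pow_self 2 hk0
    rw [hk0, pow_zero, Subgroup.relIndex_eq_one] at hk
    exact hk.trans (sup_le hCx (inf_le_left.trans h.S_le))
  apply h.hnc
  rw [Subgroup.mem_center_iff]
  intro g
  obtain ⟨y, hy, hyg⟩ := frattini (K := R) (P := Q) inf_le_right hQp hQi (x := g) (by
    rw [Subgroup.normalizer_eq_top_iff.2 hR]; trivial)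
  have h5 : g ∈ M := by
    have : g = y⁻¹ * (y * g) := by group
    rw [this]; exact mul_mem (inv_mem (hRM hy)) (h2 hyg)
  exact mem_centralizer_singleton_iff.1 h5

theorem exists_not_le_P : ∃ B, MaxAb B S ∧ ¬ B ≤ P := by
  by_contra hcon
  push Not at hcon
  have h1 : J S ≤ P := sSup_le hcon
  have h2 : J P = J S := J_eq_of_le h1 h.P_le_S
  apply h.hnc
  rw [Subgroup.mem_center_iff]
  intro g
  have h3 : g ∈ normalizer (J S : Set G) := by
    rw [← h2]
    apply normalizer_le_normalizer_J P
    rw [Subgroup.normalizer_eq_top_iff.2 h.hPn]; trivial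
  have h4 := h.hx g h3
  calc g * x = (g * x * g⁻¹) * g := by group
    _ = x * g := by rw [h4]

theorem core [Fact (Nat.Prime 2)] (hx2 : x * x ∈ Subgroup.center G) (hfree : ¬ Involves (Equiv.Perm (Fin 4)) G) : False := by
  classical
  set M := centralizer ({x} : Set G) with hM
  -- the normal closure of x
  set V : Subgroup G := Subgroup.normalClosure {x} with hV
  have hVn : V.Normal := Subgroup.normalClosure_normal
  have hxV : x ∈ V := Subgroup.subset_normalClosure rfl
  have hPn := h.hPn
  have hVP : V ≤ P := Subgroup.normalClosure_le_normal (by simpa using h.hxP)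
  have hPC : P ≤ centralizer (V : Set G) := by
    have hcn : (centralizer (P : Set G)).Normal := inferInstance
    have h1 : V ≤ centralizer (P : Set G) := by
      apply Subgroup.normalClosure_le_normal
      simp only [Set.singleton_subset_iff, SetLike.mem_coe]
      rw [mem_centralizer_iff]
      intro d hd
      exact h.cent_S (h.P_le_S hd)
    intro d hd
    rw [mem_centralizer_iff]
    intro v hv
    exact (mem_centralizer_iff.1 (h1 hv) d hd).symm
  have hVab : Ab V := fun a ha b hb => (mem_centralizer_iff.1 (hPC (hVP hb)) a ha)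
  have hVp : IsPGroup 2 V := h.hPp.to_le hVP
  have hVS : V ≤ S := hVP.trans h.P_le_S
  have hcom : IsMulCommutative V := ab_iff.1 hVab
  let _ : CommGroup V := { (inferInstance : Group V) with mul_comm := fun a b => hcom.is_comm.comm a b }
  have hVpow : ∀ v ∈ V, v * v ∈ Subgroup.center G := by
    let Z' : Subgroup G :=
      { carrier := {v | v ∈ V ∧ v * v ∈ Subgroup.center G}
        one_mem' := ⟨one_mem _, by rw [mul_one]; exact one_mem _⟩
        mul_mem' := by
          rintro a b ⟨ha, ha'⟩ ⟨hb, hb'⟩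
          refine ⟨mul_mem ha hb, ?_⟩
          have : a * b * (a * b) = (a * a) * (b * b) := by
            calc a * b * (a * b) = a * (b * a) * b := by group
              _ = a * (a * b) * b := by rw [hVab b hb a ha]
              _ = (a * a) * (b * b) := by group
          rw [this]
          exact mul_mem ha' hb'
        inv_mem' := by
          rintro a ⟨ha, ha'⟩
          refine ⟨inv_mem ha, ?_⟩
          rw [← mul_inv_rev]; exact inv_mem ha' }
    have hle : V ≤ Z' := by
      rw [hV, Subgroup.normalClosure, Subgroup.closure_le]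
      intro y hy
      obtain ⟨a, ha, hay⟩ := Group.mem_conjugatesOfSet_iff.1 hy
      rw [Set.mem_singleton_iff] at ha
      rw [ha] at hay
      obtain ⟨c, rfl⟩ := isConj_iff.1 hay
      refine ⟨hVn.conj_mem x hxV c, ?_⟩
      have : c * x * c⁻¹ * (c * x * c⁻¹) = c * (x * x) * c⁻¹ := by group
      rw [this]
      have h3 := (Subgroup.mem_center_iff.1 hx2 c)
      rw [h3]
      simpa using hx2
    exact fun v hv => (hle hv).2
  set C := centralizer (V : Set G) with hC
  have hCn : C.Normal := inferInstance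
  have hCM : C ≤ M := fun c hc => mem_centralizer_singleton_iff.2 (mem_centralizer_iff.1 hc x hxV).symm
  have hVC : V ≤ C := hVP.trans hPC
  -- choose B
  let s : Set (Subgroup G) := {B | MaxAb B S ∧ ¬ B ≤ P}
  obtain ⟨B, ⟨hB, hBP⟩, hmax⟩ := Set.exists_max_image s (fun B => Nat.card (B ⊓ C : Subgroup G)) (Set.toFinite s)
    (exists_not_le_P h)
  have hBm := maxP_of_sylow h.hS h.hSi hB
  have hBp : IsPGroup 2 B := hBm.1
  have hBM : B ≤ M := hB.1.trans h.S_le
  -- the action and the equivariant function
  let ρ : G →* MulAut V := MulAut.conjNormal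
  have hρ : ∀ (g : G) (v : V), ((ρ g v : V) : G) = g * v * g⁻¹ := fun g v => MulAut.conjNormal_apply g v
  let f : G ⧸ M → V := fun c => ρ c.out ⟨x, hxV⟩
  have hfmk : ∀ g : G, ((f (QuotientGroup.mk g) : V) : G) = g * x * g⁻¹ := by
    intro g
    show ((ρ (QuotientGroup.mk g : G ⧸ M).out ⟨x, hxV⟩ : V) : G) = _
    rw [hρ]
    obtain ⟨s, hs⟩ := QuotientGroup.mk_out_eq_mul M g
    rw [hs]
    have : (s : G) * x = x * s := mem_centralizer_singleton_iff.1 s.2
    calc (g * (s : G)) * x * (g * (s : G))⁻¹ = g * ((s : G) * x) * (s : G)⁻¹ * g⁻¹ := by group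
      _ = g * (x * s) * (s : G)⁻¹ * g⁻¹ := by rw [this]
      _ = g * x * g⁻¹ := by group
  have hfG : ∀ (g : G) (c : G ⧸ M), f (g • c) = ρ g (f c) := by
    intro g c
    obtain ⟨k, rfl⟩ := QuotientGroup.mk_surjective c
    apply Subtype.ext
    have h1 : g • (QuotientGroup.mk k : G ⧸ M) = QuotientGroup.mk (g * k) := rfl
    rw [h1, hfmk, hρ, hfmk]; group
  let ρB : B →* MulAut V := ρ.comp B.subtype
  have hfB : ∀ (g : B) (c : G ⧸ M), f (g • c) = ρB g (f c) := fun g c => hfG g c
  have hsmul : ∀ (b : B) (g : G), b • (QuotientGroup.mk g : G ⧸ M) = QuotientGroup.mk g ↔ g⁻¹ * b * g ∈ M := by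
    intro b g
    have h1 : b • (QuotientGroup.mk g : G ⧸ M) = QuotientGroup.mk ((b : G) * g) := rfl
    rw [h1, eq_comm, QuotientGroup.eq]
    have : g⁻¹ * ((b : G) * g) = g⁻¹ * b * g := by group
    rw [this]
  -- fixed points
  have hFx : fixedPoints B (G ⧸ M) = {QuotientGroup.mk (1 : G)} := by
    ext c
    obtain ⟨g, rfl⟩ := QuotientGroup.mk_surjective c
    rw [Set.mem_singleton_iff]
    constructor
    · intro hc
      have h1 : B ≤ cj g M := by
        intro b hb
        rw [mem_cj]
        exact (hsmul ⟨b, hb⟩ g).1 (hc ⟨b, hb⟩)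
      have h2 := h.mem_of_le hBm hBP hBM h1
      rw [eq_comm, QuotientGroup.eq]
      simpa using h2
    · intro hc b
      rw [hc, hsmul]
      simpa using hBM b.2
  let Z : Subgroup V :=
    { carrier := {v | ((v : G)) ∈ Subgroup.center G}
      one_mem' := by show ((1 : V) : G) ∈ Subgroup.center G; exact one_mem _
      mul_mem' := by
        intro a b ha hb
        show ((a * b : V) : G) ∈ Subgroup.center G
        rw [Subgroup.coe_mul]
        exact mul_mem ha hb
      inv_mem' := by
        intro a ha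
        show ((a⁻¹ : V) : G) ∈ Subgroup.center G
        rw [Subgroup.coe_inv]; exact inv_mem ha }
  have hmemZ : ∀ v : V, v ∈ Z ↔ (v : G) ∈ Subgroup.center G := fun v => Iff.rfl
  have hZ : ∀ c : G ⧸ M, (∃ a : B, a • c ≠ c) → ∏ᶠ c' ∈ orbit B c, f c' ∈ Z := by
    rintro c ⟨a₁, ha₁⟩
    have hst : stabilizer B c ≠ ⊤ := by
      intro h
      apply ha₁
      have : a₁ ∈ stabilizer B c := by rw [h]; trivial
      exact this
    obtain ⟨A₁, hA₁, hstA⟩ := (eq_top_or_exists_le_coatom (stabilizer B c)).resolve_left hst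
    have hA₁n : A₁.Normal := H3.PBasic.normal_of_coatom hBp hA₁
    have hA₁i : A₁.index = 2 := H3.PBasic.index_of_coatom hBp hA₁
    obtain ⟨a, haA₁⟩ : ∃ a : B, a ∉ A₁ := by
      by_contra hcon
      push Not at hcon
      exact hA₁.1 (eq_top_iff.2 fun a _ => hcon a)
    rw [prod_orbit hfB hA₁i haA₁ c hstA]
    set w : V := ∏ᶠ c' ∈ orbit A₁ c, f c' with hw
    have hwfix : ∀ b : B, b ∈ A₁ → ρB b w = w := fun b hb => fixed hfB A₁ c hb
    rw [Finset.prod_range_succ, Finset.prod_range_one, pow_zero, pow_one, map_one, MulAut.one_apply]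
    by_cases haw : (a : G) * w * (a : G)⁻¹ = w
    · rw [hmemZ, Subgroup.coe_mul]
      show (w : G) * ((ρ (a : G) w : V) : G) ∈ _
      rw [hρ, haw]
      exact hVpow _ w.2
    · exfalso
      set B₁ : Subgroup G := A₁.map B.subtype with hB₁
      have hB₁B : B₁ ≤ B := Subgroup.map_subtype_le _
      have hB₁i : B₁.relIndex B = 2 := by
        rw [← hA₁i, hB₁]
        show ((A₁.map B.subtype).subgroupOf B).index = _
        rw [← Subgroup.comap_subtype, Subgroup.comap_map_eq_self_of_injective B.subtype_injective]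
      have hcardB : Nat.card B = 2 * Nat.card B₁ := by
        rw [← H3.PBasic.card_mul_relIndex hB₁B, hB₁i, mul_comm]
      set W : Subgroup G := V ⊓ centralizer (B₁ : Set G) with hW
      have hWV : W ≤ V := inf_le_left
      have hwW : (w : G) ∈ W := by
        refine Subgroup.mem_inf.2 ⟨w.2, mem_centralizer_iff.2 ?_⟩
        rintro _ ⟨b, hb, rfl⟩
        have h1 := congrArg Subtype.val (hwfix b hb)
        have h2 : (b : G) * w * (b : G)⁻¹ = w := h1
        show (b : G) * w = w * b
        calc (b : G) * w = ((b : G) * w * (b : G)⁻¹) * b := by group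
          _ = w * b := by rw [h2]
      -- |W| ≥ 2 |B₁ ∩ W|
      have hWlt : 2 * Nat.card (B₁ ⊓ W : Subgroup G) ≤ Nat.card W := by
        have hle : B₁ ⊓ W ≤ W := inf_le_right
        have h1 := H3.PBasic.card_mul_relIndex hle
        rw [← h1, mul_comm]
        apply Nat.mul_le_mul_left
        have h2 : (B₁ ⊓ W).relIndex W ≠ 1 := by
          intro h3
          rw [Subgroup.relIndex_eq_one] at h3
          have h4 := (Subgroup.mem_inf.1 (h3 hwW)).1
          apply haw
          rw [hB.2.1 a a.2 w (hB₁B h4)]; group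
        have h3 : (B₁ ⊓ W).relIndex W ≠ 0 := H51.Transvection.relIndex_ne_zero' _ _
        omega
      obtain ⟨hineq, heq⟩ := hB.card_ineq (A₀ := B₁) (U := W) hB₁B (hWV.trans hVS) (hVab.mono hWV) (by
        intro b hb v hv
        exact mem_centralizer_iff.1 (Subgroup.mem_inf.1 hv).2 b hb)
      have heq' : Nat.card B₁ * Nat.card W = Nat.card B * Nat.card (B₁ ⊓ W : Subgroup G) := by
        apply le_antisymm hineq
        rw [hcardB]
        calc 2 * Nat.card B₁ * Nat.card (B₁ ⊓ W : Subgroup G) = Nat.card B₁ * (2 * Nat.card (B₁ ⊓ W : Subgroup G)) := by ring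
          _ ≤ Nat.card B₁ * Nat.card W := Nat.mul_le_mul_left _ hWlt
      have hBs := heq heq'
      -- elements of B ∩ C are in B₁
      have hBC : B ⊓ C ≤ B₁ ⊓ C := by
        intro b hb
        obtain ⟨hb1, hb2⟩ := Subgroup.mem_inf.1 hb
        refine Subgroup.mem_inf.2 ⟨⟨⟨b, hb1⟩, hstA ?_, rfl⟩, hb2⟩
        obtain ⟨g, rfl⟩ := QuotientGroup.mk_surjective c
        rw [MulAction.mem_stabilizer_iff, hsmul]
        exact hCM (by
          have := hCn.conj_mem b hb2 g⁻¹
          simpa using this)
      -- B* ≤ P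
      have hBsP : B₁ ⊔ W ≤ P := by
        by_contra hne
        have h1 := hmax (B₁ ⊔ W) ⟨hBs, hne⟩
        have h2 : (B₁ ⊓ C) ⊔ W ≤ (B₁ ⊔ W) ⊓ C :=
          le_inf (sup_le_sup_right inf_le_left W) (sup_le inf_le_right (hWV.trans hVC))
        have h3 : Nat.card ((B₁ ⊓ C) ⊔ W : Subgroup G) ≤ Nat.card (B ⊓ C : Subgroup G) :=
          (Nat.card_le_card_of_injective _ (Subgroup.inclusion_injective h2)).trans h1
        have hn : B₁ ⊓ C ≤ normalizer (W : Set G) := by
          refine le_trans ?_ (Subgroup.centralizer_le_normalizer (W : Set G))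
          intro b hb
          rw [mem_centralizer_iff]
          intro v hv
          exact (mem_centralizer_iff.1 (Subgroup.mem_inf.1 hb).2 v (hWV hv))
        have h4 := card_sup_mul_card_inf' hn
        have h5 : (B₁ ⊓ C) ⊓ W = B₁ ⊓ W := by
          apply le_antisymm (inf_le_inf_right W inf_le_left)
          exact le_inf (le_inf inf_le_left (inf_le_right.trans (hWV.trans hVC))) inf_le_right
        rw [h5] at h4
        have h6 : Nat.card (B ⊓ C : Subgroup G) ≤ Nat.card (B₁ ⊓ C : Subgroup G) :=
          Nat.card_le_card_of_injective _ (Subgroup.inclusion_injective hBC)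
        have h7 : 0 < Nat.card (B₁ ⊓ W : Subgroup G) := Nat.card_pos
        have h8 : 0 < Nat.card (B₁ ⊓ C : Subgroup G) := Nat.card_pos
        have h9 : Nat.card (B₁ ⊓ C : Subgroup G) * (2 * Nat.card (B₁ ⊓ W : Subgroup G)) ≤
            Nat.card (B₁ ⊓ C : Subgroup G) * Nat.card (B₁ ⊓ W : Subgroup G) := by
          calc Nat.card (B₁ ⊓ C : Subgroup G) * (2 * Nat.card (B₁ ⊓ W : Subgroup G))
              ≤ Nat.card (B₁ ⊓ C : Subgroup G) * Nat.card W := Nat.mul_le_mul_left _ hWlt
            _ = Nat.card ((B₁ ⊓ C) ⊔ W : Subgroup G) * Nat.card (B₁ ⊓ W : Subgroup G) := h4.symm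
            _ ≤ Nat.card (B₁ ⊓ C : Subgroup G) * Nat.card (B₁ ⊓ W : Subgroup G) :=
              Nat.mul_le_mul_right _ (h3.trans h6)
        have h10 := Nat.le_of_mul_le_mul_left h9 h8
        omega
      have hB₁C : B₁ ≤ C := (le_sup_left.trans hBsP).trans hPC
      have hWeq : W = V := by
        apply le_antisymm hWV
        intro v hv
        refine Subgroup.mem_inf.2 ⟨hv, mem_centralizer_iff.2 ?_⟩
        intro b hb
        exact (mem_centralizer_iff.1 (hB₁C hb) v hv).symm
      -- a acts as a transvection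
      have hcardV : Nat.card V ≤ 2 * Nat.card (V ⊓ centralizer ({(a : G)} : Set G) : Subgroup G) := by
        rw [hWeq] at heq'
        have h1 : Nat.card (B₁ ⊓ V : Subgroup G) ≤ Nat.card (V ⊓ centralizer ({(a : G)} : Set G) : Subgroup G) := by
          apply Nat.card_le_card_of_injective _ (Subgroup.inclusion_injective _)
          intro b hb
          obtain ⟨hb1, hb2⟩ := Subgroup.mem_inf.1 hb
          refine Subgroup.mem_inf.2 ⟨hb2, mem_centralizer_singleton_iff.2 ?_⟩
          exact hB.2.1 b (hB₁B hb1) a a.2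
        have h2 : 0 < Nat.card B₁ := Nat.card_pos
        have h3 : Nat.card B₁ * Nat.card V = Nat.card B₁ * (2 * Nat.card (B₁ ⊓ V : Subgroup G)) := by
          rw [heq', hcardB]; ring
        have h4 := Nat.eq_of_mul_eq_mul_left h2 h3
        rw [h4]
        exact Nat.mul_le_mul_left 2 h1
      -- a² ∈ C
      have ha2 : (a : G) * a ∈ C := by
        have h1 : a ^ 2 ∈ A₁ := H3.PBasic.pow_mem_of_index (p := 2) hA₁i a
        apply hB₁C
        refine ⟨a ^ 2, h1, ?_⟩
        show ((a ^ 2 : B) : G) = _
        rw [Subgroup.coe_pow, pow_two]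
      apply hfree
      refine H51.Transvection.involves_S4 hVp ha2 ?_ hcardV
      intro N hN hNp haN
      -- the preimage R of N
      let R : Subgroup G := N.comap (QuotientGroup.mk' C)
      have hRn : R.Normal := hN.comap _
      have hCR : C ≤ R := by
        intro c hc
        show QuotientGroup.mk' C c ∈ N
        have : QuotientGroup.mk' C c = 1 := (QuotientGroup.eq_one_iff c).2 hc
        rw [this]; exact one_mem _
      have hRi : ∃ n : ℕ, C.relIndex R = 2 ^ n := by
        obtain ⟨n, hn⟩ := IsPGroup.iff_card.1 hNp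
        refine ⟨n, ?_⟩
        have h1 : C.relIndex R = Nat.card (R.map (QuotientGroup.mk' C)) := by
          rw [← Subgroup.relIndex_ker, QuotientGroup.ker_mk']
        rw [h1, Subgroup.map_comap_eq_self_of_surjective (QuotientGroup.mk'_surjective C), hn]
      have hBR : B ≤ R := by
        intro b hb
        by_cases hbA : (⟨b, hb⟩ : B) ∈ A₁
        · exact hCR (hB₁C ⟨_, hbA, rfl⟩)
        · have h1 := (Subgroup.mul_mem_iff_of_index_two hA₁i (a := a⁻¹) (b := ⟨b, hb⟩)).2 (by
            rw [inv_mem_iff]; exact iff_of_false haA₁ hbA)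
          have h2 : (a : G)⁻¹ * b ∈ R := hCR (hB₁C ⟨_, h1, rfl⟩)
          have h3 : (a : G) ∈ R := haN
          have h4 : b = (a : G) * ((a : G)⁻¹ * b) := by group
          rw [h4]
          exact mul_mem h3 h2
      exact hBP (le_P_of_le h hCR hCM hRi hB hBR)
  obtain ⟨z', hz'Z, hprod⟩ := prod_mod (A := B) Z hZ
  rw [hFx, finprod_mem_singleton] at hprod
  set L : V := ∏ᶠ c : G ⧸ M, f c with hL
  have hLc : (L : G) ∈ Subgroup.center G := by
    rw [Subgroup.mem_center_iff]
    intro g
    have h1 : ρ g L = L := by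
      have h2 := finprod_image hfG g Set.univ
      rw [Set.image_univ, (MulAction.surjective g).range_eq, finprod_mem_univ] at h2
      exact h2.symm
    have h2 := congrArg Subtype.val h1
    rw [hρ] at h2
    calc g * (L : G) = (g * (L : G) * g⁻¹) * g := by group
      _ = L * g := by rw [h2]
  apply h.hnc
  have h1 : ((f (QuotientGroup.mk (1 : G)) : V) : G) = x := by rw [hfmk]; group
  have h2 : (L : G) = x * z' := by rw [hprod, Subgroup.coe_mul, h1]
  have h3 : x = L * (z' : G)⁻¹ := by rw [h2]; group
  rw [h3]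
  exact mul_mem hLc (inv_mem hz'Z)

end

/-- transport of the weak closure property from the type `↥H` to the ambient group -/
theorem ambient_of_type [Finite G] {p : ℕ} [hp : Fact p.Prime] (H : Subgroup G)
    (hH : ∀ {T : Subgroup H}, IsPGroup p T → ¬ p ∣ T.index → ∀ {y : H}, y ∈ T →
      (∀ n ∈ normalizer (J T : Set H), n * y * n⁻¹ = y) → ∀ g : H, g * y * g⁻¹ ∈ T → g * y * g⁻¹ = y)
    (T : Subgroup G) (hTH : T ≤ H) (hT : IsPGroup p T) (hTi : ¬ p ∣ T.relIndex H) (y : G) (hy : y ∈ T)
    (hc : ∀ n ∈ H, n ∈ normalizer (J T : Set G) → n * y * n⁻¹ = y) (g : G) (hg : g ∈ H)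
    (hgy : g * y * g⁻¹ ∈ T) : g * y * g⁻¹ = y := by
  have h1 := hH (T := T.subgroupOf H) (H13.Cores.isPGroup_subgroupOf hT H) hTi (y := ⟨y, hTH hy⟩) hy (by
    intro n hn
    have h2 := H51.WeakClosOdd.mem_normalizer_map hn
    rw [map_subtype_J_subgroupOf hTH] at h2
    exact Subtype.ext (hc n n.2 h2)) ⟨g, hg⟩ hgy
  exact congrArg Subtype.val h1

theorem main [Fact (Nat.Prime 2)] : ∀ (n : ℕ) {G : Type u} [Group G] [Finite G], Nat.card G ≤ n →
    ¬ Involves (Equiv.Perm (Fin 4)) G → ∀ {S : Subgroup G}, IsPGroup 2 S → ¬ 2 ∣ S.index → ∀ (m : ℕ) {x : G},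
    x ∈ S → orderOf x ≤ m → (∀ n ∈ normalizer (J S : Set G), n * x * n⁻¹ = x) →
    ∀ g : G, g * x * g⁻¹ ∈ S → g * x * g⁻¹ = x := by
  intro n
  induction n with
  | zero =>
    intro G _ _ hn
    exact absurd hn (Nat.not_le.2 Nat.card_pos)
  | succ n ih =>
    intro G _ _ hn hfree
    have ihH : ∀ H : Subgroup G, H ≠ ⊤ → ∀ T : Subgroup G, T ≤ H → IsPGroup 2 T → ¬ 2 ∣ T.relIndex H →
        ∀ y ∈ T, (∀ n ∈ H, n ∈ normalizer (J T : Set G) → n * y * n⁻¹ = y) →
        ∀ h ∈ H, h * y * h⁻¹ ∈ T → h * y * h⁻¹ = y := by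
      intro H hH
      have hcard : Nat.card H ≤ n := by
        have h1 : Nat.card H < Nat.card G := by
          refine lt_of_le_of_ne (Nat.card_le_card_of_injective _ H.subtype_injective) ?_
          intro h2
          exact hH (Subgroup.eq_top_of_card_eq H h2)
        omega
      have hHfree : ¬ Involves (Equiv.Perm (Fin 4)) H := fun h1 =>
        hfree (involves_of_injective H.subtype H.subtype_injective h1)
      exact ambient_of_type H (fun {T} hT hTi {y} hy hc g hg =>
        ih (G := H) hcard hHfree hT hTi (orderOf y) hy le_rfl hc g hg)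
    intro S hS hSi m
    induction m with
    | zero =>
      intro x hxS hord
      exact absurd hord (Nat.not_le.2 (orderOf_pos _))
    | succ m ihm =>
      intro x hxS hord hx g₀ h0
      by_contra h1
      obtain ⟨N, D, T, g, hDT, hTN, hND, hT, hTi, hTg, hxD, hJ, ⟨k, hk, hne⟩, -⟩ :=
        exists_reduction hS hSi hxS hx h0 h1
      by_cases hNtop : N = ⊤
      · subst hNtop
        rw [Subgroup.relIndex_top_right] at hTi
        have hDn : D.Normal := Subgroup.normalizer_eq_top_iff.1 (top_le_iff.1 hND)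
        -- the square
        have hsq : ∀ g' : G, g' * (x * x) * g'⁻¹ ∈ S → g' * (x * x) * g'⁻¹ = x * x := by
          by_cases hx1 : x = 1
          · intro g' _; rw [hx1]; group
          apply ihm (mul_mem hxS hxS)
          · have h2 : orderOf (x * x) < orderOf x := by
              obtain ⟨j, hj⟩ := H51.DihedralInv.p_order_of_mem hS hxS
              have hj0 : j ≠ 0 := by
                rintro rfl
                rw [pow_zero, orderOf_eq_one_iff] at hj
                exact hx1 hj
              rw [← pow_two, orderOf_pow, hj]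
              have h3 : (2 ^ j).gcd 2 = 2 := Nat.gcd_eq_right (dvd_pow_self 2 hj0)
              rw [h3]
              exact Nat.div_lt_self (pow_pos (by norm_num) _) (by norm_num)
            omega
          · intro n hn
            have := hx n hn
            calc n * (x * x) * n⁻¹ = (n * x * n⁻¹) * (n * x * n⁻¹) := by group
              _ = x * x := by rw [this]
        -- the new element
        set y := g * x * g⁻¹ with hy
        have hTS : T = cj g S := by
          have h2 : IsPGroup 2 (cj g S) := hS.map _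
          exact (sylow_max (N := ⊤) (by rw [Subgroup.relIndex_top_right]; exact hTi) hTg le_top h2).symm
        -- the largest normal 2-subgroup
        let P := Cfsg.pCore 2 G
        have hPn : P.Normal := inferInstance
        have hPp : IsPGroup 2 P := H13.Cores.isPGroup_pCore
        have hPmax : ∀ N : Subgroup G, N.Normal → IsPGroup 2 N → N ≤ P := fun N hN hNp => H13.Cores.le_pCore hN hNp
        have hsetup : Setup 2 T P y :=
          { hS := hT
            hSi := hTi
            hPn := hPn
            hPp := hPp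
            hPmax := hPmax
            hxP := hPmax D hDn (hT.to_le hDT) hxD
            hx := hJ
            hnc := fun h2 => hne (by
              rw [Subgroup.mem_center_iff.1 h2 k, mul_inv_cancel_right])
            ih := ihH }
        refine core hsetup ?_ hfree
        -- y² central
        rw [Subgroup.mem_center_iff]
        intro q
        have h2 : P ≤ T := hsetup.P_le_S
        have h3 : ∀ q : G, q * (x * x) * q⁻¹ = x * x := by
          intro q
          apply hsq
          have hxP : x ∈ P := by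
            have h4 := hPn.conj_mem y hsetup.hxP g⁻¹
            have h5 : g⁻¹ * y * g⁻¹⁻¹ = x := by rw [hy]; group
            rwa [h5] at h4
          have h6 : q * (x * x) * q⁻¹ ∈ P := hPn.conj_mem _ (mul_mem hxP hxP) q
          have h7 : g * (q * (x * x) * q⁻¹) * g⁻¹ ∈ cj g S := by
            rw [← hTS]; exact h2 (hPn.conj_mem _ h6 g)
          have h8 := mem_cj.1 h7
          have h9 : g⁻¹ * (g * (q * (x * x) * q⁻¹) * g⁻¹) * g = q * (x * x) * q⁻¹ := by group
          rwa [h9] at h8
        have h4 : y * y = x * x := by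
          rw [← h3 g, hy]; group
        rw [h4]
        calc q * (x * x) = (q * (x * x) * q⁻¹) * q := by group
          _ = x * x * q := by rw [h3]
      · -- N proper
        apply hne
        exact ihH N hNtop T hTN hT hTi _ (hDT hxD) (fun n _ hn => hJ n hn) k hk
          (hDT ((mem_normalizer_iff.1 (hND hk) _).1 hxD))

end H51.S4Free
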