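import Mathlib
import Cfsg.Agent.Lib.H51.U3Sub

/-!
Subfield subgroups of three-dimensional unitary groups: the orthonormal normal form.
-/

set_option autoImplicit false
set_option linter.unusedSectionVars false

namespace H51.U3Sub

open Cfsg Cfsg.Geo Matrix H97.AschForm H97.AschNCU H96.AschAdj H97.AschFrame

variable {F : Type*} [Field F] [Fintype F] {n q : ℕ} {σ : F ≃+* F} {F₀ : Subfield F}

/-- binary quadratic forms represent everything -/
lemma binary (hodd : Nat.card F₀ % 2 = 1) {a b c : F} (ha : a ∈ F₀) (hb : b ∈ F₀) (hc : c ∈ F₀) (ha0 : a ≠ 0)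
    (hb0 : b ≠ 0) : ∃ x y : F, x ∈ F₀ ∧ y ∈ F₀ ∧ a * (x * x) + b * (y * y) = c := by
  classical
  have ha' : (⟨a, ha⟩ : F₀) ≠ 0 := fun h => ha0 (congrArg Subtype.val h)
  have hb' : (⟨b, hb⟩ : F₀) ≠ 0 := fun h => hb0 (congrArg Subtype.val h)
  rw [Nat.card_eq_fintype_card] at hodd
  obtain ⟨x, y, hxy⟩ := FiniteField.exists_root_sum_quadratic (R := F₀)
    (f := Polynomial.C (⟨a, ha⟩ : F₀) * Polynomial.X ^ 2 + Polynomial.C 0 * Polynomial.X + Polynomial.C (-⟨c, hc⟩))
    (g := Polynomial.C (⟨b, hb⟩ : F₀) * Polynomial.X ^ 2 + Polynomial.C 0 * Polynomial.X + Polynomial.C 0)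
    (Polynomial.degree_quadratic ha') (Polynomial.degree_quadratic hb') hodd
  refine ⟨x, y, x.2, y.2, ?_⟩
  simp only [Polynomial.eval_add, Polynomial.eval_mul, Polynomial.eval_C, Polynomial.eval_pow, Polynomial.eval_X,
    zero_mul, add_zero] at hxy
  have h1 := congrArg F₀.subtype hxy
  simp only [map_add, map_mul, map_pow, map_neg, map_zero] at h1
  change a * (x : F) ^ 2 + -c + b * (y : F) ^ 2 = 0 at h1
  linear_combination h1

variable {P : GL (Fin 3) F}

lemma smul_add_form (h : Ctx (F := F) σ 3 q) (hc : Fintype.card F = Nat.card F₀ ^ 2) {a b : Fin 3 → F} {x y x' y' : F}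
    (hx' : x' ∈ F₀) (hy' : y' ∈ F₀) (hab : hermForm 3 F q a b = 0) :
    hermForm 3 F q (x • a + y • b) (x' • a + y' • b) =
      x * x' * hermForm 3 F q a a + y * y' * hermForm 3 F q b b := by
  have hS := h.form.sesq
  have hba : hermForm 3 F q b a = 0 := by rw [h.form.herm, hab, map_zero, mul_zero]
  rw [hS.add_left, hS.add_right, hS.add_right, hS.smul_left, hS.smul_left, hS.smul_left, hS.smul_left, hS.smul_right,
    hS.smul_right, hS.smul_right, hS.smul_right, hab, hba, fix_sub h hc hx', fix_sub h hc hy']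
  ring

theorem exists_const (h : Ctx (F := F) σ 3 q) (hc : Fintype.card F = Nat.card F₀ ^ 2) (h2 : (2 : F) ≠ 0)
    (hP : IsFormRationalStructure (hermForm 3 F q) F₀ 1 P) : ∃ (w : Fin 3 → (Fin 3 → F)) (l : F), l ∈ F₀ ∧ l ≠ 0 ∧
      (∀ i, Rat F₀ P (w i)) ∧ ∀ i j, hermForm 3 F q (w i) (w j) = if i = j then l else 0 := by
  classical
  have hS := h.form.sesq
  have hodd : Nat.card F₀ % 2 = 1 := by
    have h4 : ringChar F ≠ 2 := by
      intro h5
      apply h2
      have := ringChar.of_eq h5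
      exact_mod_cast CharP.cast_eq_zero F 2
    have h5 := FiniteField.odd_card_of_char_ne_two h4
    rw [hc] at h5
    rcases Nat.even_or_odd (Nat.card F₀) with h6 | h6
    · exfalso
      obtain ⟨k, hk⟩ := h6
      rw [hk] at h5
      have : (k + k) ^ 2 = 2 * (2 * k * k) := by ring
      rw [this] at h5
      omega
    · exact Nat.odd_iff.mp h6
  obtain ⟨v, hv1, hv2, hv3⟩ := exists_orth h hc h2 hP
  have hd : ∀ i, hermForm 3 F q (v i) (v i) ∈ F₀ := by
    intro i
    obtain ⟨z, hz, hz'⟩ := hv1 i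
    have h4 := hP z z hz hz
    rwa [one_mul, hz'] at h4
  set d0 := hermForm 3 F q (v 0) (v 0) with hd0
  set d1 := hermForm 3 F q (v 1) (v 1) with hd1
  set d2 := hermForm 3 F q (v 2) (v 2) with hd2
  have m0 : d0 ∈ F₀ := hd 0
  have m1 : d1 ∈ F₀ := hd 1
  have m2 : d2 ∈ F₀ := hd 2
  have n0 : d0 ≠ 0 := hv2 0
  have n1 : d1 ≠ 0 := hv2 1
  have n2 : d2 ≠ 0 := hv2 2
  have o01 := hv3 0 1 (by decide)
  have o02 := hv3 0 2 (by decide)
  have o12 := hv3 1 2 (by decide)
  have hl : d0 * d1 * d2 ∈ F₀ := F₀.mul_mem (F₀.mul_mem m0 m1) m2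
  obtain ⟨x, y, hx, hy, hxy⟩ := binary hodd m0 m1 hl n0 n1
  obtain ⟨x', y', hx', hy', hxy'⟩ := binary hodd m2 m2 hl n2 n2
  have hX : -((d0 * d1)⁻¹ * (d1 * y)) ∈ F₀ := F₀.neg_mem (F₀.mul_mem (F₀.inv_mem (F₀.mul_mem m0 m1)) (F₀.mul_mem m1 hy))
  have hY : (d0 * d1)⁻¹ * (d0 * x) ∈ F₀ := F₀.mul_mem (F₀.inv_mem (F₀.mul_mem m0 m1)) (F₀.mul_mem m0 hx)
  set X := -((d0 * d1)⁻¹ * (d1 * y)) with hXd
  set Y := (d0 * d1)⁻¹ * (d0 * x) with hYd
  set u := x • v 0 + y • v 1 with hu
  set t := X • v 0 + Y • v 1 with ht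
  have ruu : hermForm 3 F q u u = d0 * d1 * d2 := by
    rw [hu, smul_add_form h hc hx hy o01, ← hxy, ← hd0, ← hd1]; ring
  have rut : hermForm 3 F q u t = 0 := by
    rw [hu, ht, smul_add_form h hc hX hY o01, ← hd0, ← hd1, hXd, hYd]
    ring
  have rtt : hermForm 3 F q t t = d2 := by
    rw [ht, smul_add_form h hc hX hY o01, ← hd0, ← hd1, hXd, hYd]
    have h7 : d0 * d1 ≠ 0 := mul_ne_zero n0 n1
    field_simp
    linear_combination hxy
  have ru2 : hermForm 3 F q u (v 2) = 0 := by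
    rw [hu, hS.add_left, hS.smul_left, hS.smul_left, o02, o12]; ring
  have rt2 : hermForm 3 F q t (v 2) = 0 := by
    rw [ht, hS.add_left, hS.smul_left, hS.smul_left, o02, o12]; ring
  set p := x' • t + y' • v 2 with hp
  set s := (-y') • t + x' • v 2 with hs
  have rpp : hermForm 3 F q p p = d0 * d1 * d2 := by
    rw [hp, smul_add_form h hc hx' hy' rt2, rtt, ← hd2, ← hxy']; ring
  have rps : hermForm 3 F q p s = 0 := by
    rw [hp, hs, smul_add_form h hc (F₀.neg_mem hy') hx' rt2, rtt, ← hd2]; ring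
  have rss : hermForm 3 F q s s = d0 * d1 * d2 := by
    rw [hs, smul_add_form h hc (F₀.neg_mem hy') hx' rt2, rtt, ← hd2, ← hxy']; ring
  have rup : hermForm 3 F q u p = 0 := by
    rw [hp, hS.add_right, hS.smul_right, hS.smul_right, rut, ru2]; ring
  have rus : hermForm 3 F q u s = 0 := by
    rw [hs, hS.add_right, hS.smul_right, hS.smul_right, rut, ru2]; ring
  have rpu : hermForm 3 F q p u = 0 := by rw [h.form.herm, rup, map_zero, mul_zero]
  have rsu : hermForm 3 F q s u = 0 := by rw [h.form.herm, rus, map_zero, mul_zero]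
  have rsp : hermForm 3 F q s p = 0 := by rw [h.form.herm, rps, map_zero, mul_zero]
  have Ru : Rat F₀ P u := ((hv1 0).smul hx).add ((hv1 1).smul hy)
  have Rt : Rat F₀ P t := ((hv1 0).smul hX).add ((hv1 1).smul hY)
  have Rp : Rat F₀ P p := (Rt.smul hx').add ((hv1 2).smul hy')
  have Rs : Rat F₀ P s := (Rt.smul (F₀.neg_mem hy')).add ((hv1 2).smul hx')
  refine ⟨![u, p, s], d0 * d1 * d2, hl, mul_ne_zero (mul_ne_zero n0 n1) n2, ?_, ?_⟩
  · intro i
    fin_cases i
    · exact Ru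
    · exact Rp
    · exact Rs
  · intro i j
    fin_cases i <;> fin_cases j
    · exact ruu
    · exact rup
    · exact rus
    · exact rpu
    · exact rpp
    · exact rps
    · exact rsu
    · exact rsp
    · exact rss

/-- **the elements of a subfield subgroup in an orthonormal frame** -/
theorem exists_orthn (h : Ctx (F := F) σ 3 q) (hc : Fintype.card F = Nat.card F₀ ^ 2) (h2 : (2 : F) ≠ 0)
    (hP : IsFormRationalStructure (hermForm 3 F q) F₀ 1 P) :
    ∃ w : Fin 3 → (Fin 3 → F), (∀ i j, hermForm 3 F q (w i) (w j) = if i = j then 1 else 0) ∧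
      ∀ g ∈ subfieldSubgroup F₀ P ⊓ (GU 3 F q ⊓ specialLinear (Fin 3) F), ∃ (c : F) (a : Fin 3 → Fin 3 → F),
        c * σ c = 1 ∧ (∀ i j, a i j ∈ F₀) ∧ (∀ i j, ∑ k, a i k * a j k = if i = j then 1 else 0) ∧
        ∀ i, (g : Matrix (Fin 3) (Fin 3) F) *ᵥ w i = c • ∑ k, a i k • w k := by
  classical
  have hS := h.form.sesq
  obtain ⟨w, l, hl, hl0, hw, hww⟩ := exists_const h hc h2 hP
  have hσl : σ l = l := fix_sub h hc hl
  obtain ⟨b, hb0, hb⟩ := h.norm (c := l⁻¹) (inv_ne_zero hl0) (by rw [map_inv₀, hσl])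
  refine ⟨fun i => b • w i, fun i j => ?_, ?_⟩
  · rw [hS.smul_left, hS.smul_right, hww]
    by_cases hij : i = j
    · rw [if_pos hij, if_pos hij, ← mul_assoc, hb, inv_mul_cancel₀ hl0]
    · rw [if_neg hij, if_neg hij, mul_zero, mul_zero]
  rintro g ⟨hg, hgU, -⟩
  have hgU' : ∀ u v, hermForm 3 F q ((g : Matrix (Fin 3) (Fin 3) F) *ᵥ u) ((g : Matrix (Fin 3) (Fin 3) F) *ᵥ v) =
      hermForm 3 F q u v := hgU
  obtain ⟨c, hc0, hact⟩ := sub_act hg
  choose y hy hgy using fun i => hact (w i) (hw i)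
  have hcoef : ∀ (x : Fin 3 → F) k, hermForm 3 F q (∑ j, x j • w j) (w k) = x k * l := by
    intro x k
    rw [hS.sum_left, Finset.sum_eq_single k]
    · rw [hS.smul_left, hww, if_pos rfl]
    · intro j _ hj
      rw [hS.smul_left, hww, if_neg hj, mul_zero]
    · intro h; exact absurd (Finset.mem_univ _) h
  have hli : LinearIndependent F w := by
    rw [Fintype.linearIndependent_iff]
    intro x hx i
    have h1 := hcoef x i
    rw [hx, hS.zero_left] at h1
    exact (mul_eq_zero.mp h1.symm).resolve_right hl0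
  let bs := basisOfLinearIndependentOfCardEqFinrank hli (by simp)
  have hbs : ⇑bs = w := coe_basisOfLinearIndependentOfCardEqFinrank _ _
  have hexp : ∀ x, x = ∑ k, (l⁻¹ * hermForm 3 F q x (w k)) • w k := by
    intro x
    have h1 := bs.sum_repr x
    rw [hbs] at h1
    have h2 : ∀ k, hermForm 3 F q x (w k) = bs.repr x k * l := by
      intro k
      rw [← hcoef (fun j => bs.repr x j) k, h1]
    calc x = ∑ j, bs.repr x j • w j := h1.symm
      _ = _ := by
        refine Finset.sum_congr rfl fun k _ => ?_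
        rw [h2]
        congr 1
        field_simp
  set a : Fin 3 → Fin 3 → F := fun i k => l⁻¹ * hermForm 3 F q (y i) (w k) with ha
  have haF : ∀ i k, a i k ∈ F₀ := by
    intro i k
    obtain ⟨z, hz, hz'⟩ := hy i
    obtain ⟨t, ht, ht'⟩ := hw k
    have h4 := hP z t hz ht
    rw [one_mul, hz', ht'] at h4
    exact F₀.mul_mem (F₀.inv_mem hl) h4
  have hσa : ∀ i k, σ (a i k) = a i k := fun i k => fix_sub h hc (haF i k)
  have hyy : ∀ i j, hermForm 3 F q (y i) (y j) = l * ∑ k, a i k * a j k := by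
    intro i j
    conv_lhs => rw [hexp (y j)]
    rw [hS.sum_right, Finset.mul_sum]
    refine Finset.sum_congr rfl fun k _ => ?_
    rw [hS.smul_right]
    change σ (a j k) * _ = _
    rw [hσa]
    simp only [ha]
    field_simp
  have hN : ∀ i j, (c * σ c) * ∑ k, a i k * a j k = if i = j then 1 else 0 := by
    intro i j
    have h1 := hgU' (w i) (w j)
    rw [hgy, hgy, hS.smul_left, hS.smul_right, hyy, hww] at h1
    by_cases hij : i = j
    · rw [if_pos hij] at h1 ⊢
      have : l * ((c * σ c) * ∑ k, a i k * a j k) = l * 1 := by rw [mul_one]; linear_combination h1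
      exact mul_left_cancel₀ hl0 this
    · rw [if_neg hij] at h1 ⊢
      have : l * ((c * σ c) * ∑ k, a i k * a j k) = l * 0 := by rw [mul_zero]; linear_combination h1
      exact mul_left_cancel₀ hl0 this
  have hNF : c * σ c ∈ F₀ := by
    have h1 := hN 0 0
    rw [if_pos rfl] at h1
    rw [eq_inv_of_mul_eq_one_left h1]
    exact F₀.inv_mem (F₀.sum_mem fun k _ => F₀.mul_mem (haF _ _) (haF _ _))
  obtain ⟨m, hm, hmm⟩ : ∃ m ∈ F₀, m * m = c * σ c := by
    have h1 : (c * σ c) • (Matrix.of a * (Matrix.of a)ᵀ) = (1 : Matrix (Fin 3) (Fin 3) F) := by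
      ext i j
      rw [Matrix.smul_apply, Matrix.mul_apply, Matrix.one_apply, ← hN i j]
      rfl
    have h2 := congrArg Matrix.det h1
    rw [Matrix.det_smul, Matrix.det_mul, Matrix.det_transpose, Matrix.det_one, Fintype.card_fin] at h2
    have h4 : (Matrix.of a).det ∈ F₀ := by
      rw [Matrix.det_fin_three]
      refine F₀.sub_mem (F₀.add_mem (F₀.add_mem (F₀.sub_mem (F₀.sub_mem ?_ ?_) ?_) ?_) ?_) ?_ <;>
        exact F₀.mul_mem (F₀.mul_mem (haF _ _) (haF _ _)) (haF _ _)
    set D := (Matrix.of a).det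
    set N := c * σ c
    have hND : N * D ≠ 0 := by
      intro h0
      have : N ^ 3 * (D * D) = N * ((N * D) * (N * D)) := by ring
      rw [this, h0] at h2
      simp at h2
    refine ⟨(N * D)⁻¹, F₀.inv_mem (F₀.mul_mem hNF h4), ?_⟩
    have h5 : N * ((N * D) * (N * D)) = 1 := by rw [← h2]; ring
    rw [← mul_inv]
    exact inv_eq_of_mul_eq_one_left h5
  have hm0 : m ≠ 0 := by
    intro h0
    have h1 := hN 0 0
    rw [if_pos rfl, ← hmm, h0] at h1
    simp at h1
  have hσm : σ m = m := fix_sub h hc hm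
  refine ⟨c * m⁻¹, fun i k => m * a i k, ?_, fun i k => F₀.mul_mem hm (haF i k), fun i j => ?_, fun i => ?_⟩
  · rw [map_mul, map_inv₀, hσm]
    have : c * m⁻¹ * (σ c * m⁻¹) = (c * σ c) * (m * m)⁻¹ := by rw [mul_inv]; ring
    rw [this, ← hmm]
    exact mul_inv_cancel₀ (mul_ne_zero hm0 hm0)
  · rw [← hN i j, Finset.mul_sum]
    refine Finset.sum_congr rfl fun k _ => ?_
    linear_combination (a i k * a j k) * hmm
  · rw [Matrix.mulVec_smul, hgy]
    have h6 : y i = ∑ k, a i k • w k := hexp (y i)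
    rw [h6, Finset.smul_sum, Finset.smul_sum, Finset.smul_sum]
    refine Finset.sum_congr rfl fun k _ => ?_
    rw [smul_smul, smul_smul, smul_smul, smul_smul]
    congr 1
    field_simp

end H51.U3Sub
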